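import Cfsg.Agent.Lib.Known.Overgroup.Descent
import Cfsg.Agent.Lib.Known.ChevFoldData
import Cfsg.Agent.Lib.Lie.Twisted.Tools

/-!
# Twisted fixed points: rows of roots and leading coefficients

`γ` permutes the root elements up to sign, `σ` is a map of the field, `P` a group of points fixed by `γσ`.
-/

set_option autoImplicit false

namespace CfsgLib.Known.Overgroup.Twisted

open Cfsg.Lie (ChevalleyDatum)
open CfsgLib.Lie.Chev
open CfsgLib.Known.ChevFold
open scoped Matrix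

/-- one step along the table, on a member of a row -/
def stepQ (D : ChevalleyDatum) (T : List (ℕ × ℤ × ℕ)) (q : ℕ × ℤ) : ℕ × ℤ :=
  ((twAt D T q.1).1, q.2 * (twAt D T q.1).2.1)

/-- the table permutes the roots keeping heights, and the rows are its cycles -/
def chkTwRows (D Hd : ChevalleyDatum) (X : Aux) (T : List (ℕ × ℤ × ℕ)) (Q : List (List (ℕ × ℤ))) : Bool :=
  ((List.range D.nroots).all fun r => Nat.blt (twAt D T r).1 D.nroots &&
    decide ((twAt D T r).2.1 = 1 ∨ (twAt D T r).2.1 = -1) &&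
    decide (ht D X (twAt D T r).1 = ht D X r) &&
    (List.range Hd.nroots).any fun a => (rowAt Q a).any fun q => Nat.beq q.1 r) &&
  decide ((List.range D.nroots).map fun r => (twAt D T r).1).Nodup &&
  (List.range Hd.nroots).all fun a => decide ((rowAt Q a).map (stepQ D T) = (rowAt Q a).rotate 1) &&
    !(rowAt Q a).isEmpty && decide ((rowAt Q a).map Prod.fst).Nodup &&
    (rowAt Q a).all fun q => decide (q.2 = 1 ∨ q.2 = -1) && (Nat.blt q.1 (half D) == Nat.blt a (half Hd)) &&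
      (rowAt Q a).all fun q' => decide (ht D X q.1 = ht D X q'.1)

section Word

variable {D : ChevalleyDatum} {X : Aux} (C : Cert D X) {k : Type*} [Field k]

/-- coefficient of a word at a root of the lowest level -/
theorem hasCoef_wordG {m : ℤ} (hm : 1 ≤ m) :
    ∀ l : List (ℕ × k), (∀ q ∈ l, q.1 < D.nroots ∧ m ≤ ht D X q.1) →
      wordG C l ∈ (rawG C).RS (hS D X m) ∧ ∀ r : Fin D.nroots, ht D X r = m →
        HasCoef C (wordG C l) r (l.map fun q => if q.1 = (r : ℕ) then q.2 else 0).sum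
  | [], _ => ⟨by simp [wordG], fun r _ => by simpa [wordG] using hasCoef_one C r⟩
  | q :: l, hl => by
    obtain ⟨h1, h2⟩ := hasCoef_wordG hm l fun x hx => hl x (List.mem_cons_of_mem _ hx)
    obtain ⟨hlt, hht⟩ := hl q List.mem_cons_self
    have hx : xG C k ((⟨q.1, hlt⟩ : Fin D.nroots) : ℕ) q.2 ∈ (rawG C).RS (hS D X m) :=
      (rawG C).xe_mem_RS (r := ⟨q.1, hlt⟩) hht _
    refine ⟨by rw [wordG_cons]; exact mul_mem hx h1, fun r hr => ?_⟩
    rw [wordG_cons, List.map_cons, List.sum_cons]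
    have h := hasCoef_mul C hm hx h1 hr (hasCoef_xe C ⟨q.1, hlt⟩ r q.2) (h2 r hr)
    simpa only [Fin.ext_iff] using h

theorem wordG_mem_US {S : Set (Fin D.nroots)} {l : List (ℕ × k)}
    (hl : ∀ q ∈ l, ∃ h : q.1 < D.nroots, (⟨q.1, h⟩ : Fin D.nroots) ∈ S) :
    wordG C l ∈ (chevRel C k).US S := by
  refine list_prod_mem fun x hx => ?_
  obtain ⟨q, hq, rfl⟩ := List.mem_map.1 hx
  obtain ⟨h, hS⟩ := hl q hq
  exact (chevRel C k).xe_mem_US (r := ⟨q.1, h⟩) hS _

/-- a row is a word -/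
theorem listG_eq_wordG (L : List (ℕ × ℤ)) (t : k) :
    listG C L t = wordG C (L.map fun q => (q.1, (q.2 : k) * t)) := by
  simp [listG, wordG, List.map_map, Function.comp_def]

end Word

/-- the data: rows, table, field map, automorphism and group -/
structure TwCtx {D : ChevalleyDatum} {X : Aux} (C : Cert D X) (k : Type*) [Field k] where
  /-- the type of the fixed points -/
  Hd : ChevalleyDatum
  /-- rows -/
  Q : List (List (ℕ × ℤ))
  /-- table -/
  T : List (ℕ × ℤ × ℕ)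
  /-- the field map -/
  σ : k →+* k
  /-- the automorphism -/
  γ : ↥(D.group k) →* ↥(D.group k)
  /-- the twisted group -/
  P : Subgroup ↥(D.group k)
  hQ : chkRows D Hd 0 Q = true
  hsh : chkTwRows D Hd X T Q = true
  hγ : ∀ r t, r < D.nroots → γ (xG C k r t) = xG C k (twAt D T r).1 (((twAt D T r).2.1 : k) * t)
  hP : ∀ g ∈ P, γ (sg D σ g) = g
  hUP : ∀ g ∈ (chevRel C k).UP, γ (sg D σ g) = g → g ∈ P
  hUN : ∀ g ∈ (chevRel C k).UN, γ (sg D σ g) = g → g ∈ P

namespace TwCtx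

variable {D : ChevalleyDatum} {X : Aux} {C : Cert D X} {k : Type*} [Field k] (S : TwCtx C k)

/-- the row of the root `a` of the folded type -/
def row (a : ℕ) : List (ℕ × ℤ) := rowAt S.Q a

/-- the twisting endomorphism -/
def τ : ↥(D.group k) →* ↥(D.group k) := S.γ.comp (sg D S.σ)

theorem tw_spec {r : ℕ} (hr : r < D.nroots) :
    (twAt D S.T r).1 < D.nroots ∧ ((twAt D S.T r).2.1 = 1 ∨ (twAt D S.T r).2.1 = -1) ∧
      ht D X (twAt D S.T r).1 = ht D X r ∧ ∃ a, a < S.Hd.nroots ∧ ∃ q ∈ S.row a, q.1 = r := by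
  have h := S.hsh
  simp only [chkTwRows, Bool.and_eq_true, List.all_eq_true, List.mem_range, decide_eq_true_eq,
    List.any_eq_true, nat_beq_iff, nat_blt_iff] at h
  obtain ⟨⟨⟨h1, h2⟩, h3⟩, h4⟩ := h.1.1 r hr
  exact ⟨h1, h2, h3, h4⟩

/-- the permutation of the roots -/
def ρ (r : Fin D.nroots) : Fin D.nroots := ⟨(twAt D S.T r).1, (S.tw_spec r.2).1⟩

theorem ρ_injective : Function.Injective S.ρ := fun a b h => by
  have hh := S.hsh
  simp only [chkTwRows, Bool.and_eq_true, decide_eq_true_eq] at hh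
  exact Fin.ext (List.inj_on_of_nodup_map hh.1.2 (List.mem_range.2 a.2) (List.mem_range.2 b.2)
    (congrArg Fin.val h))

theorem row_spec {a : ℕ} (ha : a < S.Hd.nroots) :
    (S.row a).map (stepQ D S.T) = (S.row a).rotate 1 ∧ S.row a ≠ [] ∧ ((S.row a).map Prod.fst).Nodup ∧
      ∀ q ∈ S.row a, q.1 < D.nroots ∧ (q.2 = 1 ∨ q.2 = -1) ∧ (half D ≤ q.1 ↔ half S.Hd ≤ a) ∧
        ∀ q' ∈ S.row a, ht D X q.1 = ht D X q'.1 := by
  have h := S.hsh
  simp only [chkTwRows, Bool.and_eq_true, List.all_eq_true, List.mem_range, decide_eq_true_eq,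
    Bool.not_eq_true', List.isEmpty_eq_false_iff, beq_iff_eq] at h
  obtain ⟨⟨⟨h1, h2⟩, h3⟩, h4⟩ := h.2 a ha
  refine ⟨h1, h2, h3, fun q hq => ⟨(rows_props S.hQ ha).1 q hq, (h4 q hq).1.1, ?_, (h4 q hq).2⟩⟩
  have h5 := (h4 q hq).1.2
  constructor
  · intro hh
    by_contra hc
    rw [nat_blt_iff.2 (not_le.1 hc)] at h5
    exact absurd (nat_blt_iff.1 h5) (not_lt.2 hh)
  · intro hh
    by_contra hc
    rw [nat_blt_iff.2 (not_le.1 hc)] at h5
    exact absurd (nat_blt_iff.1 h5.symm) (not_lt.2 hh)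

theorem τ_xe {r : ℕ} (hr : r < D.nroots) (t : k) :
    S.τ (xG C k r t) = xG C k (twAt D S.T r).1 (((twAt D S.T r).2.1 : k) * S.σ t) := by
  show S.γ (sg D S.σ ((chevRel C k).xe r t)) = _
  rw [sg_xe C]
  exact S.hγ r _ hr

theorem τ_wordG : ∀ l : List (ℕ × k), (∀ q ∈ l, q.1 < D.nroots) → S.τ (wordG C l) =
    wordG C (l.map fun q => ((twAt D S.T q.1).1, ((twAt D S.T q.1).2.1 : k) * S.σ q.2))
  | [], _ => by simp [wordG]
  | q :: l, hl => by
    rw [wordG_cons, map_mul, τ_wordG l (fun x hx => hl x (List.mem_cons_of_mem _ hx)),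
      S.τ_xe (hl q List.mem_cons_self), List.map_cons, wordG_cons]

/-- a permutation of a word over one row does not matter -/
theorem wordG_row_perm {a : ℕ} (ha : a < S.Hd.nroots) {l l' : List (ℕ × k)} (h : l.Perm l')
    (hl : ∀ q ∈ l, q.1 ∈ (S.row a).map Prod.fst) : wordG C l = wordG C l' := by
  refine List.Perm.prod_eq' (h.map _) ?_
  rw [List.pairwise_map]
  refine List.pairwise_of_forall_mem_list fun x hx y hy => ?_
  exact commute_of_twComm C (p := 0) Nat.cast_zero (rows_props S.hQ ha).2 (hl x hx) (hl y hy) _ _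

/-- rows with fixed parameters are fixed -/
theorem τ_row {a : ℕ} (ha : a < S.Hd.nroots) {t : k} (ht' : S.σ t = t) :
    S.τ (listG C (S.row a) t) = listG C (S.row a) t := by
  rw [listG_eq_wordG, S.τ_wordG _ (fun q hq => by
    obtain ⟨x, hx, rfl⟩ := List.mem_map.1 hq
    exact ((S.row_spec ha).2.2.2 x hx).1), List.map_map]
  have e : ((fun q : ℕ × k => ((twAt D S.T q.1).1, ((twAt D S.T q.1).2.1 : k) * S.σ q.2)) ∘
      fun q : ℕ × ℤ => (q.1, (q.2 : k) * t)) = (fun q : ℕ × ℤ => (q.1, (q.2 : k) * t)) ∘ stepQ D S.T := by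
    funext q
    simp only [Function.comp_apply, stepQ, map_mul, map_intCast, ht', Int.cast_mul, Prod.mk.injEq, true_and]
    ring
  rw [e, ← List.map_map, (S.row_spec ha).1]
  refine (S.wordG_row_perm ha (((List.rotate_perm (S.row a) 1).symm).map _) fun q hq => ?_).symm
  obtain ⟨x, hx, rfl⟩ := List.mem_map.1 hq
  exact List.mem_map_of_mem hx

theorem sg_row (a : ℕ) (t : k) : sg D S.σ (listG C (S.row a) t) = listG C (S.row a) (S.σ t) := by
  simp only [listG, map_list_prod, List.map_map]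
  congr 1
  refine List.map_congr_left fun q _ => ?_
  show sg D S.σ ((chevRel C k).xe q.1 _) = xG C k q.1 _
  rw [sg_xe C, map_mul, map_intCast]
  rfl

theorem row_mem_rat (a : ℕ) {t : k} (ht' : S.σ t = t) : listG C (S.row a) t ∈ rat D S.σ := by
  rw [mem_rat, S.sg_row, ht']

theorem row_mem_P {a : ℕ} (ha : a < S.Hd.nroots) {t : k} (ht' : S.σ t = t) : listG C (S.row a) t ∈ S.P := by
  by_cases hp : half S.Hd ≤ a
  · refine S.hUP _ (listG_eq_wordG C (S.row a) t ▸ wordG_mem_US C fun q hq => ?_) (S.τ_row ha ht')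
    obtain ⟨x, hx, rfl⟩ := List.mem_map.1 hq
    obtain ⟨h1, -, h3, -⟩ := (S.row_spec ha).2.2.2 x hx
    exact ⟨h1, h3.2 hp⟩
  · refine S.hUN _ (listG_eq_wordG C (S.row a) t ▸ wordG_mem_US C fun q hq => ?_) (S.τ_row ha ht')
    obtain ⟨x, hx, rfl⟩ := List.mem_map.1 hq
    obtain ⟨h1, -, h3, -⟩ := (S.row_spec ha).2.2.2 x hx
    exact ⟨h1, fun h => hp (h3.1 h)⟩

/-- the points of `P` over the fixed field -/
def M : Subgroup ↥(D.group k) := S.P ⊓ rat D S.σ

theorem row_mem_M {a : ℕ} (ha : a < S.Hd.nroots) {t : k} (ht' : S.σ t = t) : listG C (S.row a) t ∈ S.M :=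
  Subgroup.mem_inf.2 ⟨S.row_mem_P ha ht', S.row_mem_rat a ht'⟩

/-- coefficients of fixed elements follow the table -/
theorem coef_τ {m : ℤ} (hm : 1 ≤ m) {z : ↥(D.group k)} (hz : z ∈ (rawG C).RS (hS D X m)) (hfix : S.τ z = z)
    {r : Fin D.nroots} (hr : ht D X r = m) {t : k} (hc : HasCoef C z r t) :
    HasCoef C z (S.ρ r) (((twAt D S.T r).2.1 : k) * S.σ t) := by
  have hlev : ∀ y ∈ (rawG (F := k) C).RS (hS D X m), S.τ y ∈ (rawG C).RS (hS D X m) := by
    intro y hy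
    refine (show (rawG (F := k) C).RS (hS D X m) ≤ ((rawG C).RS (hS D X m)).comap S.τ from
      (rawG C).RS_le fun s hs u => ?_) hy
    show S.τ (xG C k s u) ∈ (rawG (F := k) C).RS (hS D X m)
    rw [S.τ_xe s.2]
    refine (rawG C).xe_mem_RS (r := S.ρ s) ?_ _
    show m ≤ ht D X (twAt D S.T s).1
    rw [(S.tw_spec s.2).2.2.1]
    exact hs
  have hr' : ht D X (S.ρ r : ℕ) = m := (S.tw_spec r.2).2.2.1.trans hr
  suffices key : z ∈ (rawG C).RS (hS D X m) ∧ ∃ t, HasCoef C z r t ∧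
      HasCoef C (S.τ z) (S.ρ r) (((twAt D S.T r).2.1 : k) * S.σ t) by
    obtain ⟨-, t', h1, h2⟩ := key
    rw [hasCoef_unique C hc h1]
    rwa [hfix] at h2
  refine closure_induction_symm (p := fun y : ↥(D.group k) => y ∈ (rawG C).RS (hS D X m) ∧ ∃ t, HasCoef C y r t ∧
      HasCoef C (S.τ y) (S.ρ r) (((twAt D S.T r).2.1 : k) * S.σ t)) (rawG C).gens_symm
    ⟨one_mem _, 0, hasCoef_one C r, by rw [map_one, map_zero, mul_zero]; exact hasCoef_one C _⟩ ?_ hz
  rintro _ ⟨s, hs, u, rfl⟩ y ⟨hy, t, h1, h2⟩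
  have hx := (rawG (F := k) C).xe_mem_RS hs u
  refine ⟨mul_mem hx hy, _, hasCoef_mul C hm hx hy hr (hasCoef_xe C s r u) h1, ?_⟩
  rw [map_mul, map_add, mul_add]
  refine hasCoef_mul C hm (hlev _ hx) (hlev _ hy) hr' ?_ h2
  show HasCoef C (S.τ (xG C k s u)) _ _
  rw [S.τ_xe s.2]
  have h := hasCoef_xe C (S.ρ s) (S.ρ r) (((twAt D S.T s).2.1 : k) * S.σ u)
  simp only [S.ρ_injective.eq_iff] at h
  split_ifs with hsr
  · subst hsr
    rw [if_pos rfl] at h
    exact h
  · rw [if_neg hsr] at h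
    rw [map_zero, mul_zero]
    exact h

end TwCtx

end CfsgLib.Known.Overgroup.Twisted
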