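import Cfsg.Agent.Lib.Known.Overgroup.Twisted.Basic
import Cfsg.Agent.Lib.Known.Overgroup.Kill

/-!
# Rows: selected commutator relations and derived rows
-/

set_option autoImplicit false

namespace CfsgLib.Known.Overgroup.Twisted

open Cfsg.Lie (ChevalleyDatum)
open CfsgLib.Lie.Chev
open CfsgLib.Known.ChevFold
open scoped Matrix

/-- the commutator relation between two rows -/
def chkRelPair (D Hd : ChevalleyDatum) (f : ℕ) (Q : List (List (ℕ × ℤ))) (a b : ℕ) : Bool :=
  eqSome (Collect.collect D 0 f (rowTerms Q b 1 0 1 ++ rowTerms Q a 1 1 0))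
    (Collect.collect D 0 f (rowTerms Q a 1 1 0 ++ rowTerms Q b 1 0 1 ++
      (Hd.commTerms a b).flatMap fun c => rowTerms Q c.1 (c.2.1 * (-1) ^ c.2.2.1) c.2.2.1 c.2.2.2))

/-- the relations needed for a list of derived rows -/
def chkRelOn (D Hd : ChevalleyDatum) (f : ℕ) (Q : List (List (ℕ × ℤ))) (L : List (ℕ × ℕ × ℕ)) : Bool :=
  L.all fun e => chkRelPair D Hd f Q e.1 e.2.1

/-- rows which are commutators modulo known ones -/
def chkDerRows (Hd : ChevalleyDatum) (m : ℕ) : List (ℕ × ℕ × ℕ) → ℕ → Bool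
  | [], _ => true
  | (a, b, u) :: L, M =>
    Nat.blt a Hd.nroots && Nat.blt b Hd.nroots && Nat.ble (half Hd) a && Nat.ble (half Hd) b &&
      ((Hd.commTerms a b).all fun c => Nat.beq c.1 u || M.testBit c.1 || zc m c.2.1) &&
      Nat.beq ((Hd.commTerms a b).filter fun c => Nat.beq c.1 u).length 1 &&
      ((Hd.commTerms a b).all fun c => !Nat.beq c.1 u || (uc m c.2.1 && (Nat.beq c.2.2.1 1 || Nat.beq c.2.2.2 1))) &&
      chkDerRows Hd m L (M ||| 2 ^ u)

variable {D : ChevalleyDatum} {X : Aux} {C : Cert D X} {k : Type*} [Field k]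

theorem rowG_comm_pair {Hd : ChevalleyDatum} {Q : List (List (ℕ × ℤ))} {f a b : ℕ}
    (h : chkRelPair D Hd f Q a b = true) (t u : k) :
    rowG C Q b u * rowG C Q a t =
      rowG C Q a t * rowG C Q b u * ((Hd.commWord k a b t u).map fun q => rowG C Q q.1 q.2).prod := by
  have hp : ((0 : ℕ) : k) = 0 := Nat.cast_zero
  rw [chkRelPair] at h
  cases hA : Collect.collect D 0 f (rowTerms Q b 1 0 1 ++ rowTerms Q a 1 1 0) with
  | none => rw [hA] at h; exact absurd h Bool.false_ne_true
  | some A =>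
    rw [hA] at h
    cases hB : Collect.collect D 0 f (rowTerms Q a 1 1 0 ++ rowTerms Q b 1 0 1 ++
        (Hd.commTerms a b).flatMap fun c => rowTerms Q c.1 (c.2.1 * (-1) ^ c.2.2.1) c.2.2.1 c.2.2.2) with
    | none => rw [hB] at h; exact absurd h Bool.false_ne_true
    | some B =>
      rw [hB] at h
      simp only [eqSome, decide_eq_true_iff] at h
      subst h
      have e := Collect.word_eq_of_collect (chevRel C k) t u hp hA hB
      simp only [Collect.word_append, word_rowTerms, Int.cast_one, one_mul, pow_zero, pow_one, mul_one] at e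
      rw [e]
      congr 1
      exact word_flat C t u _

namespace TwCtx

variable (S : TwCtx C k)

/-- positive unipotent points over the fixed field -/
def UM : Subgroup ↥(D.group k) := (chevRel C k).UP ⊓ S.M

theorem row_add {a : ℕ} (ha : a < S.Hd.nroots) (t u : k) :
    rowG C S.Q a t * rowG C S.Q a u = rowG C S.Q a (t + u) :=
  rowG_add C (Nat.cast_zero (R := k)) S.hQ ha t u

theorem row_zero (a : ℕ) : rowG C S.Q a (0 : k) = 1 := by
  refine List.prod_eq_one fun x hx => ?_
  obtain ⟨q, -, rfl⟩ := List.mem_map.1 hx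
  rw [mul_zero]
  exact (chevRel C k).xe_zero _

theorem row_inv {a : ℕ} (ha : a < S.Hd.nroots) (t : k) : (rowG C S.Q a t)⁻¹ = rowG C S.Q a (-t) :=
  inv_eq_of_mul_eq_one_right (by rw [S.row_add ha, add_neg_cancel, S.row_zero])

theorem row_pow {a : ℕ} (ha : a < S.Hd.nroots) (t : k) :
    ∀ i : ℕ, rowG C S.Q a t ^ i = rowG C S.Q a ((i : k) * t)
  | 0 => by rw [pow_zero, Nat.cast_zero, zero_mul, S.row_zero]
  | i + 1 => by rw [pow_succ, row_pow ha t i, S.row_add ha, Nat.cast_succ, add_mul, one_mul]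

theorem row_mem_UP {a : ℕ} (ha : a < S.Hd.nroots) (hpos : half S.Hd ≤ a) (t : k) :
    rowG C S.Q a t ∈ (chevRel C k).UP := by
  show listG C (S.row a) t ∈ _
  rw [listG_eq_wordG]
  refine wordG_mem_US C fun q hq => ?_
  obtain ⟨x, hx, rfl⟩ := List.mem_map.1 hq
  obtain ⟨h1, -, h3, -⟩ := (S.row_spec ha).2.2.2 x hx
  exact ⟨h1, h3.2 hpos⟩

theorem row_mem_UM {a : ℕ} (ha : a < S.Hd.nroots) (hpos : half S.Hd ≤ a) {t : k} (ht' : S.σ t = t) :
    rowG C S.Q a t ∈ S.UM :=
  Subgroup.mem_inf.2 ⟨S.row_mem_UP ha hpos t, S.row_mem_M ha ht'⟩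

variable {m : ℕ} (hm : ModeOK k m) {N : Subgroup ↥(D.group k)}
  (hcomm : ∀ x ∈ S.UM, ∀ y ∈ S.UM, x * y * x⁻¹ * y⁻¹ ∈ N)

include hm hcomm

/-- derived rows lie in `N` -/
theorem der_rows {f : ℕ} : ∀ (L : List (ℕ × ℕ × ℕ)) (M : ℕ), chkDerRows S.Hd m L M = true →
    chkRelOn D S.Hd f S.Q L = true →
    (∀ r, M.testBit r = true → ∀ t : k, S.σ t = t → rowG C S.Q r t ∈ N) →
    ∀ r, (derMask L M).testBit r = true → ∀ t : k, S.σ t = t → rowG C S.Q r t ∈ N
  | [], M, _, _, hM => hM
  | (a, b, u) :: L, M, h, hrel, hM => by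
    simp only [chkRelOn, List.all_cons, Bool.and_eq_true] at hrel
    simp only [chkDerRows, Bool.and_eq_true, List.all_eq_true, nat_blt_iff, nat_ble_iff, Bool.not_eq_true',
      nat_beq_iff, Bool.or_eq_true, Bool.eq_false_iff, ne_eq] at h
    obtain ⟨⟨⟨⟨⟨⟨⟨ha, hb⟩, hap⟩, hbp⟩, hterms⟩, hone⟩, hu⟩, hrest⟩ := h
    refine der_rows L _ hrest hrel.2 fun r hr => ?_
    rcases testBit_or_two_pow hr with h' | rfl
    · exact hM r h'
    intro v hv
    obtain ⟨e, he⟩ := List.length_eq_one_iff.1 hone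
    have hemem : e ∈ S.Hd.commTerms a b ∧ e.1 = r := by
      have h1 : e ∈ (S.Hd.commTerms a b).filter fun c => Nat.beq c.1 r := he ▸ List.mem_singleton_self e
      rw [List.mem_filter, nat_beq_iff] at h1
      exact h1
    rcases hu e hemem.1 with h1 | ⟨hunit, hexp⟩
    · exact absurd hemem.2 h1
    have hne := hm.2 _ hunit
    obtain ⟨s, t, hs, ht', hst⟩ : ∃ s t : k, S.σ s = s ∧ S.σ t = t ∧
        (e.2.1 : k) * (-s) ^ e.2.2.1 * t ^ e.2.2.2 = v := by
      rcases hexp with hi | hj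
      · refine ⟨-(v / e.2.1), 1, by rw [map_neg, map_div₀, hv, map_intCast], map_one _, ?_⟩
        rw [hi, one_pow, mul_one, neg_neg, pow_one, mul_div_cancel₀ _ hne]
      · refine ⟨-1, v / e.2.1, by rw [map_neg, map_one], by rw [map_div₀, hv, map_intCast], ?_⟩
        rw [hj, neg_neg, one_pow, mul_one, pow_one, mul_div_cancel₀ _ hne]
    have hW := rowG_comm_pair (C := C) hrel.1 s t
    have hWN : ((S.Hd.commWord k a b s t).map fun q => rowG C S.Q q.1 q.2).prod ∈ N := by
      have h2 := hcomm _ (inv_mem (S.row_mem_UM hb hbp ht')) _ (inv_mem (S.row_mem_UM ha hap hs))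
      rw [inv_inv, inv_inv] at h2
      convert h2 using 1
      rw [mul_assoc _ (rowG C S.Q b t), hW]
      group
    simp only [ChevalleyDatum.commWord, List.map_map] at hWN
    have hsplit : ∀ l : List (ℕ × ℤ × ℕ × ℕ), l.Sublist (S.Hd.commTerms a b) →
        ((l.filter fun c => Nat.beq c.1 r) = [e] → (l.map fun c => rowG C S.Q c.1
          ((c.2.1 : k) * (-s) ^ c.2.2.1 * t ^ c.2.2.2)).prod ∈ N → rowG C S.Q r v ∈ N) ∧
        ((l.filter fun c => Nat.beq c.1 r) = [] → (l.map fun c => rowG C S.Q c.1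
          ((c.2.1 : k) * (-s) ^ c.2.2.1 * t ^ c.2.2.2)).prod ∈ N) := by
      intro l
      induction l with
      | nil => exact fun _ => ⟨fun h => (List.cons_ne_nil _ _ h.symm).elim, fun _ => one_mem _⟩
      | cons c l ih =>
        intro hsub
        obtain ⟨ih1, ih2⟩ := ih ((List.sublist_cons_self c l).trans hsub)
        have hcm := hsub.subset List.mem_cons_self
        by_cases hc : c.1 = r
        · rw [List.filter_cons_of_pos (by rw [nat_beq_iff]; exact hc)]
          refine ⟨fun h1 h2 => ?_, fun h1 => (List.cons_ne_nil _ _ h1).elim⟩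
          obtain ⟨rfl, h3⟩ := List.cons.inj h1
          rw [List.map_cons, List.prod_cons, hc, hst] at h2
          exact (Subgroup.mul_mem_cancel_right N (ih2 h3)).1 h2
        · rw [List.filter_cons_of_neg (by rw [nat_beq_iff]; exact hc)]
          have hcN : rowG C S.Q c.1 ((c.2.1 : k) * (-s) ^ c.2.2.1 * t ^ c.2.2.2) ∈ N := by
            rcases hterms c hcm with (h1 | h1) | h1
            · exact absurd h1 hc
            · exact hM _ h1 _ (by simp [map_mul, map_pow, map_neg, hs, ht', map_intCast])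
            · rw [hm.1 _ h1, zero_mul, zero_mul, S.row_zero]; exact one_mem _
          simp only [List.map_cons, List.prod_cons]
          exact ⟨fun h1 h2 => ih1 h1 ((Subgroup.mul_mem_cancel_left N hcN).1 h2),
            fun h1 => mul_mem hcN (ih2 h1)⟩
    exact (hsplit _ (List.Sublist.refl _)).1 he hWN

end TwCtx

end CfsgLib.Known.Overgroup.Twisted
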