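import Cfsg.Agent.Lib.Known.Overgroup.Twisted.Mat

/-!
# A matrix commuting with all rows is determined by a few entries

Entry equations propagate zeros to some columns, and the rows carry these columns to all the others.
-/

set_option autoImplicit false

namespace CfsgLib.Known.Overgroup.Twisted

open Cfsg.Lie (ChevalleyDatum)
open CfsgLib.Lie.Chev
open CfsgLib.Known.ChevFold
open scoped Matrix

/-- zeros from the equations of single rows -/
def chkKeysGo (D Hd : ChevalleyDatum) (m : ℕ) (Q : List (List (ℕ × ℤ))) (gens : List ℕ) :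
    List (ℕ × ℕ × ℕ × ℕ) → ℕ → Bool
  | [], M => gens.all fun b => (List.range (dimN D)).all fun c => M.testBit (c * dimN D + b)
  | (a, x, b, c) :: L, M =>
    Nat.blt a Hd.nroots && Nat.blt x (dimN D) && Nat.blt b (dimN D) &&
      chkComb m M.testBit (eqTerms D (flat (rowE D (rowAt Q a))) x b) c && chkKeysGo D Hd m Q gens L (M ||| 2 ^ c)

/-- zero columns propagate -/
def chkColsGo (D Hd : ChevalleyDatum) (m : ℕ) (Q : List (List (ℕ × ℤ))) : List (ℕ × ℕ × ℕ) → ℕ → Bool
  | [], M => (List.range (dimN D)).all fun j => M.testBit j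
  | (a, b, c) :: L, M =>
    Nat.blt a Hd.nroots && Nat.blt b (dimN D) && M.testBit b &&
      chkComb m M.testBit (colL (flat (rowE D (rowAt Q a))) b) c && chkColsGo D Hd m Q L (M ||| 2 ^ c)

/-- a set of numbers as a mask -/
def maskOf : List ℕ → ℕ
  | [] => 0
  | a :: L => maskOf L ||| 2 ^ a

/-- the whole certificate -/
def chkCommT (D Hd : ChevalleyDatum) (m : ℕ) (Q : List (List (ℕ × ℤ))) (F : List (ℕ × ℕ)) (gens : List ℕ)
    (L : List (ℕ × ℕ × ℕ × ℕ)) (S : List (ℕ × ℕ × ℕ)) : Bool :=
  (F.all fun q => Nat.blt q.1 (dimN D) && Nat.blt q.2 (dimN D)) &&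
    chkKeysGo D Hd m Q gens L (maskOf (F.map fun q => q.1 * dimN D + q.2)) &&
    chkColsGo D Hd m Q S (maskOf gens)

theorem mem_of_maskOf : ∀ (L : List ℕ) {j : ℕ}, (maskOf L).testBit j = true → j ∈ L
  | [], j, h => by simp [maskOf] at h
  | a :: L, j, h => by
    rcases testBit_or_two_pow h with h' | rfl
    · exact List.mem_cons_of_mem _ (mem_of_maskOf L h')
    · exact List.mem_cons_self

variable {D : ChevalleyDatum} {X : Aux} (C : Cert D X) {k : Type*} [Field k] {m : ℕ} (hm : ModeOK k m)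

include C hm

/-- such a matrix is zero -/
theorem eq_zero_of_commute {Hd : ChevalleyDatum} {Q : List (List (ℕ × ℤ))} (hQ : chkRows D Hd 0 Q = true)
    {F : List (ℕ × ℕ)} {gens : List ℕ} {L : List (ℕ × ℕ × ℕ × ℕ)} {S : List (ℕ × ℕ × ℕ)}
    (h : chkCommT D Hd m Q F gens L S = true) {Z : Matrix D.Idx D.Idx k}
    (hZ : ∀ a, a < Hd.nroots → Commute ((chevRel C k).mat (rowG C Q a 1)) Z)
    (hF : ∀ a b : D.Idx, (code D a, code D b) ∈ F → Z a b = 0) : Z = 0 := by
  simp only [chkCommT, Bool.and_eq_true, List.all_eq_true, nat_blt_iff] at h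
  obtain ⟨⟨hFlt, hkeys⟩, hcols⟩ := h
  have hlt : ∀ r, r < Hd.nroots → ∀ q ∈ rowAt Q r, q.1 < D.nroots := fun r hr => (rows_props hQ hr).1
  have hk : ∀ (L : List (ℕ × ℕ × ℕ × ℕ)) (M : ℕ), chkKeysGo D Hd m Q gens L M = true →
      (∀ j, M.testBit j = true → entryOf D Z j = 0) →
      ∀ b ∈ gens, ∀ c, c < dimN D → entryOf D Z (c * dimN D + b) = 0 := by
    intro L
    induction L with
    | nil =>
      intro M h hM b hb c hc
      simp only [chkKeysGo, List.all_eq_true, List.mem_range] at h
      exact hM _ (h b hb c hc)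
    | cons e L ih =>
      obtain ⟨a, x, b', c'⟩ := e
      intro M h hM
      simp only [chkKeysGo, Bool.and_eq_true, nat_blt_iff] at h
      obtain ⟨⟨⟨⟨ha, hx⟩, hb⟩, hcomb⟩, hrest⟩ := h
      refine ih _ hrest fun j hj => ?_
      rcases testBit_or_two_pow hj with h' | rfl
      · exact hM j h'
      · exact chkComb_spec hm hcomb (fun key => entryOf D Z key) hM (row_eq_zero C (hlt a ha) (hZ a ha) hx hb)
  have hgen := hk L _ hkeys fun j hj => by
    obtain ⟨q, hq, rfl⟩ := List.mem_map.1 (mem_of_maskOf _ hj)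
    obtain ⟨h1, h2⟩ := hFlt q hq
    obtain ⟨a0, ha0⟩ := exists_code D h1
    obtain ⟨b0, hb0⟩ := exists_code D h2
    rw [← ha0, ← hb0, entryOf_key]
    refine hF a0 b0 ?_
    rwa [ha0, hb0]
  have hbase : ∀ j, (maskOf gens).testBit j = true → Z *ᵥ bv D k j = 0 := by
    intro j hj
    by_cases hjl : j < D.rank + D.nroots
    · obtain ⟨b0, rfl⟩ := exists_code D hjl
      rw [bv_code, Matrix.mulVec_single_one]
      funext a
      rw [Pi.zero_apply, Matrix.col_apply, ← entryOf_key Z]
      exact hgen _ (mem_of_maskOf _ hj) _ (code_lt D a)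
    · rw [show bv D k j = 0 from funext fun a => if_neg fun e : code D a = j => hjl (e ▸ code_lt D a),
        Matrix.mulVec_zero]
  have hc : ∀ (S : List (ℕ × ℕ × ℕ)) (M : ℕ), chkColsGo D Hd m Q S M = true →
      (∀ j, M.testBit j = true → Z *ᵥ bv D k j = 0) → ∀ j, j < dimN D → Z *ᵥ bv D k j = 0 := by
    intro S
    induction S with
    | nil =>
      intro M h hM j hj
      simp only [chkColsGo, List.all_eq_true, List.mem_range] at h
      exact hM j (h j hj)
    | cons e S ih =>
      obtain ⟨a, b, c⟩ := e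
      intro M h hM
      simp only [chkColsGo, Bool.and_eq_true, nat_blt_iff] at h
      obtain ⟨⟨⟨⟨ha, hb⟩, hbM⟩, hcomb⟩, hrest⟩ := h
      refine ih _ hrest fun j hj => ?_
      rcases testBit_or_two_pow hj with h' | rfl
      · exact hM j h'
      refine chkComb_spec hm hcomb (fun i => Z *ᵥ bv D k i) hM ?_
      have hY := (hZ a ha).eq
      simp only [rowG] at hY
      rw [mat_listG C _ _ (hlt a ha), ← tm_flat, add_mul, mul_add, one_mul, mul_one] at hY
      have h1 : Z *ᵥ (tm D k (flat (rowE D (rowAt Q a))) *ᵥ bv D k b) = 0 := by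
        rw [Matrix.mulVec_mulVec, ← add_left_cancel hY, ← Matrix.mulVec_mulVec, hM b hbM, Matrix.mulVec_zero]
      rw [tm_mulVec_bv hb, ← Matrix.mulVecLin_apply, map_list_sum, List.map_map] at h1
      rw [colL, List.map_map, ← h1]
      refine congrArg _ (List.map_congr_left fun q _ => ?_)
      simp only [Function.comp_apply, map_smul, Matrix.mulVecLin_apply]
  have hall := hc S _ hcols hbase
  ext a b
  have h2 := congrFun (hall (code D b) (code_lt D b)) a
  rwa [bv_code, Matrix.mulVec_single_one, Matrix.col_apply, Pi.zero_apply] at h2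

end CfsgLib.Known.Overgroup.Twisted
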