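import Cfsg.Agent.Lib.Known.ChevFoldData

/-!
# The root system `F₄` inside `E₆` in every characteristic: rows with signs
-/

set_option autoImplicit false

namespace CfsgLib.Known.Overgroup.Twisted

open Cfsg.Lie
open CfsgLib.Lie.Chev
open CfsgLib.Known

/-- rows for `F₄` in `E₆`, any characteristic -/
def qF4s : List (List (ℕ × ℤ)) :=
  [[(0, 1)],
      [(1, 1)],
      [(2, 1)],
      [(3, 1), (5, 1)],
      [(6, 1)],
      [(8, 1)],
      [(11, 1)],
      [(4, 1), (16, -1)],
      [(7, 1), (17, -1)],
      [(9, 1), (19, -1)],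
      [(12, 1), (26, -1)],
      [(10, 1), (22, -1)],
      [(13, 1), (30, 1)],
      [(14, 1), (33, -1)],
      [(15, 1), (35, 1)],
      [(18, 1)],
      [(20, 1)],
      [(27, 1)],
      [(21, 1), (23, 1)],
      [(28, 1), (31, -1)],
      [(29, 1), (34, 1)],
      [(24, -1)],
      [(32, 1)],
      [(25, 1)],
      [(46, 1)],
      [(39, 1)],
      [(47, -1)],
      [(37, 1), (42, 1)],
      [(40, -1), (43, 1)],
      [(48, 1), (50, 1)],
      [(44, 1)],
      [(51, 1)],
      [(53, 1)],
      [(36, 1), (56, 1)],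
      [(38, -1), (57, 1)],
      [(41, 1), (58, 1)],
      [(49, -1), (61, 1)],
      [(45, -1), (59, 1)],
      [(52, -1), (62, 1)],
      [(54, -1), (64, 1)],
      [(55, -1), (67, 1)],
      [(60, 1)],
      [(63, 1)],
      [(65, 1)],
      [(66, 1), (68, 1)],
      [(69, 1)],
      [(70, 1)],
      [(71, 1)]]

theorem rowsF4s : ChevFold.chkRows chevE6 chevF4 0 qF4s = true := by decide +kernel

theorem rowsG2 : ChevFold.chkRows chevD4 chevG2 0 ChevFoldData.qG2 = true := by decide +kernel

end CfsgLib.Known.Overgroup.Twisted
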