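import Cfsg.Agent.Lib.Known.Overgroup.Twisted.Kill
import Cfsg.Agent.Lib.Known.Overgroup.Twisted.Commutant
import Cfsg.Agent.Lib.Known.Overgroup.Twisted.Tables
import Cfsg.Agent.Lib.Lie.Twisted.D4

/-!
# Certificates for the twisted type `D4`: generated by a search program, checked by kernel reduction
-/

set_option autoImplicit false
set_option maxRecDepth 100000

namespace CfsgLib.Known.Overgroup.Twisted

open Cfsg.Lie
open CfsgLib.Lie.Chev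
open CfsgLib.Lie.Chev.TwGroups
open CfsgLib.Known

theorem shapeD4 : chkTwRows chevD4 chevG2 auxD4 twTD4 ChevFoldData.qG2 = true := by decide +kernel

/-- the entries used as functionals -/
def funcD4 : List (ℕ × ℕ) := [(27, 27), (21, 24), (21, 25), (24, 25), (24, 24)]

def descD4_2 : List (List (ℕ × List (ℕ × ℕ × ℤ))) :=
  [[(12, [(6, 15, 1)]), (13, [(6, 16, 1)]), (14, [(6, 24, 1)]), (18, [(6, 19, 1)])], [(15, [(7, 17, 1), (7, 20, 1), (8, 24, 1)]), (16, [(7, 20, 1), (8, 24, 1)]), (19, [(7, 17, 1), (8, 24, 1)])], [], [(22, [(6, 23, 1)])], [(23, [(11, 24, 1)])]]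

theorem chkDescD4_2 : chkDescT chevD4 chevG2 auxD4 2 twTD4 ChevFoldData.qG2 9 descD4_2 = true := by decide +kernel

def derD4_2 : List (ℕ × ℕ × ℕ) := [(6, 10, 11), (7, 8, 10)]

def killD4_2 : List (ℕ × List (List (ℕ × List (ℕ × ℕ × ℕ × ℤ)))) :=
  [(7, [[], [(1, [(10, 8, 4, 1), (10, 16, 11, 1), (10, 17, 11, 1), (11, 19, 11, 1), (11, 20, 11, 1), (11, 21, 13, 1)]), (2, [(10, 0, 11, 1), (10, 6, 4, 1), (10, 7, 4, 1), (11, 18, 11, 1), (11, 19, 13, 1), (11, 20, 13, 1)]), (3, [(10, 0, 13, 1), (11, 18, 13, 1)])], [(1, [(10, 8, 4, 1), (10, 16, 12, 1), (10, 17, 12, 1), (11, 19, 12, 1), (11, 20, 12, 1), (11, 21, 13, 1)]), (2, [(10, 0, 12, 1), (10, 6, 4, 1), (10, 7, 4, 1), (11, 18, 12, 1), (11, 19, 13, 1), (11, 20, 13, 1)]), (3, [(10, 0, 13, 1), (11, 18, 13, 1)])], [(1, [(10, 11, 4, 1), (10, 16, 12, 1), (10, 22, 12, 1), (11, 19, 12, 1), (11, 23, 12, 1), (11, 24,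 13, 1)]), (2, [(10, 0, 12, 1), (10, 6, 4, 1), (10, 10, 4, 1), (11, 18, 12, 1), (11, 19, 13, 1), (11, 23, 13, 1)]), (3, [(10, 0, 13, 1), (11, 18, 13, 1)])], [(1, [(10, 11, 4, 1), (10, 16, 11, 1), (10, 22, 11, 1), (11, 19, 11, 1), (11, 23, 11, 1), (11, 24, 13, 1)]), (2, [(10, 0, 11, 1), (10, 6, 4, 1), (10, 10, 4, 1), (11, 18, 11, 1), (11, 19, 13, 1), (11, 23, 13, 1)]), (3, [(10, 0, 13, 1), (11, 18, 13, 1)])]]), (8, [[(1, [(10, 8, 5, 1), (10, 11, 5, 1), (10, 12, 5, 1), (11, 8, 1, 1), (11, 8, 4, 1), (11, 8, 13, 1), (11, 11, 1, 1), (11, 11, 4, 1), (11, 11, 13, 1), (11, 12, 1, 1), (11, 12, 4, 1), (11, 12, 13, 1), (11, 21, 1, 1), (11, 24, 1, 1), (11, 25, 1, 1)]), (2, [(11, 16, 1, 1), (11, 17, 1, 1), (11, 22, 1, 1)]), (3, [(11, 13, 1, 1)])], [(1, [(10, 8, 5, 1), (11, 8, 1, 1), (11, 8, 4, 1), (11, 8, 13, 1), (11, 16, 11, 1), (11, 17, 11, 1), (11, 21, 1, 1)]),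 (2, [(11, 13, 11, 1), (11, 16, 1, 1), (11, 17, 1, 1)]), (3, [(11, 13, 1, 1)])], [(1, [(10, 8, 5, 1), (11, 8, 1, 1), (11, 8, 4, 1), (11, 8, 13, 1), (11, 16, 12, 1), (11, 17, 12, 1), (11, 21, 1, 1)]), (2, [(11, 13, 12, 1), (11, 16, 1, 1), (11, 17, 1, 1)]), (3, [(11, 13, 1, 1)])], [(1, [(10, 11, 5, 1), (11, 11, 1, 1), (11, 11, 4, 1), (11, 11, 13, 1), (11, 16, 12, 1), (11, 22, 12, 1), (11, 24, 1, 1)]), (2, [(11, 13, 12, 1), (11, 16, 1, 1), (11, 22, 1, 1)]), (3, [(11, 13, 1, 1)])], [(1, [(10, 11, 5, 1), (11, 11, 1, 1), (11, 11, 4, 1), (11, 11, 13, 1), (11, 16, 11, 1), (11, 22, 11, 1), (11, 24, 1, 1)]), (2, [(11, 13, 11, 1), (11, 16, 1, 1), (11, 22, 1, 1)]), (3, [(11, 13, 1, 1)])]]), (6, [[(1, [(8, 0, 9, 1), (10, 13, 5, 1), (11, 0, 5, 1), (11, 13, 1, 1), (11, 13, 4, 1), (11, 13, 13, 1), (11, 21, 9, 1), (11, 26, 1, 1)])], [], [], [], []]), (9, [[(1, [(10,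 6, 5, 1), (10, 7, 5, 1), (10, 10, 5, 1), (11, 6, 1, 1), (11, 6, 4, 1), (11, 6, 13, 1), (11, 7, 1, 1), (11, 7, 4, 1), (11, 7, 13, 1), (11, 10, 1, 1), (11, 10, 4, 1), (11, 10, 13, 1), (11, 19, 1, 1), (11, 20, 1, 1), (11, 23, 1, 1)]), (2, [(11, 9, 1, 1), (11, 14, 1, 1), (11, 15, 1, 1)]), (3, [(11, 5, 1, 1)])], [(1, [(10, 0, 14, 1), (11, 2, 11, 1), (11, 3, 11, 1), (11, 18, 14, 1)]), (2, [(11, 10, 11, 1)])], [(1, [(10, 0, 15, 1), (11, 2, 12, 1), (11, 3, 12, 1), (11, 18, 15, 1)]), (2, [(11, 10, 12, 1)])], [(1, [(10, 0, 15, 1), (11, 2, 12, 1), (11, 3, 12, 1), (11, 18, 15, 1)]), (2, [(11, 7, 12, 1)])], [(1, [(10, 0, 14, 1), (11, 2, 11, 1), (11, 3, 11, 1), (11, 18, 14, 1)]), (2, [(11, 7, 11, 1)])]])]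

theorem chkKillD4_2 : chkKillT chevD4 chevG2 2 60 ChevFoldData.qG2 funcD4 derD4_2 killD4_2 = true := by
  decide +kernel

def keysD4_2 : List (ℕ × ℕ × ℕ × ℕ) :=
  [(0, 8, 13, 601), (0, 8, 16, 604), (0, 8, 17, 605), (0, 8, 22, 610), (0, 11, 13, 685), (0, 11, 16, 688), (0, 11, 17, 689), (0, 11, 22, 694), (0, 16, 26, 461), (1, 0, 23, 751), (1, 4, 23, 387), (1, 6, 23, 471), (1, 7, 23, 499), (1, 9, 23, 611), (1, 10, 23, 639), (1, 14, 23, 695), (1, 15, 23, 723), (1, 18, 23, 779), (4, 0, 27, 643), (4, 2, 27, 503), (4, 3, 27, 475), (4, 8, 27, 391), (4, 21, 27, 755), (5, 0, 23, 22), (5, 1, 24, 528), (5, 1, 25, 529), (5, 2, 23, 78), (5, 3, 19, 100), (5, 4, 24, 164), (5, 4, 25, 165), (5, 8, 24, 276), (5, 8, 25, 277), (5, 11, 24, 416), (5, 11, 25, 417), (5, 12, 24, 444), (5, 12, 25, 445), (5, 16, 24, 556), (5, 16, 25, 557), (5, 17, 24, 584), (5, 17, 25, 585),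 (5, 22, 24, 668), (5, 22, 25, 669), (5, 26, 24, 780), (5, 26, 25, 781), (6, 0, 8, 9), (6, 0, 22, 23), (6, 0, 26, 27), (6, 1, 24, 388), (6, 1, 25, 389), (6, 2, 8, 65), (6, 2, 22, 79), (6, 2, 26, 83), (6, 3, 12, 99), (6, 3, 22, 107), (6, 3, 26, 111), (6, 4, 22, 135), (6, 4, 26, 139), (6, 5, 24, 136), (6, 5, 25, 137), (6, 6, 22, 191), (6, 6, 26, 195), (6, 7, 22, 219), (6, 7, 26, 223), (6, 8, 22, 247), (6, 8, 26, 251), (6, 9, 24, 248), (6, 9, 25, 249), (6, 10, 22, 303), (6, 10, 26, 307), (6, 11, 22, 331), (6, 11, 26, 335), (6, 12, 22, 359), (6, 12, 26, 363), (6, 14, 24, 332), (6, 14, 25, 333), (6, 15, 24, 360), (6, 15, 25, 361), (6, 19, 24, 472), (6, 19, 25, 473), (6, 20, 24, 500), (6, 20, 25, 501), (6, 21, 26, 615), (6, 23, 24, 640), (6, 23, 25, 641), (6, 24, 26, 699), (6, 25, 26, 727), (6, 27, 24, 752), (6, 27, 25, 753), (7, 0, 27, 279), (7, 2, 27, 419),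 (7, 3, 27, 447), (7, 6, 27, 167), (7, 19, 27, 531), (10, 0, 23, 163), (10, 6, 14, 192), (10, 6, 15, 193), (10, 7, 14, 220), (10, 7, 15, 221), (10, 10, 14, 304), (10, 10, 15, 305), (10, 19, 18, 559), (10, 20, 18, 587), (10, 21, 23, 275), (10, 23, 18, 671), (10, 24, 23, 415), (10, 25, 23, 443), (10, 27, 23, 527), (11, 1, 1, 55), (11, 1, 10, 51), (11, 1, 11, 52), (11, 1, 12, 53), (11, 18, 14, 154), (11, 18, 15, 155), (10, 0, 14, 24), (10, 0, 15, 25), (10, 2, 14, 80), (10, 2, 15, 81), (10, 3, 14, 108), (10, 3, 15, 109), (3, 21, 27, 609), (3, 24, 27, 693), (8, 27, 24, 724), (8, 27, 25, 725), (1, 9, 21, 261), (1, 14, 21, 401), (1, 15, 25, 435), (7, 0, 9, 0), (7, 2, 9, 56), (7, 3, 15, 87), (4, 0, 22, 638), (4, 2, 22, 498), (4, 3, 16, 464), (5, 17, 23, 583), (5, 22, 23, 667), (3, 16, 24, 470), (5, 16, 23, 555)]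

def colsD4_2 : List (ℕ × ℕ × ℕ) :=
  [(0, 24, 11), (0, 25, 12), (0, 23, 10), (1, 24, 14), (1, 25, 15), (1, 27, 18), (2, 11, 4), (2, 14, 5), (3, 14, 6), (3, 15, 7), (3, 18, 9), (4, 24, 19), (4, 25, 20), (5, 9, 8), (5, 19, 16), (5, 20, 17), (5, 23, 22), (5, 27, 26), (7, 5, 13), (7, 9, 0), (7, 14, 2), (7, 15, 3), (7, 18, 21), (8, 8, 1)]

theorem chkCommD4_2 : chkCommT chevD4 chevG2 2 ChevFoldData.qG2 funcD4 [27, 24, 25, 23] keysD4_2 colsD4_2 = true := by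
  decide +kernel

def descD4_3 : List (List (ℕ × List (ℕ × ℕ × ℤ))) :=
  [[(12, [(6, 15, 1)]), (13, [(6, 16, 1)]), (14, [(6, 24, -1)]), (18, [(6, 19, -1)])], [(15, [(7, 17, 1), (7, 20, -1), (7, 21, 1)]), (16, [(7, 17, 1), (7, 20, 1), (7, 21, -1)]), (19, [(7, 17, 1), (7, 20, 1), (7, 21, 1)])], [], [(22, [(6, 23, -1)])], [(23, [(11, 24, 1)])]]

theorem chkDescD4_3 : chkDescT chevD4 chevG2 auxD4 3 twTD4 ChevFoldData.qG2 9 descD4_3 = true := by decide +kernel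

def derD4_3 : List (ℕ × ℕ × ℕ) := [(6, 10, 11), (7, 8, 9)]

def killD4_3 : List (ℕ × List (List (ℕ × List (ℕ × ℕ × ℕ × ℤ)))) :=
  [(6, [[], [], [], [], []]), (7, [[], [(2, [(9, 0, 13, -1), (9, 5, 4, -1), (9, 18, 2, 1), (11, 5, 13, 1), (11, 18, 8, -1), (11, 18, 11, 1), (11, 18, 12, 1), (11, 18, 16, 1), (11, 18, 17, 1), (11, 18, 22, 1), (11, 19, 13, -1), (11, 20, 13, -1)])], [(2, [(9, 0, 13, -1), (9, 18, 0, -1), (9, 18, 2, -1), (11, 19, 13, -1), (11, 20, 13, -1)])], [(2, [(9, 2, 13, 1), (9, 18, 0, 1), (9, 18, 2, 1), (11, 19, 13, 1), (11, 23, 13, -1)])], [(2, [(9, 2, 13, 1), (9, 5, 4, 1), (9, 18, 2, -1), (11, 5, 13, -1), (11, 18, 8, 1), (11, 18, 11, -1), (11, 18, 12, -1), (11, 18, 16, -1), (11, 18, 17, -1), (11, 18, 22, -1), (11, 19, 13, 1), (11, 23, 13, -1)])]]), (8, [[(2, [(11, 16, 1, -1), (11, 17, 1, -1), (11, 22, 1, -1)])], [(2, [(11, 13, 11, 1),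 (11, 16, 1, -1), (11, 17, 1, -1)])], [(2, [(11, 13, 12, 1), (11, 16, 1, -1), (11, 17, 1, -1)])], [(2, [(11, 13, 12, -1), (11, 16, 1, 1), (11, 22, 1, 1)])], [(2, [(11, 13, 11, -1), (11, 16, 1, 1), (11, 22, 1, 1)])]]), (10, [[], [], [], [], []])]

theorem chkKillD4_3 : chkKillT chevD4 chevG2 3 60 ChevFoldData.qG2 funcD4 derD4_3 killD4_3 = true := by
  decide +kernel

def keysD4_3 : List (ℕ × ℕ × ℕ × ℕ) :=
  [(0, 8, 13, 601), (0, 8, 16, 604), (0, 8, 17, 605), (0, 8, 22, 610), (0, 11, 13, 685), (0, 11, 16, 688), (0, 11, 17, 689), (0, 11, 22, 694), (0, 16, 26, 461), (1, 0, 23, 751), (1, 4, 23, 387), (1, 6, 23, 471), (1, 7, 23, 499), (1, 9, 23, 611), (1, 10, 23, 639), (1, 14, 23, 695), (1, 15, 23, 723), (1, 18, 23, 779), (4, 0, 27, 643), (4, 2, 27, 503), (4, 3, 27, 475), (4, 8, 27, 391), (4, 21, 27, 755), (5, 0, 23, 22), (5, 1, 24, 528), (5, 1, 25, 529),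 (5, 2, 23, 78), (5, 3, 19, 100), (5, 4, 24, 164), (5, 4, 25, 165), (5, 8, 24, 276), (5, 8, 25, 277), (5, 11, 24, 416), (5, 11, 25, 417), (5, 12, 24, 444), (5, 12, 25, 445), (5, 16, 24, 556), (5, 16, 25, 557), (5, 17, 24, 584), (5, 17, 25, 585), (5, 22, 24, 668), (5, 22, 25, 669), (5, 26, 24, 780), (5, 26, 25, 781), (6, 0, 8, 9), (6, 0, 22, 23), (6, 0, 26, 27), (6, 1, 24, 388), (6, 1, 25, 389), (6, 2, 8, 65), (6, 2, 22, 79), (6, 2, 26, 83), (6, 3, 12, 99), (6, 3, 22, 107), (6, 3, 26, 111), (6, 4, 22, 135), (6, 4, 26, 139), (6, 5, 24, 136), (6, 5, 25, 137), (6, 6, 22, 191), (6, 6, 26, 195), (6, 7, 22, 219), (6, 7, 26, 223), (6, 8, 22, 247), (6, 8, 26, 251), (6, 9, 24, 248), (6, 9, 25, 249), (6, 10, 22, 303), (6, 10, 26, 307), (6, 11, 22, 331), (6, 11, 26, 335), (6, 12, 22, 359), (6, 12, 26, 363), (6, 14, 24, 332), (6, 14, 25, 333), (6, 15, 24, 360),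 (6, 15, 25, 361), (6, 19, 24, 472), (6, 19, 25, 473), (6, 20, 24, 500), (6, 20, 25, 501), (6, 21, 26, 615), (6, 23, 24, 640), (6, 23, 25, 641), (6, 24, 26, 699), (6, 25, 26, 727), (6, 27, 24, 752), (6, 27, 25, 753), (7, 0, 27, 279), (7, 2, 27, 419), (7, 3, 27, 447), (7, 6, 27, 167), (7, 19, 27, 531), (8, 16, 26, 390), (10, 0, 23, 163), (10, 6, 14, 192), (10, 6, 15, 193), (10, 7, 14, 220), (10, 7, 15, 221), (10, 10, 14, 304), (10, 10, 15, 305), (10, 19, 18, 559), (10, 20, 18, 587), (10, 21, 23, 275), (10, 23, 18, 671), (10, 24, 23, 415), (10, 25, 23, 443), (10, 27, 23, 527), (11, 18, 14, 154), (11, 18, 15, 155), (11, 26, 22, 386), (6, 1, 22, 51), (6, 1, 26, 55), (10, 0, 14, 24), (10, 0, 15, 25), (10, 1, 14, 52), (10, 1, 15, 53), (10, 2, 14, 80), (10, 2, 15, 81), (10, 3, 14, 108), (10, 3, 15, 109), (3, 21, 27, 609), (3, 24, 27, 693), (8, 27, 24, 724),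 (8, 27, 25, 725), (1, 9, 21, 261), (1, 14, 21, 401), (1, 15, 25, 435), (7, 0, 9, 0), (7, 2, 9, 56), (7, 3, 15, 87), (4, 0, 22, 638), (4, 2, 22, 498), (4, 3, 16, 464), (5, 17, 23, 583), (5, 22, 23, 667), (3, 16, 24, 470), (5, 16, 23, 555)]

def colsD4_3 : List (ℕ × ℕ × ℕ) :=
  [(0, 24, 11), (0, 25, 12), (0, 23, 10), (1, 24, 14), (1, 25, 15), (1, 27, 18), (2, 11, 4), (2, 14, 5), (3, 14, 6), (3, 15, 7), (3, 18, 9), (4, 24, 19), (4, 25, 20), (5, 9, 8), (5, 19, 16), (5, 20, 17), (5, 23, 22), (5, 27, 26), (7, 5, 13), (7, 9, 0), (7, 14, 2), (7, 15, 3), (7, 18, 21), (8, 8, 1)]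

theorem chkCommD4_3 : chkCommT chevD4 chevG2 3 ChevFoldData.qG2 funcD4 [27, 24, 25, 23] keysD4_3 colsD4_3 = true := by
  decide +kernel

def descD4_5 : List (List (ℕ × List (ℕ × ℕ × ℤ))) :=
  [[(12, [(6, 15, 1)]), (13, [(6, 16, 1)]), (14, [(6, 24, -1)]), (18, [(6, 19, -1)])], [(15, [(7, 17, -1), (7, 20, 1), (7, 21, -1)]), (16, [(7, 17, -1), (7, 20, -1), (7, 21, 1)]), (19, [(7, 17, -1), (7, 20, -1), (7, 21, -1)])], [], [(22, [(6, 23, -1)])], [(23, [(11, 24, 1)])]]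

theorem chkDescD4_5 : chkDescT chevD4 chevG2 auxD4 5 twTD4 ChevFoldData.qG2 9 descD4_5 = true := by decide +kernel

def derD4_5 : List (ℕ × ℕ × ℕ) := [(6, 10, 11), (7, 9, 10), (8, 7, 9), (6, 7, 8)]

def killD4_5 : List (ℕ × List (List (ℕ × List (ℕ × ℕ × ℕ × ℤ)))) :=
  [(6, [[], [], [], [], []]), (7, [[], [], [], [], []])]

theorem chkKillD4_5 : chkKillT chevD4 chevG2 5 60 ChevFoldData.qG2 funcD4 derD4_5 killD4_5 = true := by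
  decide +kernel

def keysD4_5 : List (ℕ × ℕ × ℕ × ℕ) :=
  [(0, 8, 13, 601), (0, 8, 16, 604), (0, 8, 17, 605), (0, 8, 22, 610), (0, 11, 13, 685), (0, 11, 16, 688), (0, 11, 17, 689), (0, 11, 22, 694), (0, 16, 26, 461), (1, 0, 23, 751), (1, 4, 23, 387), (1, 6, 23, 471), (1, 7, 23, 499), (1, 9, 23, 611), (1, 10, 23, 639), (1, 14, 23, 695), (1, 15, 23, 723), (1, 18, 23, 779), (4, 0, 27, 643), (4, 2, 27, 503), (4, 3, 27, 475), (4, 8, 27, 391), (4, 21, 27, 755), (5, 0, 23, 22), (5, 1, 24, 528), (5, 1, 25, 529), (5, 2, 23, 78), (5, 3, 19, 100), (5, 4, 24, 164), (5, 4, 25, 165), (5, 8, 24, 276), (5, 8, 25, 277), (5, 11, 24, 416), (5, 11, 25, 417), (5, 12, 24, 444), (5, 12, 25, 445), (5, 16, 24, 556), (5, 16, 25, 557), (5, 17, 24, 584), (5, 17, 25, 585), (5, 22, 24, 668), (5, 22, 25, 669), (5, 26, 24, 780), (5, 26, 25, 781), (6, 0, 8, 9), (6, 0, 22, 23), (6,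 0, 26, 27), (6, 1, 24, 388), (6, 1, 25, 389), (6, 2, 8, 65), (6, 2, 22, 79), (6, 2, 26, 83), (6, 3, 12, 99), (6, 3, 22, 107), (6, 3, 26, 111), (6, 4, 22, 135), (6, 4, 26, 139), (6, 5, 24, 136), (6, 5, 25, 137), (6, 6, 22, 191), (6, 6, 26, 195), (6, 7, 22, 219), (6, 7, 26, 223), (6, 8, 22, 247), (6, 8, 26, 251), (6, 9, 24, 248), (6, 9, 25, 249), (6, 10, 22, 303), (6, 10, 26, 307), (6, 11, 22, 331), (6, 11, 26, 335), (6, 12, 22, 359), (6, 12, 26, 363), (6, 14, 24, 332), (6, 14, 25, 333), (6, 15, 24, 360), (6, 15, 25, 361), (6, 19, 24, 472), (6, 19, 25, 473), (6, 20, 24, 500), (6, 20, 25, 501), (6, 21, 26, 615), (6, 23, 24, 640), (6, 23, 25, 641), (6, 24, 26, 699), (6, 25, 26, 727), (6, 27, 24, 752), (6, 27, 25, 753), (7, 0, 27, 279), (7, 2, 27, 419), (7, 3, 27, 447), (7, 6, 27, 167), (7, 19, 27, 531), (8, 16, 26, 390), (10, 0, 23, 163), (10, 6, 14, 192),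 (10, 6, 15, 193), (10, 7, 14, 220), (10, 7, 15, 221), (10, 10, 14, 304), (10, 10, 15, 305), (10, 19, 18, 559), (10, 20, 18, 587), (10, 21, 23, 275), (10, 23, 18, 671), (10, 24, 23, 415), (10, 25, 23, 443), (10, 27, 23, 527), (11, 18, 14, 154), (11, 18, 15, 155), (11, 26, 22, 386), (6, 1, 22, 51), (6, 1, 26, 55), (10, 0, 14, 24), (10, 0, 15, 25), (10, 1, 14, 52), (10, 1, 15, 53), (10, 2, 14, 80), (10, 2, 15, 81), (10, 3, 14, 108), (10, 3, 15, 109), (3, 21, 27, 609), (3, 24, 27, 693), (8, 27, 24, 724), (8, 27, 25, 725), (1, 9, 21, 261), (1, 14, 21, 401), (1, 15, 25, 435), (7, 0, 9, 0), (7, 2, 9, 56), (7, 3, 15, 87), (4, 0, 22, 638), (4, 2, 22, 498), (4, 3, 16, 464), (5, 17, 23, 583), (5, 22, 23, 667), (3, 16, 24, 470), (5, 16, 23, 555)]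

def colsD4_5 : List (ℕ × ℕ × ℕ) :=
  [(0, 24, 11), (0, 25, 12), (0, 23, 10), (1, 24, 14), (1, 25, 15), (1, 27, 18), (2, 11, 4), (2, 14, 5), (3, 14, 6), (3, 15, 7), (3, 18, 9), (4, 24, 19), (4, 25, 20), (5, 9, 8), (5, 19, 16), (5, 20, 17), (5, 23, 22), (5, 27, 26), (7, 5, 13), (7, 9, 0), (7, 14, 2), (7, 15, 3), (7, 18, 21), (8, 8, 1)]

theorem chkCommD4_5 : chkCommT chevD4 chevG2 5 ChevFoldData.qG2 funcD4 [27, 24, 25, 23] keysD4_5 colsD4_5 = true := by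
  decide +kernel

end CfsgLib.Known.Overgroup.Twisted
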