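import Cfsg.Agent.Lib.Known.Overgroup.Twisted.Moves

/-!
# Spans over the fixed field of an endomorphism of order two or three, parameters of a word
-/

set_option autoImplicit false

namespace CfsgLib.Known.Overgroup.Twisted

open Cfsg.Lie (ChevalleyDatum)
open CfsgLib.Lie.Chev
open CfsgLib.Known.ChevFold

section

variable {k : Type*} [Field k] (σ : k →+* k) {A : k → Prop}
  (hfix : ∀ a, σ a = a → A a) (hadd : ∀ x y, A x → A y → A (x + y)) (hsmul : ∀ a x, σ a = a → A x → A (a * x))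
include hfix hadd hsmul

/-- two independent elements span -/
theorem span_two (hper : ∀ x, σ (σ x) = x) {v : k} (hv : A v) (hne : σ v ≠ v) (x : k) : A x := by
  have hd : σ v - v ≠ 0 := sub_ne_zero.2 hne
  obtain ⟨b, hb⟩ : ∃ b, b = (σ x - x) / (σ v - v) := ⟨_, rfl⟩
  have hbf : σ b = b := by
    rw [hb, map_div₀, map_sub, map_sub, hper, hper, ← neg_sub x, ← neg_sub v, neg_div_neg_eq]
  have hbm : b * (σ v - v) = σ x - x := by rw [hb]; exact div_mul_cancel₀ _ hd
  have ha : σ (x - b * v) = x - b * v := by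
    rw [map_sub, map_mul, hbf]
    linear_combination -hbm
  have := hadd _ _ (hfix _ ha) (hsmul b v hbf hv)
  rwa [sub_add_cancel] at this

/-- three independent elements span -/
theorem span_three (hper : ∀ x, σ (σ (σ x)) = x) {v : k} (hv : A v) (hne : σ v ≠ v)
    (hsharp : A (σ (σ v) * σ v)) (x : k) : A x := by
  obtain ⟨v1, hv1⟩ : ∃ v1, v1 = σ v := ⟨_, rfl⟩
  obtain ⟨v2, hv2⟩ : ∃ v2, v2 = σ v1 := ⟨_, rfl⟩
  have e2 : σ v2 = v := by rw [hv2, hv1, hper]
  rw [← hv1, ← hv2] at hsharp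
  have n01 : v1 - v ≠ 0 := sub_ne_zero.2 (hv1 ▸ hne)
  have n12 : v2 - v1 ≠ 0 := sub_ne_zero.2 fun h => hne (σ.injective (by rw [← hv1, ← hv2]; exact h))
  have n20 : v - v2 ≠ 0 := sub_ne_zero.2 fun h => hne (by rw [show σ v = σ v2 from congrArg σ h, e2])
  -- the square
  have hS : σ (v * v1 + v * v2 + v1 * v2) = v * v1 + v * v2 + v1 * v2 := by
    simp only [map_add, map_mul, ← hv1, ← hv2, e2]; ring
  have hTr : σ (v + v1 + v2) = v + v1 + v2 := by
    simp only [map_add, ← hv1, ← hv2, e2]; ring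
  have hsq : A (v * v) := by
    have h := hadd _ _ (hadd _ _ hsharp (hsmul _ v hTr hv)) (hfix (-(v * v1 + v * v2 + v1 * v2))
      (by rw [map_neg, hS]))
    convert h using 1
    ring
  -- the coefficient of the square
  obtain ⟨x1, hx1⟩ : ∃ x1, x1 = σ x := ⟨_, rfl⟩
  obtain ⟨x2, hx2⟩ : ∃ x2, x2 = σ x1 := ⟨_, rfl⟩
  have f2 : σ x2 = x := by rw [hx2, hx1, hper]
  obtain ⟨den, hden⟩ : ∃ den, den = v * v * (v1 - v2) + v1 * v1 * (v2 - v) + v2 * v2 * (v - v1) := ⟨_, rfl⟩
  have hden0 : den ≠ 0 := by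
    rw [hden, show v * v * (v1 - v2) + v1 * v1 * (v2 - v) + v2 * v2 * (v - v1) =
      (v1 - v) * (v2 - v1) * (v - v2) by ring]
    exact mul_ne_zero (mul_ne_zero n01 n12) n20
  obtain ⟨c, hc⟩ : ∃ c, c = (x * (v1 - v2) + x1 * (v2 - v) + x2 * (v - v1)) / den := ⟨_, rfl⟩
  have hcf : σ c = c := by
    have hn : σ (x * (v1 - v2) + x1 * (v2 - v) + x2 * (v - v1)) =
        x * (v1 - v2) + x1 * (v2 - v) + x2 * (v - v1) := by
      simp only [map_add, map_mul, map_sub, ← hv1, ← hv2, e2, ← hx1, ← hx2, f2]; ring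
    have hd : σ den = den := by
      rw [hden]; simp only [map_add, map_mul, map_sub, ← hv1, ← hv2, e2]; ring
    rw [hc, map_div₀, hn, hd]
  have hcm : c * den = x * (v1 - v2) + x1 * (v2 - v) + x2 * (v - v1) := by
    rw [hc]; exact div_mul_cancel₀ _ hden0
  obtain ⟨b, hb⟩ : ∃ b, b = ((x1 - c * (v1 * v1)) - (x - c * (v * v))) / (v1 - v) := ⟨_, rfl⟩
  have hbm : b * (v1 - v) = (x1 - c * (v1 * v1)) - (x - c * (v * v)) := by
    rw [hb]; exact div_mul_cancel₀ _ n01
  have hbf : σ b = b := by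
    refine mul_right_cancel₀ (mul_ne_zero n01 n12) ?_
    have h1 : σ b * (v2 - v1) = (x2 - c * (v2 * v2)) - (x1 - c * (v1 * v1)) := by
      have h := congrArg σ hbm
      simpa only [map_mul, map_sub, hcf, ← hv1, ← hv2, ← hx1, ← hx2] using h
    linear_combination (v1 - v) * h1 - (v2 - v1) * hbm + hcm - c * hden
  have haf : σ (x - c * (v * v) - b * v) = x - c * (v * v) - b * v := by
    simp only [map_sub, map_mul, hcf, hbf, ← hv1, ← hx1]
    linear_combination -hbm
  have := hadd _ _ (hadd _ _ (hfix _ haf) (hsmul b v hbf hv)) (hsmul c _ hcf hsq)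
  convert this using 1
  ring

end

namespace TwCtx

variable {D : ChevalleyDatum} {X : Aux} {C : Cert D X} {k : Type*} [Field k] (S : TwCtx C k)

/-- a fixed word along a fundamental row has a fixed parameter -/
theorem param_fixed {a : ℕ} (ha : a < S.Hd.nroots) (hht : ∀ q ∈ S.row a, ht D X q.1 = 1) {v : k}
    (h : wordG C (twList S.σ (S.row a) v) ∈ rat D S.σ) : S.σ v = v := by
  obtain ⟨q, L, e⟩ := List.exists_cons_of_ne_nil (S.row_spec ha).2.1
  have hq : q ∈ S.row a := by simp [e]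
  obtain ⟨hlt, hsgn, -, -⟩ := (S.row_spec ha).2.2.2 q hq
  have hl : ∀ y ∈ twList S.σ (S.row a) v, y.1 < D.nroots ∧ (1 : ℤ) ≤ ht D X y.1 := fun y hy => by
    obtain ⟨z, hz, ez⟩ := List.mem_map.1 (S.twList_mem hy)
    exact ez ▸ ⟨((S.row_spec ha).2.2.2 z hz).1, (hht z hz).ge⟩
  have hc := (hasCoef_wordG C le_rfl _ hl).2 ⟨q.1, hlt⟩ (hht q hq)
  have hnd : ((twList S.σ (S.row a) v).map Prod.fst).Nodup := by
    rw [twList_fst]; exact (S.row_spec ha).2.2.1
  have hs := sum_ite_of_mem _ hnd (q.1, (q.2 : k) * v) (by rw [e]; simp [twList])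
  simp only at hs
  simp only [hs] at hc
  have h2 := hasCoef_sg C S.σ hc
  rw [show sg D S.σ _ = _ from h] at h2
  have h3 := hasCoef_unique C h2 hc
  rw [map_mul, map_intCast] at h3
  rcases hsgn with e1 | e1 <;> simpa [e1] using h3

end TwCtx

end CfsgLib.Known.Overgroup.Twisted
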