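import Cfsg.Agent.Lib.Known.Overgroup.Twisted.Main
import Cfsg.Agent.Lib.Known.Overgroup.Twisted.Span
import Cfsg.Agent.Lib.Known.Overgroup.Twisted.DataD4

/-!
# Overgroups of the subfield points in the triality twisted groups
-/

set_option autoImplicit false

namespace CfsgLib.Known.Overgroup.Twisted

open Cfsg.Lie
open CfsgLib.Lie.Chev
open CfsgLib.Lie.Chev.TwGroups
open CfsgLib.Known.ChevFold
open CfsgLib.Known

theorem rowsD4' : ChevFold.chkRows chevD4 chevG2 0 ChevFoldData.qG2 = true := rowsG2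

theorem regularD4 : chkRegular chevD4 chevG2 auxD4 ChevFoldData.qG2 = true := by decide +kernel

theorem upperD4 : chkUpper chevD4 funcD4 = true := by decide +kernel

/-- the orbit of the three outer nodes -/
def outD4 : ℕ × ℕ × List ℕ := (7, 4, [3, 0, 2])

/-- the central node -/
def midNodeD4 : ℕ × ℕ × List ℕ := (6, 5, [1])

theorem moveD4_neg : chkMove chevD4 chevG2 auxD4 ChevFoldData.qG2 [outD4] 7 4 2 (-1) = true := by decide +kernel

theorem moveD4_up : chkMove chevD4 chevG2 auxD4 ChevFoldData.qG2 [midNodeD4] 7 8 0 1 = true := by decide +kernel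

theorem moveD4_down : chkMove chevD4 chevG2 auxD4 ChevFoldData.qG2 [midNodeD4, outD4] 9 7 1 1 = true := by
  decide +kernel

theorem rowsAtD4 : rowAt ChevFoldData.qG2 4 = [(5, 1), (10, 1), (11, 1)] ∧ rowAt ChevFoldData.qG2 5 = [(9, 1)] ∧
    rowAt ChevFoldData.qG2 6 = [(14, 1)] ∧ rowAt ChevFoldData.qG2 7 = [(12, 1), (18, 1), (13, 1)] ∧
    rowAt ChevFoldData.qG2 8 = [(15, -1), (19, 1), (16, -1)] ∧
    rowAt ChevFoldData.qG2 9 = [(17, 1), (20, -1), (21, -1)] ∧
    rowAt ChevFoldData.qG2 10 = [(22, -1)] ∧ rowAt ChevFoldData.qG2 11 = [(23, -1)] := by decide +kernel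

theorem nodeD4 : chevD4.simple 1 = 14 ∧ chevD4.neg 14 = 9 ∧ chevD4.cartan 1 12 = -1 ∧ chevD4.cartan 1 18 = -1 ∧
    chevD4.cartan 1 13 = -1 ∧ ht chevD4 auxD4 12 = 1 ∧ ht chevD4 auxD4 18 = 1 ∧ ht chevD4 auxD4 13 = 1 ∧
    11 < chevG2.nroots ∧ half chevG2 = 6 := by
  decide +kernel

theorem numD4 : chevD4.rank = 4 ∧ chevD4.nroots = 24 := by decide +kernel

set_option synthInstance.maxSize 2000 in
theorem commsD4 :
    (chevD4.commTerms 12 14 = [(15, 1, 1, 1)] ∧ chevD4.commTerms 18 14 = [(19, -1, 1, 1)] ∧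
      chevD4.commTerms 13 14 = [(16, 1, 1, 1)] ∧ chevD4.commTerms 18 15 = [(20, -1, 1, 1)] ∧
      chevD4.commTerms 13 20 = [(22, 1, 1, 1)] ∧ chevD4.commTerms 13 15 = [(17, 1, 1, 1)] ∧
      chevD4.commTerms 13 19 = [(21, 1, 1, 1)] ∧ chevD4.commTerms 15 21 = [(23, -1, 1, 1)]) := by
  decide +kernel

theorem commutesD4 :
    twComm chevD4 0 [12, 18, 13] = true ∧ twComm chevD4 0 [15, 19, 16] = true ∧
      twComm chevD4 0 [17, 20, 21, 22, 23] = true ∧ twComm chevD4 0 [15, 23] = true := by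
  decide +kernel

variable {K : Type*} [Field K]

/-- moving a root element across another one -/
theorem swapD4 {r s u : ℕ} {M : ℤ} (hr : r < chevD4.nroots) (hs : s < chevD4.nroots) (hne : s ≠ r)
    (hneg : s ≠ chevD4.neg r) (h : chevD4.commTerms r s = [(u, M, 1, 1)]) (a b : K)
    (Z : ↥(chevD4.group K)) :
    xG certD4 K s b * (xG certD4 K r a * Z) =
      xG certD4 K r a * (xG certD4 K s b * (xG certD4 K u ((M : K) * -a * b) * Z)) := by
  have hW := (chevRel certD4 K).xe_comm r s a b hr hs hne hneg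
  simp only [ChevalleyDatum.commWord, h, List.map_cons, List.map_nil, List.prod_cons, List.prod_nil, mul_one,
    pow_one] at hW
  rw [← mul_assoc, show xG certD4 K s b * xG certD4 K r a =
    xG certD4 K r a * xG certD4 K s b * xG certD4 K u ((M : K) * -a * b) from hW]
  simp only [mul_assoc]

/-- commuting root elements -/
theorem commD4' {L : List ℕ} (hL : twComm chevD4 0 L = true) {r s : ℕ} (hr : r ∈ L) (hs : s ∈ L) (a b : K)
    (Z : ↥(chevD4.group K)) :
    xG certD4 K r a * (xG certD4 K s b * Z) = xG certD4 K s b * (xG certD4 K r a * Z) := by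
  rw [← mul_assoc, (commute_of_twComm certD4 (p := 0) Nat.cast_zero hL hr hs a b).eq, mul_assoc]

/-- the commutator of a long and a short fundamental element -/
theorem commutatorD4 (a b c : K) :
    xG certD4 K 14 1 * (xG certD4 K 12 a * (xG certD4 K 18 b * xG certD4 K 13 c)) =
      xG certD4 K 12 a * (xG certD4 K 18 b * (xG certD4 K 13 c * (xG certD4 K 14 1 *
        (xG certD4 K 15 (-a) * (xG certD4 K 19 b * (xG certD4 K 16 (-c) *
          (xG certD4 K 17 (a * c) * (xG certD4 K 20 (-(a * b)) * (xG certD4 K 21 (-(b * c)) *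
            (xG certD4 K 22 (a * b * c) * xG certD4 K 23 (a * b * c))))))))))) := by
  obtain ⟨c1, c2, c3, c4, c5, c6, c7, c8⟩ := commsD4
  obtain ⟨-, h8, h9, -⟩ := commutesD4
  obtain ⟨-, hn⟩ := numD4
  have hneg : ∀ r, r < 24 → 12 ≤ r → chevD4.neg r < 12 := by decide +kernel
  have hn' : ∀ r s, 12 ≤ r → r < 24 → 12 ≤ s → s ≠ chevD4.neg r := fun r s hr hr' hs => by
    have := hneg r hr' hr; omega
  conv_lhs => rw [← mul_one (xG certD4 K 13 c)]
  rw [swapD4 (by omega) (by omega) (by omega) (hn' _ _ (by omega) (by omega) (by omega)) c1,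
    swapD4 (by omega) (by omega) (by omega) (hn' _ _ (by omega) (by omega) (by omega)) c4,
    swapD4 (by omega) (by omega) (by omega) (hn' _ _ (by omega) (by omega) (by omega)) c5,
    swapD4 (by omega) (by omega) (by omega) (hn' _ _ (by omega) (by omega) (by omega)) c6,
    swapD4 (r := 18) (s := 14) (by omega) (by omega) (by omega) (hn' _ _ (by omega) (by omega) (by omega)) c2,
    swapD4 (by omega) (by omega) (by omega) (hn' _ _ (by omega) (by omega) (by omega)) c7,
    swapD4 (r := 13) (s := 14) (by omega) (by omega) (by omega) (hn' _ _ (by omega) (by omega) (by omega)) c3,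
    swapD4 (r := 15) (s := 21) (by omega) (by omega) (by omega) (hn' _ _ (by omega) (by omega) (by omega)) c8]
  rw [commD4' h8 (r := 19) (s := 15) (by simp) (by simp), commD4' h8 (r := 16) (s := 15) (by simp) (by simp),
    commD4' h8 (r := 16) (s := 19) (by simp) (by simp)]
  rw [commD4' h9 (r := 23) (s := 17) (by simp) (by simp), commD4' h9 (r := 23) (s := 20) (by simp) (by simp),
    commD4' h9 (r := 21) (s := 17) (by simp) (by simp), commD4' h9 (r := 21) (s := 20) (by simp) (by simp),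
    commD4' h9 (r := 23) (s := 22) (by simp) (by simp)]
  simp only [mul_one]
  push_cast
  ring_nf

variable [Fintype K] {q : ℕ} (hq : IsPrimePow q) (hK : Fintype.card K = q ^ 3)

/-- the triality twisted group with its rows -/
noncomputable def ctxD4 : TwCtx certD4 K where
  Hd := chevG2
  Q := ChevFoldData.qG2
  T := twTD4
  σ := frD4 hq hK
  γ := twEnd certD4 (twField_one K) twOkD4 twPerD4 witD4 connD4
  P := (twD4 hq hK).P1
  hQ := rowsD4'
  hsh := shapeD4
  hγ r t hr := by
    rw [twEnd_gen]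
    have hexp : ∀ r, r < chevD4.nroots → (twAt chevD4 twTD4 r).2.2 = 1 := by decide +kernel
    show xG certD4 K _ (((twAt chevD4 twTD4 r).2.1 : K) * t ^ (twAt chevD4 twTD4 r).2.2) = _
    rw [hexp r hr, pow_one]
  hP g hg := (twD4 hq hK).hfix g hg
  hUP g hg h := (twD4 hq hK).mem_P1_of_fixed_UP hg h
  hUN g hg h := (twD4 hq hK).mem_P1_of_fixed_UN hg h

theorem periodD4 (v : K) : frD4 hq hK (frD4 hq hK (frD4 hq hK v)) = v := by
  rw [frD4_apply, frD4_apply, frD4_apply, pow_qqq hK]

/-- the subfield points form a maximal subgroup -/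
theorem maximal_D4 (p : ℕ) [Fact p.Prime] [CharP K p] :
    (ctxD4 hq hK).M ≠ (ctxD4 hq hK).P ∧ ∀ H : Subgroup ↥(chevD4.group K), (ctxD4 hq hK).M ≤ H →
      H ≤ (ctxD4 hq hK).P → H = (ctxD4 hq hK).M ∨ H = (ctxD4 hq hK).P := by
  obtain ⟨S, hS⟩ : ∃ S : TwCtx certD4 K, S = ctxD4 hq hK := ⟨_, rfl⟩
  obtain ⟨l4, l5, l6, l7, l8, l9, l10, l11⟩ := rowsAtD4
  obtain ⟨s1, g14, k12, k18, k13, t12, t18, t13, hG, -⟩ := nodeD4
  obtain ⟨hr4, -⟩ := numD4
  have r4 : S.row 4 = [(5, 1), (10, 1), (11, 1)] := hS ▸ l4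
  have r5 : S.row 5 = [(9, 1)] := hS ▸ l5
  have r6 : S.row 6 = [(14, 1)] := hS ▸ l6
  have r7 : S.row 7 = [(12, 1), (18, 1), (13, 1)] := hS ▸ l7
  have r8 : S.row 8 = [(15, -1), (19, 1), (16, -1)] := hS ▸ l8
  have r9 : S.row 9 = [(17, 1), (20, -1), (21, -1)] := hS ▸ l9
  have r10 : S.row 10 = [(22, -1)] := hS ▸ l10
  have r11 : S.row 11 = [(23, -1)] := hS ▸ l11
  have hlt : ∀ a, a ≤ 11 → a < S.Hd.nroots := fun a ha => by rw [hS]; exact lt_of_le_of_lt ha hG
  have hσ : ∀ v, S.σ (S.σ (S.σ v)) = v := fun v => by rw [hS]; exact periodD4 hq hK v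
  have hσq : ∀ v, S.σ v = v ^ q := fun v => by rw [hS]; exact frD4_apply hq hK v
  have hper : ∀ v : K, (⇑S.σ)^[3] v = v := hσ
  have hper' : ∀ {a : ℕ}, (S.row a).length = 3 → ∀ v : K, (⇑S.σ)^[(S.row a).length] v = v :=
    fun e v => by rw [e]; exact hper v
  have h7ht : ∀ x ∈ S.row 7, ht chevD4 auxD4 x.1 = 1 := by
    rw [r7]
    intro x hx
    simp only [List.mem_cons, List.not_mem_nil, or_false] at hx
    rcases hx with rfl | rfl | rfl
    exacts [t12, t18, t13]
  rw [← hS]
  obtain ⟨v, hv⟩ : ∃ v : K, S.σ v ≠ v := by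
    by_contra hcon
    push Not at hcon
    have h := card_fixed hq.one_lt three_pos' hK
    rw [Nat.card_congr (Equiv.subtypeUnivEquiv fun t => by rw [← hσq]; exact hcon t),
      Nat.card_eq_fintype_card, hK] at h
    exact absurd h (Nat.ne_of_gt (by nth_rw 1 [← pow_one q]; exact Nat.pow_lt_pow_right hq.one_lt (by norm_num)))
  have hmem : ∀ v, wordG certD4 (twList S.σ (S.row 7) v) ∈ S.P := fun v => by
    have e : wordG certD4 (twList S.σ (S.row 7) v) =
        wordG certD4 [(18, S.σ v), (13, (S.σ v) ^ q), (12, (S.σ v) ^ (q ^ 2))] := by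
      refine S.wordG_row_perm (hlt 7 (by omega)) ?_ fun x hx => S.twList_mem hx
      simp only [r7, twList, Int.cast_one, one_mul]
      rw [← hσq, show (S.σ v) ^ q ^ 2 = v by rw [sq, pow_mul, ← hσq, ← hσq, hσ]]
      exact (List.perm_append_singleton (12, v) [(18, S.σ v), (13, S.σ (S.σ v))]).symm
    rw [e, hS]
    show _ ∈ (twistedD4 K q).subgroupOf (chevD4.group K)
    exact wordG_mem certD4 (Or.inr ⟨_, (18, 13, 12), by simp [d4p1, d4p3, d4p4], rfl⟩)
  refine ⟨fun he => hv ?_, fun H hMH hHP => ?_⟩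
  · refine S.param_fixed (hlt 7 (by omega)) h7ht ?_
    exact (Subgroup.mem_inf.1 (he.symm ▸ hmem v : wordG certD4 (twList S.σ (S.row 7) v) ∈ S.M)).2
  obtain ⟨A, hA⟩ : ∃ A : K → Prop, A = fun v => wordG certD4 (twList S.σ (S.row 7) v) ∈ H := ⟨_, rfl⟩
  by_cases hall : ∀ v, A v
  · right
    refine le_antisymm hHP ?_
    rw [hA] at hall
    have hneg := S.move_all hMH (os := [outD4]) (b := 7) (b' := 4) (j := 2) (ε := -1)
      (hS ▸ moveD4_neg) (hper' (by rw [r4]; rfl)) hall
    have hPle : S.P ≤ H := by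
      rw [hS]
      show (twistedD4 K q).subgroupOf (chevD4.group K) ≤ H
      rw [twistedD4, genSubgroup_subgroupOf certD4, Subgroup.closure_le]
      rintro _ ⟨w, hw, rfl⟩
      have hone : ∀ a r : ℕ, a ≤ 11 → S.row a = [(r, (1 : ℤ))] → ∀ t : K, t ^ q = t →
          wordG certD4 [(r, t)] ∈ H := fun a r ha hrow t ht' => by
        have h := hMH (S.row_mem_M (hlt a ha) (show S.σ t = t by rw [hσq, ht']))
        rw [hrow, listG_eq_wordG] at h
        simpa using h
      rcases hw with ⟨t, ht', r, hr, rfl⟩ | ⟨t, rs, hrs, rfl⟩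
      · simp only [List.mem_cons, List.not_mem_nil, or_false, d4p2, d4m2] at hr
        rcases hr with rfl | rfl
        · exact hone 6 14 (by omega) r6 t ht'
        · exact hone 5 9 (by omega) r5 t ht'
      · simp only [List.mem_cons, List.not_mem_nil, or_false, d4p1, d4p3, d4p4, d4m1, d4m3, d4m4] at hrs
        rcases hrs with rfl | rfl
        · have h := hall (t ^ (q ^ 2))
          have e : wordG certD4 [(18, t), (13, t ^ q), (12, t ^ (q ^ 2))] =
              wordG certD4 (twList S.σ (S.row 7) (t ^ (q ^ 2))) := by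
            refine S.wordG_row_perm (hlt 7 (by omega)) ?_ fun x hx => ?_
            · simp only [r7, twList, Int.cast_one, one_mul]
              rw [show S.σ (t ^ q ^ 2) = t by
                  rw [hσq, ← pow_mul, ← pow_succ]; exact pow_q_card hK t, hσq t]
              exact List.perm_append_singleton (12, t ^ q ^ 2) [(18, t), (13, t ^ q)]
            · simp only [r7, List.map_cons, List.map_nil, List.mem_cons, List.not_mem_nil, or_false] at hx ⊢
              rcases hx with rfl | rfl | rfl <;> simp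
          show wordG certD4 [(18, t), (13, t ^ q), (12, t ^ (q ^ 2))] ∈ H
          rw [e]; exact h
        · have h := hneg t
          rw [r4] at h
          simp only [twList, Int.cast_one, one_mul] at h
          rw [show S.σ (S.σ t) = t ^ q ^ 2 by rw [hσq, hσq, ← pow_mul, sq], hσq t] at h
          exact h
    exact hPle
  left
  refine le_antisymm ?_ hMH
  have hAfix : ∀ a, S.σ a = a → A a := fun a ha => by
    rw [hA]; exact S.fixed_mem hMH (hlt 7 (by omega)) ha
  have hAadd : ∀ x y, A x → A y → A (x + y) := fun x y hx hy => by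
    rw [hA] at hx hy ⊢
    show wordG certD4 (twList S.σ (S.row 7) (x + y)) ∈ H
    rw [← S.twList_add (hlt 7 (by omega))]
    exact mul_mem hx hy
  have hAsmul : ∀ a x, S.σ a = a → A x → A (a * x) := fun a x ha hx => by
    rw [hA] at hx ⊢
    refine S.smul_mem hMH (i := 1) (a := 6) (an := 5) (e := -1) (by omega) (hlt 6 (by omega)) (hlt 5 (by omega))
      (hlt 7 (by omega)) (by rw [r6, s1]) (by rw [r5, s1, g14]) (Or.inr rfl) (fun x hx => ?_) ha hx
    rw [r7] at hx
    simp only [List.mem_cons, List.not_mem_nil, or_false] at hx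
    rcases hx with rfl | rfl | rfl
    exacts [k12, k18, k13]
  have hAsharp : ∀ x, A x → A (S.σ (S.σ x) * S.σ x) := by
    intro x hx
    rw [hA] at hx ⊢
    have h8 := S.move_mem hMH (os := [midNodeD4]) (b := 7) (b' := 8) (j := 0) (ε := 1)
      (hS ▸ moveD4_up) (hper' (by rw [r8]; rfl)) hx
    rw [Int.cast_one, one_mul, Nat.sub_zero, hper' (by rw [r8]; rfl)] at h8
    have h14 : xG certD4 K 14 1 ∈ H := by
      have h := hMH (S.row_mem_M (hlt 6 (by omega)) (map_one S.σ))
      rw [r6] at h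
      simpa [listG] using h
    have hlong : ∀ a r : ℕ, a ≤ 11 → S.row a = [(r, (-1 : ℤ))] →
        xG certD4 K r (x * S.σ x * S.σ (S.σ x)) ∈ H := fun a r ha hrow => by
      have hN : S.σ (-(x * S.σ x * S.σ (S.σ x))) = -(x * S.σ x * S.σ (S.σ x)) := by
        simp only [map_neg, map_mul, hσ]; ring
      have h := hMH (S.row_mem_M (hlt a ha) hN)
      rw [hrow] at h
      simpa [listG] using h
    have hcomm := commutatorD4 x (S.σ x) (S.σ (S.σ x))
    have hx' := hx
    rw [r7] at hx'
    rw [r8] at h8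
    simp only [twList, wordG_cons, wordG_nil, Int.cast_one, Int.cast_neg, one_mul, neg_mul, mul_one] at hx' h8
    have h9 : xG certD4 K 17 (x * S.σ (S.σ x)) * (xG certD4 K 20 (-(x * S.σ x)) *
        xG certD4 K 21 (-(S.σ x * S.σ (S.σ x)))) ∈ H := by
      have hLHS := mul_mem h14 hx'
      rw [hcomm] at hLHS
      have h22 := hlong 10 22 (by omega) r10
      have h23 := hlong 11 23 (by omega) r11
      have h := mul_mem (mul_mem (mul_mem (inv_mem h8) (inv_mem h14)) (inv_mem hx'))
        (mul_mem hLHS (inv_mem (mul_mem h22 h23)))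
      convert h using 1
      group
    have h9' : wordG certD4 (twList S.σ (S.row 9) (x * S.σ (S.σ x))) ∈ H := by
      rw [r9]
      simp only [twList, wordG_cons, wordG_nil, Int.cast_one, Int.cast_neg, one_mul, neg_mul, mul_one, map_mul,
        hσ]
      rw [mul_comm (S.σ x) x, mul_comm (S.σ (S.σ x)) (S.σ x)]
      exact h9
    have h7 := S.move_mem hMH (os := [midNodeD4, outD4]) (b := 9) (b' := 7) (j := 1) (ε := 1)
      (hS ▸ moveD4_down) (hper' (by rw [r7]; rfl)) h9'
    rw [Int.cast_one, one_mul, show (S.row 7).length - 1 = 2 by rw [r7]; rfl] at h7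
    simp only [Function.iterate_succ, Function.iterate_zero, Function.comp_apply, id_eq, map_mul, hσ] at h7
    exact h7
  have hAF : ∀ v, A v → S.σ v = v := fun v hv => by
    by_contra hne
    exact hall (span_three S.σ hAfix hAadd hAsmul hσ hv hne (hAsharp v hv))
  have hexc : ∀ v : K, wordG certD4 (twList S.σ (S.row 9) v) ∈ H → S.σ v = v := fun v hv => by
    have h7 := S.move_mem hMH (os := [midNodeD4, outD4]) (b := 9) (b' := 7) (j := 1) (ε := 1)
      (hS ▸ moveD4_down) (hper' (by rw [r7]; rfl)) hv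
    rw [Int.cast_one, one_mul, show (S.row 7).length - 1 = 2 by rw [r7]; rfl] at h7
    have h := hAF _ (by rw [hA]; exact h7)
    simp only [Function.iterate_succ, Function.iterate_zero, Function.comp_apply, id_eq] at h
    exact S.σ.injective (S.σ.injective h)
  have hm := mode_cases p
  have main : ∀ (m : ℕ) (Ls : List (List (ℕ × List (ℕ × ℕ × ℤ)))) (der : List (ℕ × ℕ × ℕ))
      (L : List (ℕ × List (List (ℕ × List (ℕ × ℕ × ℕ × ℤ))))) (gens : List ℕ) (KL : List (ℕ × ℕ × ℕ × ℕ))
      (CL : List (ℕ × ℕ × ℕ)), min p 5 = m →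
      chkDescT chevD4 chevG2 auxD4 m twTD4 ChevFoldData.qG2 9 Ls = true →
      chkKillT chevD4 chevG2 m 60 ChevFoldData.qG2 funcD4 der L = true →
      chkCommT chevD4 chevG2 m ChevFoldData.qG2 funcD4 gens KL CL = true → H ≤ S.M := by
    intro m Ls der L gens KL CL e h1 h2 h3
    rw [← e] at h1 h2 h3
    refine S.le_M_of_data p (f := 60) (ex := 9) (Ls := Ls) (F := funcD4) (der := der) (L := L) (gens := gens)
      (KL := KL) (CL := CL) hHP hMH ?_ (hper' (by rw [r9]; rfl)) hexc ?_ upperD4 ?_ ?_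
    · rw [hS]; exact h1
    · rw [hS]; exact regularD4
    · rw [hS]; exact h2
    · rw [hS]; exact h3
  rcases hm with e | e | e
  · exact main _ _ _ _ _ _ _ e chkDescD4_2 chkKillD4_2 chkCommD4_2
  · exact main _ _ _ _ _ _ _ e chkDescD4_3 chkKillD4_3 chkCommD4_3
  · exact main _ _ _ _ _ _ _ e chkDescD4_5 chkKillD4_5 chkCommD4_5

end CfsgLib.Known.Overgroup.Twisted
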