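import Cfsg.Agent.Lib.Known.Overgroup.Twisted.Kill
import Cfsg.Agent.Lib.Known.Overgroup.Twisted.Commutant
import Cfsg.Agent.Lib.Known.Overgroup.Twisted.Tables
import Cfsg.Agent.Lib.Lie.Twisted.E6

/-!
# Certificates for the twisted type `E6`: generated by a search program, checked by kernel reduction
-/

set_option autoImplicit false
set_option maxRecDepth 100000

namespace CfsgLib.Known.Overgroup.Twisted

open Cfsg.Lie
open CfsgLib.Lie.Chev
open CfsgLib.Lie.Chev.TwGroups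
open CfsgLib.Known

theorem shapeE6 : chkTwRows chevE6 chevF4 auxE6 twTE6 qF4s = true := by decide +kernel

/-- the entries used as functionals -/
def funcE6 : List (ℕ × ℕ) := [(77, 77), (72, 74)]

def descE6_2 : List (List (ℕ × List (ℕ × ℕ × ℤ))) :=
  [[(36, [(27, 38, 1)]), (37, [(25, 40, 1)]), (39, [(24, 47, 1)]), (42, [(25, 43, 1)]), (46, [(24, 72, 1)]), (56, [(27, 57, 1)])], [(38, [(25, 41, 1)]), (40, [(24, 48, 1)]), (43, [(24, 50, 1)]), (47, [(26, 72, 1)]), (57, [(25, 58, 1)])], [(41, [(24, 49, 1)]), (44, [(24, 51, 1)]), (48, [(33, 49, 1)]), (50, [(33, 61, 1)]), (58, [(24, 61, 1)])], [(45, [(24, 52, 1)]), (49, [(27, 52, 1)]), (51, [(25, 53, 1)]), (59, [(24, 62, 1)]), (61, [(27, 62, 1)])], [(52, [(25, 54, 1)]), (53, [(32, 72, 1)]), (60, [(24, 63, 1)]), (62, [(25, 64, 1)])], [(54, [(27, 55, 1)]), (63, [(25, 65, 1)]), (64, [(27, 67, 1)])], [(55, [(33, 66, 1)]), (65, [(27, 66, 1)]), (67, [(33,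 68, 1)])], [], [(69, [(25, 70, 1)])], [(70, [(24, 71, 1)])], [(71, [(47, 72, 1)])]]

theorem chkDescE6_2 : chkDescT chevE6 chevF4 auxE6 2 twTE6 qF4s 44 descE6_2 = true := by decide +kernel

def derE6_2 : List (ℕ × ℕ × ℕ) := [(24, 25, 26), (24, 30, 31), (24, 41, 42), (24, 46, 47), (25, 31, 32), (25, 38, 39), (25, 42, 43), (25, 45, 46), (26, 27, 29), (26, 34, 36), (27, 33, 34), (27, 35, 37), (27, 36, 38), (27, 39, 40), (28, 33, 35), (28, 42, 44), (30, 33, 41), (30, 42, 45)]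

def killE6_2 : List (ℕ × List (List (ℕ × List (ℕ × ℕ × ℕ × ℤ)))) :=
  [(24, [[(1, [(26, 76, 75, 1)])], []]), (25, [[], []]), (27, [[], [(1, [(31, 72, 66, 1), (31, 77, 74, 1)]), (2, [(31, 71, 66, 1)])]]), (28, [[], [(1, [(26, 8, 49, 1), (26, 54, 50, 1), (31, 43, 31, 1), (32, 1, 29, 1), (32, 9, 6, 1), (47, 54, 14, 1), (47, 69, 29, 1), (47, 72, 31, 1), (47, 77, 49, 1)]), (2, [(32, 1, 31, 1), (47, 69, 31, 1)])]]), (30, [[], []]), (33, [[], [(1, [(42, 61, 49, 1)])]])]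

theorem chkKillE6_2 : chkKillT chevE6 chevF4 2 60 qF4s funcE6 derE6_2 killE6_2 = true := by
  decide +kernel

def keysE6_2 : List (ℕ × ℕ × ℕ × ℕ) :=
  [(6, 0, 77, 5225), (6, 7, 77, 1949), (6, 8, 77, 2105), (6, 9, 77, 2183), (6, 11, 77, 2339), (6, 12, 77, 2417), (6, 14, 77, 2495), (6, 18, 77, 3353), (6, 19, 77, 3509), (6, 20, 77, 3743), (6, 21, 77, 4055), (6, 32, 77, 4913), (6, 36, 77, 4991), (6, 39, 77, 5069), (6, 41, 77, 5147), (6, 52, 77, 5459), (6, 53, 77, 5615), (6, 54, 77, 5693), (6, 56, 77, 5849), (6, 57, 77, 5927), (6, 59, 77, 6005), (10, 9, 77, 1325), (10, 11, 77, 2261), (10, 19, 77, 3431), (10, 20, 77, 3665), (10, 21, 77, 3977), (10, 36, 77, 3821), (10, 39, 77, 3899), (10, 54, 77, 4835), (10, 56, 77, 5771), (12, 9, 77, 2027), (12, 11, 77, 1247), (12, 18, 77, 3197), (12, 20, 77, 3587), (12, 32, 77, 2807), (12, 54, 77, 5537), (12, 56, 77, 4757), (13, 9, 77, 1871), (13, 11, 77, 1091),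 (13, 18, 77, 2963), (13, 19, 77, 3041), (13, 32, 77, 2729), (13, 54, 77, 5381), (13, 56, 77, 4601), (14, 9, 77, 857), (14, 11, 77, 1793), (14, 18, 77, 2651), (14, 54, 77, 4367), (14, 56, 77, 5303), (15, 1, 74, 4676), (15, 6, 74, 1166), (15, 7, 74, 1400), (15, 10, 74, 1634), (15, 13, 74, 1712), (15, 22, 74, 3116), (15, 23, 74, 3272), (15, 26, 74, 3584), (15, 27, 74, 3662), (15, 29, 74, 3896), (15, 30, 74, 3974), (15, 33, 74, 4208), (15, 34, 74, 4286), (15, 37, 74, 4442), (15, 38, 74, 4520), (15, 42, 74, 4754), (15, 44, 74, 4832), (15, 62, 74, 5534), (15, 63, 74, 5768), (15, 66, 74, 6002), (15, 69, 74, 6080), (16, 6, 74, 1010), (16, 10, 74, 1556), (16, 22, 74, 2882), (16, 24, 74, 3038), (16, 27, 74, 3428), (16, 29, 74, 3818), (16, 33, 74, 4130), (16, 42, 74, 4598), (16, 62, 74, 5378), (16, 66, 74, 5924), (17, 7, 77, 1013), (17, 8, 77, 1169), (17, 10, 74, 1322), (17, 18, 77, 1715), (17, 22, 74,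 2258), (17, 24, 74, 2414), (17, 26, 74, 2492), (17, 32, 77, 3275), (17, 42, 74, 4052), (17, 52, 77, 4523), (17, 53, 77, 4679), (17, 62, 74, 5144), (19, 18, 77, 1637), (19, 32, 77, 3119), (20, 18, 77, 1559), (20, 32, 77, 2885), (21, 6, 74, 698), (21, 13, 74, 1478), (21, 23, 74, 2570), (21, 24, 74, 2648), (21, 27, 74, 2804), (21, 29, 74, 3194), (21, 44, 74, 4364), (21, 63, 74, 5300), (21, 66, 74, 5612), (22, 7, 77, 701), (22, 13, 74, 1244), (22, 23, 74, 2024), (22, 24, 74, 2102), (22, 44, 74, 3740), (22, 52, 77, 4211), (22, 63, 74, 5066), (23, 6, 74, 620), (23, 27, 74, 2726), (23, 29, 74, 2960), (23, 66, 74, 5456), (24, 0, 76, 77), (24, 2, 76, 233), (24, 3, 76, 311), (24, 4, 76, 389), (24, 5, 76, 467), (24, 6, 76, 545), (24, 7, 74, 542), (24, 9, 76, 779), (24, 11, 76, 935), (24, 34, 74, 2180), (24, 37, 74, 2336), (24, 69, 74, 5222), (25, 8, 77, 623), (25, 15, 74, 1088), (25, 25, 74, 1868), (25,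 26, 74, 1946), (25, 47, 74, 3506), (25, 53, 77, 4133), (25, 64, 74, 4988), (27, 19, 77, 1481), (27, 36, 77, 2573), (30, 16, 74, 854), (30, 28, 74, 1790), (30, 51, 74, 3350), (30, 65, 74, 4910), (33, 1, 73, 152), (33, 2, 73, 230), (33, 3, 73, 308), (33, 4, 73, 386), (33, 9, 73, 776), (33, 11, 73, 932), (33, 18, 77, 1403), (33, 55, 77, 4289), (33, 67, 77, 4445), (41, 51, 73, 1711), (41, 65, 73, 3271), (47, 1, 1, 155), (33, 0, 73, 74), (33, 5, 73, 464), (29, 77, 74, 5846)]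

def colsE6_2 : List (ℕ × ℕ × ℕ) :=
  [(0, 74, 29), (1, 74, 37), (1, 77, 52), (2, 74, 40), (2, 77, 53), (3, 37, 7), (3, 40, 8), (3, 29, 6), (4, 40, 11), (4, 74, 48), (4, 77, 57), (4, 53, 17), (5, 74, 49), (5, 77, 59), (6, 74, 56), (7, 74, 42), (7, 48, 13), (7, 49, 15), (7, 56, 18), (8, 40, 22), (8, 42, 24), (8, 49, 28), (8, 53, 32), (8, 56, 36), (8, 74, 63), (9, 42, 26), (9, 56, 39), (9, 74, 64), (10, 42, 33), (10, 74, 67), (11, 32, 9), (11, 33, 10), (11, 36, 12), (11, 39, 14), (11, 52, 19), (11, 53, 20), (11, 56, 21), (11, 63, 30), (11, 64, 31), (11, 74, 51), (12, 31, 16), (12, 63, 38), (12, 74, 58), (13, 64, 45), (13, 74, 60), (14, 24, 23), (14, 26, 25), (14, 51, 50), (14, 74, 73), (15, 77, 69), (16, 77, 71), (18, 52, 34), (18, 53, 35), (18, 57, 43), (18, 58, 44), (18, 59, 46), (18, 60, 47), (18, 67, 62), (18, 73, 65), (18, 74, 66), (18, 77, 72), (19, 31, 27), (19, 59, 54), (19, 60, 55), (19,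 73, 68), (20, 43, 4), (20, 48, 2), (20, 73, 70), (21, 77, 75), (22, 45, 3), (23, 52, 1), (23, 77, 76), (27, 39, 41), (27, 60, 61), (33, 21, 0), (33, 41, 5)]

theorem chkCommE6_2 : chkCommT chevE6 chevF4 2 qF4s funcE6 [77, 74] keysE6_2 colsE6_2 = true := by
  decide +kernel

def descE6_3 : List (List (ℕ × List (ℕ × ℕ × ℤ))) :=
  [[(36, [(27, 38, 1)]), (37, [(25, 40, 1)]), (39, [(24, 47, 1)]), (42, [(25, 43, -1)]), (46, [(24, 72, -1)]), (56, [(27, 57, -1)])], [(38, [(25, 41, 1)]), (40, [(24, 48, 1)]), (43, [(24, 50, -1)]), (47, [(26, 72, 1)]), (57, [(25, 58, -1)])], [(41, [(24, 49, 1)]), (44, [(24, 51, -1)]), (48, [(33, 49, -1)]), (50, [(33, 61, 1)]), (58, [(24, 61, -1)])], [(45, [(24, 52, -1)]), (49, [(27, 52, -1)]), (51, [(25, 53, -1)]), (59, [(24, 62, -1)]), (61, [(27, 62, -1)])], [(52, [(25, 54, -1)]), (53, [(32, 72, -1)]), (60, [(24, 63, -1)]), (62, [(25, 64, -1)])], [(54, [(27, 55, -1)]),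 (63, [(25, 65, -1)]), (64, [(27, 67, -1)])], [(55, [(33, 66, 1)]), (65, [(27, 66, -1)]), (67, [(33, 68, -1)])], [], [(69, [(25, 70, -1)])], [(70, [(24, 71, -1)])], [(71, [(47, 72, -1)])]]

theorem chkDescE6_3 : chkDescT chevE6 chevF4 auxE6 3 twTE6 qF4s 44 descE6_3 = true := by decide +kernel

def derE6_3 : List (ℕ × ℕ × ℕ) := [(24, 25, 26), (24, 30, 31), (24, 41, 42), (24, 46, 47), (25, 31, 32), (25, 38, 39), (25, 42, 43), (25, 45, 46), (26, 27, 29), (26, 34, 36), (27, 28, 30), (27, 33, 34), (27, 35, 37), (27, 36, 38), (27, 39, 40), (27, 44, 45), (28, 33, 35), (28, 42, 44), (30, 33, 41), (25, 27, 28)]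

def killE6_3 : List (ℕ × List (List (ℕ × List (ℕ × ℕ × ℕ × ℤ)))) :=
  [(24, [[], []]), (25, [[], []]), (27, [[], [(2, [(31, 71, 66, -1)])]]), (33, [[], []])]

theorem chkKillE6_3 : chkKillT chevE6 chevF4 3 60 qF4s funcE6 derE6_3 killE6_3 = true := by
  decide +kernel

def keysE6_3 : List (ℕ × ℕ × ℕ × ℕ) :=
  [(6, 0, 77, 5225), (6, 7, 77, 1949), (6, 8, 77, 2105), (6, 9, 77, 2183), (6, 11, 77, 2339), (6, 12, 77, 2417), (6, 14, 77, 2495), (6, 18, 77, 3353), (6, 19, 77, 3509), (6, 20, 77, 3743), (6, 21, 77, 4055), (6, 32, 77, 4913), (6, 36, 77, 4991), (6, 39, 77, 5069), (6, 41, 77, 5147), (6, 52, 77, 5459), (6, 53, 77, 5615), (6, 54, 77, 5693), (6, 56, 77, 5849), (6, 57, 77, 5927), (6, 59, 77, 6005), (10, 9, 77, 1325), (10, 11, 77, 2261), (10, 19, 77, 3431), (10, 20, 77, 3665), (10, 21, 77, 3977), (10, 36, 77, 3821), (10, 39, 77, 3899), (10, 54, 77, 4835), (10, 56, 77, 5771), (12, 9, 77, 2027),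 (12, 11, 77, 1247), (12, 18, 77, 3197), (12, 20, 77, 3587), (12, 32, 77, 2807), (12, 54, 77, 5537), (12, 56, 77, 4757), (13, 9, 77, 1871), (13, 11, 77, 1091), (13, 18, 77, 2963), (13, 19, 77, 3041), (13, 32, 77, 2729), (13, 54, 77, 5381), (13, 56, 77, 4601), (14, 9, 77, 857), (14, 11, 77, 1793), (14, 18, 77, 2651), (14, 54, 77, 4367), (14, 56, 77, 5303), (15, 1, 74, 4676), (15, 6, 74, 1166), (15, 7, 74, 1400), (15, 10, 74, 1634), (15, 13, 74, 1712), (15, 22, 74, 3116), (15, 23, 74, 3272), (15, 26, 74, 3584), (15, 27, 74, 3662), (15, 29, 74, 3896), (15, 30, 74, 3974), (15, 33, 74, 4208), (15, 34, 74, 4286), (15, 37, 74, 4442), (15, 38, 74, 4520), (15, 42, 74, 4754), (15, 44, 74, 4832), (15, 62, 74, 5534), (15, 63, 74, 5768), (15, 66, 74, 6002), (15, 69, 74, 6080), (16, 6, 74, 1010), (16, 10, 74, 1556), (16, 22, 74, 2882), (16, 24, 74, 3038), (16, 27, 74, 3428), (16, 29, 74, 3818), (16, 33, 74,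 4130), (16, 42, 74, 4598), (16, 62, 74, 5378), (16, 66, 74, 5924), (17, 7, 77, 1013), (17, 8, 77, 1169), (17, 10, 74, 1322), (17, 18, 77, 1715), (17, 22, 74, 2258), (17, 24, 74, 2414), (17, 26, 74, 2492), (17, 32, 77, 3275), (17, 42, 74, 4052), (17, 52, 77, 4523), (17, 53, 77, 4679), (17, 62, 74, 5144), (19, 18, 77, 1637), (19, 32, 77, 3119), (20, 18, 77, 1559), (20, 32, 77, 2885), (21, 6, 74, 698), (21, 13, 74, 1478), (21, 23, 74, 2570), (21, 24, 74, 2648), (21, 27, 74, 2804), (21, 29, 74, 3194), (21, 44, 74, 4364), (21, 63, 74, 5300), (21, 66, 74, 5612), (22, 7, 77, 701), (22, 13, 74, 1244), (22, 23, 74, 2024), (22, 24, 74, 2102), (22, 44, 74, 3740), (22, 52, 77, 4211), (22, 63, 74, 5066), (23, 6, 74, 620), (23, 27, 74, 2726), (23, 29, 74, 2960), (23, 66, 74, 5456), (24, 0, 76, 77), (24, 2, 76, 233), (24, 3, 76, 311), (24, 4, 76, 389), (24, 5, 76, 467), (24, 6, 76, 545), (24, 7, 74, 542), (24,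 9, 76, 779), (24, 11, 76, 935), (24, 34, 74, 2180), (24, 37, 74, 2336), (24, 69, 74, 5222), (25, 8, 77, 623), (25, 15, 74, 1088), (25, 25, 74, 1868), (25, 26, 74, 1946), (25, 47, 74, 3506), (25, 53, 77, 4133), (25, 64, 74, 4988), (26, 45, 76, 2494), (27, 19, 77, 1481), (27, 36, 77, 2573), (30, 16, 74, 854), (30, 28, 74, 1790), (30, 51, 74, 3350), (30, 65, 74, 4910), (33, 1, 73, 152), (33, 2, 73, 230), (33, 3, 73, 308), (33, 4, 73, 386), (33, 9, 73, 776), (33, 11, 73, 932), (33, 18, 77, 1403), (33, 55, 77, 4289), (33, 67, 77, 4445), (41, 51, 73, 1711), (41, 65, 73, 3271), (24, 1, 76, 155), (33, 0, 73, 74), (33, 5, 73, 464), (29, 77, 74, 5846)]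

def colsE6_3 : List (ℕ × ℕ × ℕ) :=
  [(0, 74, 29), (1, 74, 37), (1, 77, 52), (2, 74, 40), (2, 77, 53), (3, 37, 7), (3, 40, 8), (3, 29, 6), (4, 40, 11), (4, 74, 48), (4, 77, 57), (4, 53, 17), (5, 74, 49), (5, 77, 59), (6, 74, 56), (7, 74, 42), (7, 48, 13), (7, 49, 15), (7, 56, 18), (8, 40, 22), (8, 42, 24), (8, 49, 28), (8, 53, 32), (8, 56, 36), (8, 74, 63), (9, 42, 26), (9, 56, 39), (9, 74, 64), (10, 42, 33), (10, 74, 67), (11, 32, 9), (11, 33, 10), (11, 36, 12), (11, 39, 14), (11, 52, 19), (11, 53, 20), (11, 56, 21), (11, 63, 30), (11, 64, 31), (11, 74, 51), (12, 31, 16), (12, 63, 38), (12, 74, 58), (13, 64, 45), (13, 74, 60), (14, 24, 23), (14, 26, 25), (14, 51, 50), (14, 74, 73), (15, 77, 69), (16, 77, 71), (18, 52, 34), (18, 53, 35), (18, 57, 43), (18, 58, 44), (18, 59, 46), (18, 60, 47), (18, 67, 62), (18, 73, 65), (18, 74, 66), (18, 77, 72), (19, 31, 27), (19, 59, 54), (19, 60, 55), (19,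 73, 68), (20, 43, 4), (20, 48, 2), (20, 73, 70), (21, 77, 75), (22, 45, 3), (23, 52, 1), (23, 77, 76), (27, 39, 41), (27, 60, 61), (33, 21, 0), (33, 41, 5)]

theorem chkCommE6_3 : chkCommT chevE6 chevF4 3 qF4s funcE6 [77, 74] keysE6_3 colsE6_3 = true := by
  decide +kernel

def descE6_5 : List (List (ℕ × List (ℕ × ℕ × ℤ))) :=
  [[(36, [(27, 38, 1)]), (37, [(25, 40, 1)]), (39, [(24, 47, 1)]), (42, [(25, 43, -1)]), (46, [(24, 72, -1)]), (56, [(27, 57, -1)])], [(38, [(25, 41, 1)]), (40, [(24, 48, 1)]), (43, [(24, 50, -1)]), (47, [(26, 72, 1)]), (57, [(25, 58, -1)])], [(41, [(24, 49, 1)]), (44, [(24, 51, -1)]), (48, [(33, 49, -1)]), (50, [(33, 61, 1)]), (58, [(24, 61, -1)])], [(45, [(24, 52, -1)]), (49, [(27, 52, -1)]), (51, [(25, 53, -1)]), (59, [(24, 62, -1)]), (61, [(27, 62, -1)])], [(52, [(25, 54, -1)]), (53, [(32, 72, -1)]), (60, [(24, 63, -1)]), (62, [(25, 64, -1)])], [(54, [(27, 55, -1)]),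 (63, [(25, 65, -1)]), (64, [(27, 67, -1)])], [(55, [(33, 66, 1)]), (65, [(27, 66, -1)]), (67, [(33, 68, -1)])], [], [(69, [(25, 70, -1)])], [(70, [(24, 71, -1)])], [(71, [(47, 72, -1)])]]

theorem chkDescE6_5 : chkDescT chevE6 chevF4 auxE6 5 twTE6 qF4s 44 descE6_5 = true := by decide +kernel

def derE6_5 : List (ℕ × ℕ × ℕ) := [(24, 25, 26), (24, 30, 31), (24, 41, 42), (24, 46, 47), (25, 31, 32), (25, 38, 39), (25, 42, 43), (25, 45, 46), (26, 27, 29), (26, 34, 36), (27, 28, 30), (27, 33, 34), (27, 35, 37), (27, 36, 38), (27, 39, 40), (27, 44, 45), (28, 33, 35), (28, 42, 44), (30, 33, 41), (25, 27, 28)]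

def killE6_5 : List (ℕ × List (List (ℕ × List (ℕ × ℕ × ℕ × ℤ)))) :=
  [(24, [[], []]), (25, [[], []]), (27, [[], []]), (33, [[], []])]

theorem chkKillE6_5 : chkKillT chevE6 chevF4 5 60 qF4s funcE6 derE6_5 killE6_5 = true := by
  decide +kernel

def keysE6_5 : List (ℕ × ℕ × ℕ × ℕ) :=
  [(6, 0, 77, 5225), (6, 7, 77, 1949), (6, 8, 77, 2105), (6, 9, 77, 2183), (6, 11, 77, 2339), (6, 12, 77, 2417), (6, 14, 77, 2495), (6, 18, 77, 3353), (6, 19, 77, 3509), (6, 20, 77, 3743), (6, 21, 77, 4055), (6, 32, 77, 4913), (6, 36, 77, 4991), (6, 39, 77, 5069), (6, 41, 77, 5147), (6, 52, 77, 5459), (6, 53, 77, 5615), (6, 54, 77, 5693), (6, 56, 77, 5849), (6, 57, 77, 5927), (6, 59, 77, 6005), (10, 9, 77, 1325), (10, 11, 77, 2261), (10, 19, 77, 3431), (10, 20, 77, 3665), (10, 21, 77, 3977), (10, 36, 77, 3821), (10, 39, 77, 3899), (10, 54, 77, 4835), (10, 56, 77, 5771), (12, 9, 77, 2027), (12, 11, 77, 1247), (12,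 18, 77, 3197), (12, 20, 77, 3587), (12, 32, 77, 2807), (12, 54, 77, 5537), (12, 56, 77, 4757), (13, 9, 77, 1871), (13, 11, 77, 1091), (13, 18, 77, 2963), (13, 19, 77, 3041), (13, 32, 77, 2729), (13, 54, 77, 5381), (13, 56, 77, 4601), (14, 9, 77, 857), (14, 11, 77, 1793), (14, 18, 77, 2651), (14, 54, 77, 4367), (14, 56, 77, 5303), (15, 1, 74, 4676), (15, 6, 74, 1166), (15, 7, 74, 1400), (15, 10, 74, 1634), (15, 13, 74, 1712), (15, 22, 74, 3116), (15, 23, 74, 3272), (15, 26, 74, 3584), (15, 27, 74, 3662), (15, 29, 74, 3896), (15, 30, 74, 3974), (15, 33, 74, 4208), (15, 34, 74, 4286), (15, 37, 74, 4442), (15, 38, 74, 4520), (15, 42, 74, 4754), (15, 44, 74, 4832), (15, 62, 74, 5534), (15, 63, 74, 5768), (15, 66, 74, 6002), (15, 69, 74, 6080), (16, 6, 74, 1010), (16, 10, 74, 1556), (16, 22, 74, 2882), (16, 24, 74, 3038), (16, 27, 74, 3428), (16, 29, 74, 3818), (16, 33, 74, 4130), (16, 42, 74, 4598),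 (16, 62, 74, 5378), (16, 66, 74, 5924), (17, 7, 77, 1013), (17, 8, 77, 1169), (17, 10, 74, 1322), (17, 18, 77, 1715), (17, 22, 74, 2258), (17, 24, 74, 2414), (17, 26, 74, 2492), (17, 32, 77, 3275), (17, 42, 74, 4052), (17, 52, 77, 4523), (17, 53, 77, 4679), (17, 62, 74, 5144), (19, 18, 77, 1637), (19, 32, 77, 3119), (20, 18, 77, 1559), (20, 32, 77, 2885), (21, 6, 74, 698), (21, 13, 74, 1478), (21, 23, 74, 2570), (21, 24, 74, 2648), (21, 27, 74, 2804), (21, 29, 74, 3194), (21, 44, 74, 4364), (21, 63, 74, 5300), (21, 66, 74, 5612), (22, 7, 77, 701), (22, 13, 74, 1244), (22, 23, 74, 2024), (22, 24, 74, 2102), (22, 44, 74, 3740), (22, 52, 77, 4211), (22, 63, 74, 5066), (23, 6, 74, 620), (23, 27, 74, 2726), (23, 29, 74, 2960), (23, 66, 74, 5456), (24, 0, 76, 77), (24, 2, 76, 233), (24, 3, 76, 311), (24, 4, 76, 389), (24, 5, 76, 467), (24, 6, 76, 545), (24, 7, 74, 542), (24, 9, 76, 779), (24, 11, 76,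 935), (24, 34, 74, 2180), (24, 37, 74, 2336), (24, 69, 74, 5222), (25, 8, 77, 623), (25, 15, 74, 1088), (25, 25, 74, 1868), (25, 26, 74, 1946), (25, 47, 74, 3506), (25, 53, 77, 4133), (25, 64, 74, 4988), (26, 45, 76, 2494), (27, 19, 77, 1481), (27, 36, 77, 2573), (30, 16, 74, 854), (30, 28, 74, 1790), (30, 51, 74, 3350), (30, 65, 74, 4910), (33, 1, 73, 152), (33, 2, 73, 230), (33, 3, 73, 308), (33, 4, 73, 386), (33, 9, 73, 776), (33, 11, 73, 932), (33, 18, 77, 1403), (33, 55, 77, 4289), (33, 67, 77, 4445), (41, 51, 73, 1711), (41, 65, 73, 3271), (24, 1, 76, 155), (33, 0, 73, 74), (33, 5, 73, 464), (29, 77, 74, 5846)]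

def colsE6_5 : List (ℕ × ℕ × ℕ) :=
  [(0, 74, 29), (1, 74, 37), (1, 77, 52), (2, 74, 40), (2, 77, 53), (3, 37, 7), (3, 40, 8), (3, 29, 6), (4, 40, 11), (4, 74, 48), (4, 77, 57), (4, 53, 17), (5, 74, 49), (5, 77, 59), (6, 74, 56), (7, 74, 42), (7, 48, 13), (7, 49, 15), (7, 56, 18), (8, 40, 22), (8, 42, 24), (8, 49, 28), (8, 53, 32), (8, 56, 36), (8, 74, 63), (9, 42, 26), (9, 56, 39), (9, 74, 64), (10, 42, 33), (10, 74, 67), (11, 32, 9), (11, 33, 10), (11, 36, 12), (11, 39, 14), (11, 52, 19), (11, 53, 20), (11, 56, 21), (11, 63, 30), (11, 64, 31), (11, 74, 51), (12, 31, 16), (12, 63, 38), (12, 74, 58), (13, 64, 45), (13, 74, 60), (14, 24, 23), (14, 26, 25), (14, 51, 50), (14, 74, 73), (15, 77, 69), (16, 77, 71), (18, 52, 34), (18, 53, 35), (18, 57, 43), (18, 58, 44), (18, 59, 46), (18, 60, 47), (18, 67, 62), (18, 73, 65), (18, 74, 66), (18, 77, 72), (19, 31, 27), (19, 59, 54), (19, 60, 55), (19,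 73, 68), (20, 43, 4), (20, 48, 2), (20, 73, 70), (21, 77, 75), (22, 45, 3), (23, 52, 1), (23, 77, 76), (27, 39, 41), (27, 60, 61), (33, 21, 0), (33, 41, 5)]

theorem chkCommE6_5 : chkCommT chevE6 chevF4 5 qF4s funcE6 [77, 74] keysE6_5 colsE6_5 = true := by
  decide +kernel

end CfsgLib.Known.Overgroup.Twisted
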