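import Cfsg.Agent.Lib.Known.Overgroup.Twisted.Basic
import Cfsg.Agent.Lib.Known.Overgroup.Scalar

/-!
# Overgroups of fixed points: their positive unipotent elements are fixed
-/

set_option autoImplicit false

namespace CfsgLib.Known.Overgroup.Twisted

open Cfsg.Lie (ChevalleyDatum)
open CfsgLib.Lie.Chev
open CfsgLib.Known.ChevFold
open scoped Matrix

/-- coefficient at `u` of the commutator of `x_b(1)` with `x_s(1)` -/
def lead (D : ChevalleyDatum) (b s u : ℕ) : ℤ :=
  bif Nat.beq s b then 0 else - tot ((D.commTerms s b).map fun c => (c.1, c.2.1)) u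

/-- the roots of height `m` -/
def levelRoots (D : ChevalleyDatum) (X : Aux) (m : ℤ) : List ℕ :=
  (List.range D.nroots).filter fun r => decide (ht D X r = m)

/-- the rows of height `m` -/
def levelRows (D Hd : ChevalleyDatum) (X : Aux) (Q : List (List (ℕ × ℤ))) (m : ℤ) : List ℕ :=
  (List.range Hd.nroots).filter fun a => (rowAt Q a).all fun q => decide (ht D X q.1 = m)

/-- an equation between the coefficients of height `m`: from a commutator, or the sum over a row -/
def eqL (D : ChevalleyDatum) (X : Aux) (Q : List (List (ℕ × ℤ))) (m : ℤ) (a u : ℕ) : List (ℕ × ℤ) :=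
  bif Nat.blt u D.nroots then
    (rowAt Q a).flatMap fun q => (levelRoots D X m).map fun s => (s, lead D q.1 s u)
  else rowAt Q a

/-- the equations are admissible -/
def chkEq (D Hd : ChevalleyDatum) (X : Aux) (Q : List (List (ℕ × ℤ))) (m : ℤ) (a u : ℕ) : Bool :=
  Nat.blt a Hd.nroots &&
    bif Nat.blt u D.nroots then
      decide (ht D X u = m + 1) && (rowAt Q a).all fun q => decide (ht D X q.1 = 1) && decide (q.2 = 1)
    else (rowAt Q a).all fun q => decide (ht D X q.1 = m)

/-- the coefficients outside the exceptional row are forced -/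
def chkLevelGo (D Hd : ChevalleyDatum) (X : Aux) (mo : ℕ) (Q : List (List (ℕ × ℤ))) (ex : ℕ) (m : ℤ) :
    List (ℕ × List (ℕ × ℕ × ℤ)) → ℕ → Bool
  | [], M => (levelRoots D X m).all fun r => M.testBit r || (rowAt Q ex).any fun q => Nat.beq q.1 r
  | (c, L) :: rest, M =>
    (L.all fun e => chkEq D Hd X Q m e.1 e.2.1) &&
      chkComb mo M.testBit (L.flatMap fun e => (eqL D X Q m e.1 e.2.1).map fun q => (q.1, e.2.2 * q.2)) c &&
      chkLevelGo D Hd X mo Q ex m rest (M ||| 2 ^ c)

/-- one height -/
def chkLevel (D Hd : ChevalleyDatum) (X : Aux) (mo : ℕ) (Q : List (List (ℕ × ℤ))) (ex : ℕ) (m : ℤ)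
    (L : List (ℕ × List (ℕ × ℕ × ℤ))) : Bool :=
  chkLevelGo D Hd X mo Q ex m L 0 &&
    decide ((levelRows D Hd X Q m).flatMap fun a => (rowAt Q a).map Prod.fst).Nodup

/-- all heights, and nothing moves above the exceptional row -/
def chkDescT (D Hd : ChevalleyDatum) (X : Aux) (mo : ℕ) (T : List (ℕ × ℤ × ℕ)) (Q : List (List (ℕ × ℤ))) (ex : ℕ)
    (Ls : List (List (ℕ × List (ℕ × ℕ × ℤ)))) : Bool :=
  Nat.blt ex Hd.nroots &&
  ((List.range D.nroots).all fun r => decide (ht D X r ≤ (Ls.length : ℤ))) &&
  ((List.range D.nroots).all fun r => decide (ht D X r ≤ ht D X ((rowAt Q ex).headD (0, 0)).1) ||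
    (Nat.beq (twAt D T r).1 r && decide ((twAt D T r).2.1 = 1))) &&
  (List.range Ls.length).all fun i => chkLevel D Hd X mo Q ex ((i : ℤ) + 1) (Ls.getD i [])

/-- the parameters along a row -/
def twList {k : Type*} [Field k] (σ : k →+* k) : List (ℕ × ℤ) → k → List (ℕ × k)
  | [], _ => []
  | q :: L, v => (q.1, (q.2 : k) * v) :: twList σ L (σ v)

section

variable {D : ChevalleyDatum} {X : Aux} (C : Cert D X) {k : Type*} [Field k]

theorem twList_fst (σ : k →+* k) : ∀ (L : List (ℕ × ℤ)) (v : k), (twList σ L v).map Prod.fst = L.map Prod.fst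
  | [], _ => rfl
  | q :: L, v => by simp [twList, twList_fst σ L]

theorem twList_get (σ : k →+* k) : ∀ (L : List (ℕ × ℤ)) (v : k) (i : ℕ) (h : i < L.length),
    (L[i].1, (L[i].2 : k) * (⇑σ)^[i] v) ∈ twList σ L v
  | [], _, i, h => absurd h (by simp)
  | q :: L, v, 0, _ => by simp [twList]
  | q :: L, v, i + 1, h => by
    simp only [List.getElem_cons_succ, Function.iterate_succ_apply, twList]
    exact List.mem_cons_of_mem _ (twList_get σ L (σ v) i (by simpa using h))

theorem twList_append (σ : k →+* k) : ∀ (L : List (ℕ × ℤ)) (q : ℕ × ℤ) (v : k),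
    twList σ (L ++ [q]) v = twList σ L v ++ [(q.1, (q.2 : k) * (⇑σ)^[L.length] v)]
  | [], q, v => by simp [twList]
  | x :: L, q, v => by simp [twList, twList_append σ L q, Function.iterate_succ_apply]

theorem twList_rotate (σ : k →+* k) (L : List (ℕ × ℤ)) (v : k) (hv : (⇑σ)^[L.length] v = v) :
    (twList σ (L.rotate 1) (σ v)).Perm (twList σ L v) := by
  cases L with
  | nil => simp [twList]
  | cons q L =>
    rw [List.rotate_cons_succ, List.rotate_zero, twList_append, ← Function.iterate_succ_apply,
      show L.length.succ = (q :: L).length from rfl, hv]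
    exact List.perm_append_singleton _ _

/-- a sum with one non-zero term -/
theorem sum_ite_of_mem : ∀ (l : List (ℕ × k)), (l.map Prod.fst).Nodup → ∀ q ∈ l,
    (l.map fun x => if x.1 = q.1 then x.2 else 0).sum = q.2
  | [], _, q, hq => absurd hq List.not_mem_nil
  | x :: l, hn, q, hq => by
    rw [List.map_cons, List.nodup_cons] at hn
    rcases List.mem_cons.1 hq with rfl | hq
    · rw [List.map_cons, List.sum_cons, if_pos rfl, list_sum_eq_zero fun y hy =>
        if_neg fun e => hn.1 (List.mem_map.2 ⟨y, hy, e⟩), add_zero]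
    · rw [List.map_cons, List.sum_cons, if_neg fun e => hn.1 (List.mem_map.2 ⟨q, hq, e.symm⟩),
        sum_ite_of_mem l hn.2 q hq, zero_add]

theorem sum_ite_of_not_mem (l : List (ℕ × k)) {r : ℕ} (h : r ∉ l.map Prod.fst) :
    (l.map fun x => if x.1 = r then x.2 else 0).sum = 0 :=
  list_sum_eq_zero fun x hx => if_neg fun e => h (List.mem_map.2 ⟨x, hx, e⟩)

theorem hasCoef_sg (σ : k →+* k) {z : ↥(D.group k)} {r : Fin D.nroots} {t : k} (h : HasCoef C z r t) :
    HasCoef C (sg D σ z) r (σ t) := fun a => by
  rw [sg_val, Matrix.map_apply, h a, map_mul, map_intCast]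

theorem sg_mem_RS (σ : k →+* k) {m : ℤ} {z : ↥(D.group k)} (hz : z ∈ (rawG C).RS (hS D X m)) :
    sg D σ z ∈ (rawG C).RS (hS D X m) := by
  refine (show (rawG (F := k) C).RS (hS D X m) ≤ ((rawG C).RS (hS D X m)).comap (sg D σ) from
    (rawG C).RS_le fun s hs u => ?_) hz
  show sg D σ ((chevRel C k).xe s u) ∈ (rawG C).RS (hS D X m)
  rw [sg_xe C]
  exact (rawG C).xe_mem_RS hs _

include C

/-- leading coefficient of a commutator with a simple root element -/
theorem coef_Phi {m : ℤ} (hm : 1 ≤ m) {b u : Fin D.nroots} (hb : ht D X b = 1) (hu : ht D X u = m + 1)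
    {z : ↥(D.group k)} (hz : z ∈ (rawG C).RS (hS D X m)) {t : ℕ → k}
    (ht' : ∀ s : Fin D.nroots, ht D X s = m → HasCoef C z s (t s)) :
    HasCoef C (Phi C (b : ℕ) z) u
      (∑ s ∈ Finset.univ.filter (fun s : Fin D.nroots => ht D X s = m), (lead D b s u : k) * t s) := by
  classical
  have hbp := pos_of_ht C (r := b) hb.ge
  have hgb : xG C k (b : ℕ) 1 ∈ (chevRel C k).UP := (chevRel C k).xe_mem_US (S := posSet D) hbp 1
  have hm' : 1 ≤ m + 1 := by omega
  have gen : ∀ s : Fin D.nroots, m ≤ ht D X s → ∀ v : k,
      HasCoef C (Phi C (b : ℕ) (xG C k (s : ℕ) v)) u (if ht D X s = m then (lead D b s u : k) * v else 0) := by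
    intro s hs v
    by_cases hsb : b = s
    · subst hsb
      have : Phi C (b : ℕ) (xG C k (b : ℕ) v) = 1 := by
        show (chevRel C k).xe b 1 * (chevRel C k).xe b v * ((chevRel C k).xe b 1)⁻¹ * ((chevRel C k).xe b v)⁻¹ = 1
        rw [(chevRel C k).xe_add', add_comm (1 : k) v, ← (chevRel C k).xe_add', mul_inv_cancel_right, mul_inv_cancel]
      rw [this, lead, nat_beq_iff.2 rfl, cond_true, Int.cast_zero, zero_mul, ite_self]
      exact hasCoef_one C u
    have hsp := pos_of_ht C (r := s) (le_trans hm hs)
    have hneg : (b : ℕ) ≠ D.neg s := fun h => by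
      have := (C.neg_lt_half_iff s.2).2 hsp
      omega
    have hW := (chevRel C k).xe_comm s b (-v) (-1) s.2 b.2 (fun h => hsb (Fin.ext h)) hneg
    have hPhi : Phi C (b : ℕ) (xG C k (s : ℕ) v) =
        wordG C ((D.commTerms s b).map fun c => (c.1, (c.2.1 : k) * (- -v) ^ c.2.2.1 * (-1) ^ c.2.2.2)) := by
      show (chevRel C k).xe b 1 * (chevRel C k).xe s v * ((chevRel C k).xe b 1)⁻¹ * ((chevRel C k).xe s v)⁻¹ =
        ((D.commWord k s b (-v) (-1)).map fun q => (chevRel C k).xe q.1 q.2).prod
      have h1 : (chevRel C k).xe s (-v) = ((chevRel C k).xe s v)⁻¹ := (chevRel C k).xe_neg _ _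
      have h2 : (chevRel C k).xe b (-1 : k) = ((chevRel C k).xe b 1)⁻¹ := (chevRel C k).xe_neg _ _
      rw [h1, h2] at hW
      have h3 := congrArg (fun x => (chevRel C k).xe b 1 * (chevRel C k).xe s v * x) hW
      simp only [mul_assoc, mul_inv_cancel_left] at h3 ⊢
      exact h3
    have hterm : ∀ c ∈ D.commTerms s b, c.1 < D.nroots ∧ m + 1 ≤ ht D X c.1 ∧
        (c.1 = (u : ℕ) → ht D X s = m ∧ c.2.2.1 = 1 ∧ c.2.2.2 = 1) := by
      intro c hc
      obtain ⟨hlt, hc1, hc2, -, -⟩ := C.commTerms_props s.2 b.2 c hc
      have hh := (rawG (F := k) C).hgt_comm (fun _ => 1) hc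
      change ht D X c.1 = (c.2.2.1 : ℤ) * ht D X s + (c.2.2.2 : ℤ) * ht D X b at hh
      have e1 : (1 : ℤ) ≤ c.2.2.1 := by exact_mod_cast hc1
      have e2 : (1 : ℤ) ≤ c.2.2.2 := by exact_mod_cast hc2
      rw [hb, mul_one] at hh
      refine ⟨hlt, by rw [hh]; nlinarith, fun e => ?_⟩
      rw [e, hu] at hh
      refine ⟨by nlinarith, ?_, ?_⟩
      · by_contra hne
        nlinarith [show (2 : ℤ) ≤ c.2.2.1 by exact_mod_cast (show 2 ≤ c.2.2.1 by omega)]
      · by_contra hne
        nlinarith [show (2 : ℤ) ≤ c.2.2.2 by exact_mod_cast (show 2 ≤ c.2.2.2 by omega)]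
    rw [hPhi]
    have h := (hasCoef_wordG C hm'
      ((D.commTerms s b).map fun c => (c.1, (c.2.1 : k) * (- -v) ^ c.2.2.1 * (-1) ^ c.2.2.2)) fun q hq => by
      obtain ⟨c, hc, rfl⟩ := List.mem_map.1 hq
      exact ⟨(hterm c hc).1, (hterm c hc).2.1⟩).2 u hu
    rw [List.map_map] at h
    have hval : ((D.commTerms s b).map ((fun q : ℕ × k => if q.1 = (u : ℕ) then q.2 else 0) ∘
        fun c => (c.1, (c.2.1 : k) * (- -v) ^ c.2.2.1 * (-1) ^ c.2.2.2))).sum =
        if ht D X s = m then (lead D b s u : k) * v else 0 := by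
      have key : ∀ l : List (ℕ × ℤ × ℕ × ℕ), (∀ c ∈ l, c ∈ D.commTerms s b) →
          (l.map ((fun q : ℕ × k => if q.1 = (u : ℕ) then q.2 else 0) ∘
            fun c => (c.1, (c.2.1 : k) * (- -v) ^ c.2.2.1 * (-1) ^ c.2.2.2))).sum =
          if ht D X s = m then -((tot (l.map fun c => (c.1, c.2.1)) u : ℤ) : k) * v else 0 := by
        intro l
        induction l with
        | nil => intro _; simp [tot]
        | cons c l ih =>
          intro hsub
          simp only [List.map_cons, List.sum_cons, ih (fun x hx => hsub x (List.mem_cons_of_mem _ hx)),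
            tot_cons, Function.comp_apply]
          by_cases hcu : c.1 = (u : ℕ)
          · obtain ⟨h1, h2, h3⟩ := (hterm c (hsub c List.mem_cons_self)).2.2 hcu
            rw [if_pos hcu, if_pos h1, if_pos h1, if_pos hcu, h2, h3, pow_one, pow_one]
            push_cast; ring
          · rw [if_neg hcu, zero_add, if_neg hcu, zero_add]
      rw [key _ (fun c hc => hc), lead,
        show Nat.beq s b = false from Bool.eq_false_iff.2 fun e => hsb (Fin.ext (nat_beq_iff.1 e).symm), cond_false]
      push_cast
      rfl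
    rwa [hval] at h
  have hlev : ∀ y ∈ (rawG (F := k) C).RS (hS D X m), Phi C (b : ℕ) y ∈ (rawG C).RS (hS D X (m + 1)) :=
    fun y hy => comm_mem C hm hy hgb
  suffices key : z ∈ (rawG C).RS (hS D X m) ∧ ∀ t : ℕ → k,
      (∀ s : Fin D.nroots, ht D X s = m → HasCoef C z s (t s)) →
      HasCoef C (Phi C (b : ℕ) z) u
        (∑ s ∈ Finset.univ.filter (fun s : Fin D.nroots => ht D X s = m), (lead D b s u : k) * t s) from
    key.2 t ht'
  refine closure_induction_symm (p := fun y : ↥(D.group k) => y ∈ (rawG (F := k) C).RS (hS D X m) ∧ ∀ t : ℕ → k,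
      (∀ s : Fin D.nroots, ht D X s = m → HasCoef C y s (t s)) →
      HasCoef C (Phi C (b : ℕ) y) u
        (∑ s ∈ Finset.univ.filter (fun s : Fin D.nroots => ht D X s = m), (lead D b s u : k) * t s))
    (rawG C).gens_symm ⟨one_mem _, fun t h1 => ?_⟩ ?_ hz
  · rw [show Phi C (b : ℕ) (1 : ↥(D.group k)) = 1 by simp [Phi], Finset.sum_eq_zero fun s hs => by
      rw [hasCoef_unique C (h1 s (Finset.mem_filter.1 hs).2) (hasCoef_one C s), mul_zero]]
    exact hasCoef_one C u
  · rintro _ ⟨s0, hs0, v, rfl⟩ y ⟨hy, hPy⟩
    have hxs := (rawG (F := k) C).xe_mem_RS hs0 v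
    refine ⟨mul_mem hxs hy, fun t h1 => ?_⟩
    have ht2 : ∀ s : Fin D.nroots, ht D X s = m → HasCoef C y s (t s - if s0 = s then v else 0) := fun s hs => by
      obtain ⟨t2, h2⟩ := exists_hasCoef C hm hy hs
      have := hasCoef_unique C (h1 s hs) (hasCoef_mul C hm hxs hy hs (hasCoef_xe C s0 s v) h2)
      rw [this, add_sub_cancel_left]
      exact h2
    have h2 := hPy (fun n => t n - if (s0 : ℕ) = n then v else 0) fun s hs => by
      simpa only [Fin.ext_iff] using ht2 s hs
    have eqn : Phi C (b : ℕ) ((rawG C).xe s0 v * y) =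
        Phi C (b : ℕ) (xG C k s0 v) * (((rawG C).xe s0 v * Phi C (b : ℕ) y * ((rawG C).xe s0 v)⁻¹ *
          (Phi C (b : ℕ) y)⁻¹) * Phi C (b : ℕ) y) := by
      simp only [Phi]
      show _ = xG C k (b : ℕ) 1 * (rawG C).xe s0 v * (xG C k (b : ℕ) 1)⁻¹ * ((rawG C).xe s0 v)⁻¹ * _
      group
    have hc := comm_mem C hm' (hlev y hy) (RS_le_UP C hm hxs)
    have hle : (rawG (F := k) C).RS (hS D X (m + 1 + 1)) ≤ (rawG C).RS (hS D X (m + 1)) :=
      (rawG C).RS_mono fun x (hx : _ ≤ ht D X x) => show _ ≤ ht D X x by omega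
    have h0 : HasCoef C _ u (0 : k) := hasCoef_zero_succ C hm' (S := hS D X (m + 1 + 1))
      (fun x (hx : _ ≤ ht D X x) => show _ ≤ ht D X x by omega) hc hu
      (fun (h : m + 1 + 1 ≤ ht D X u) => by omega)
    have h3 := hasCoef_mul C hm' (hle hc) (hlev y hy) hu h0 h2
    rw [zero_add] at h3
    rw [eqn]
    have h4 := hasCoef_mul C hm' (hlev _ hxs) (mul_mem (hle hc) (hlev y hy)) hu (gen s0 hs0 v) h3
    have hsum : (∑ x ∈ Finset.univ.filter (fun x : Fin D.nroots => ht D X x = m), (lead D b x u : k) * t x) =
        (if ht D X s0 = m then (lead D b s0 u : k) * v else 0) +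
          ∑ x ∈ Finset.univ.filter (fun x : Fin D.nroots => ht D X x = m),
            (lead D b x u : k) * (t x - if (s0 : ℕ) = x then v else 0) := by
      rw [← sub_eq_iff_eq_add, ← Finset.sum_sub_distrib]
      simp only [← Fin.ext_iff, mul_sub, sub_sub_cancel, mul_ite, mul_zero, Finset.sum_ite_eq, Finset.mem_filter,
        Finset.mem_univ, true_and]
    rw [hsum]
    exact h4

/-- the same for a product of simple root elements -/
theorem coef_word_comm {m : ℤ} (hm : 1 ≤ m) {u : Fin D.nroots} (hu : ht D X u = m + 1)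
    {z : ↥(D.group k)} (hz : z ∈ (rawG C).RS (hS D X m)) {t : ℕ → k}
    (ht' : ∀ s : Fin D.nroots, ht D X s = m → HasCoef C z s (t s)) :
    ∀ l : List ℕ, (∀ b ∈ l, b < D.nroots ∧ ht D X b = 1) →
      (wordG C (l.map fun b => (b, (1 : k)))) * z * (wordG C (l.map fun b => (b, (1 : k))))⁻¹ * z⁻¹ ∈
          (rawG C).RS (hS D X (m + 1)) ∧
        HasCoef C (wordG C (l.map fun b => (b, (1 : k))) * z * (wordG C (l.map fun b => (b, (1 : k))))⁻¹ * z⁻¹) u
          (l.map fun b => ∑ s ∈ Finset.univ.filter (fun s : Fin D.nroots => ht D X s = m),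
            (lead D b s u : k) * t s).sum
  | [], _ => by simpa [wordG] using hasCoef_one C u
  | b :: l, hl => by
    obtain ⟨h1, h2⟩ := coef_word_comm hm hu hz ht' l fun x hx => hl x (List.mem_cons_of_mem _ hx)
    obtain ⟨hb, hbh⟩ := hl b List.mem_cons_self
    have hbp := pos_of_ht C (r := (⟨b, hb⟩ : Fin D.nroots)) hbh.ge
    have hgb : xG C k b 1 ∈ (chevRel C k).UP :=
      (chevRel C k).xe_mem_US (S := posSet D) (r := ⟨b, hb⟩) hbp 1
    have hm' : 1 ≤ m + 1 := by omega
    have h3 := coef_Phi C hm (b := ⟨b, hb⟩) hbh hu hz ht'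
    have hle : (rawG (F := k) C).RS (hS D X (m + 1 + 1)) ≤ (rawG C).RS (hS D X (m + 1)) :=
      (rawG C).RS_mono fun x (hx : _ ≤ ht D X x) => show _ ≤ ht D X x by omega
    obtain ⟨W, hW⟩ : ∃ W, W = wordG C (l.map fun b => (b, (1 : k))) * z *
      (wordG C (l.map fun b => (b, (1 : k))))⁻¹ * z⁻¹ := ⟨_, rfl⟩
    rw [← hW] at h1 h2
    have hc := comm_mem C hm' h1 hgb
    have e : wordG C ((b :: l).map fun b => (b, (1 : k))) * z *
        (wordG C ((b :: l).map fun b => (b, (1 : k))))⁻¹ * z⁻¹ =
        (xG C k b 1 * W * (xG C k b 1)⁻¹ * W⁻¹ * W) * Phi C b z := by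
      rw [hW, List.map_cons, wordG_cons]; simp only [Phi]; group
    have h0 : HasCoef C _ u (0 : k) := hasCoef_zero_succ C hm' (S := hS D X (m + 1 + 1))
      (fun x (hx : _ ≤ ht D X x) => show _ ≤ ht D X x by omega) hc hu
      (fun (h : m + 1 + 1 ≤ ht D X u) => by omega)
    have hP : Phi C b z ∈ (rawG C).RS (hS D X (m + 1)) := comm_mem C hm hz hgb
    rw [e]
    refine ⟨mul_mem (mul_mem (hle hc) h1) hP, ?_⟩
    have h4 := hasCoef_mul C hm' (mul_mem (hle hc) h1) hP hu (hasCoef_mul C hm' (hle hc) h1 hu h0 h2) h3
    rw [List.map_cons, List.sum_cons, add_comm]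
    rwa [zero_add] at h4

end

namespace TwCtx

variable {D : ChevalleyDatum} {X : Aux} {C : Cert D X} {k : Type*} [Field k] (S : TwCtx C k)

/-- signed coefficients along a row are conjugate -/
theorem coef_row {m : ℤ} (hm : 1 ≤ m) {z : ↥(D.group k)} (hz : z ∈ (rawG C).RS (hS D X m)) (hfix : S.τ z = z)
    {t : ℕ → k} (ht' : ∀ s : Fin D.nroots, ht D X s = m → HasCoef C z s (t s)) {a : ℕ} (ha : a < S.Hd.nroots)
    (hrow : ∀ q ∈ S.row a, ht D X q.1 = m) :
    (∀ q ∈ S.row a, ((stepQ D S.T q).2 : k) * t (stepQ D S.T q).1 = S.σ ((q.2 : k) * t q.1)) ∧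
    ∀ i (h : i < (S.row a).length), (((S.row a)[i]).2 : k) * t ((S.row a)[i]).1 =
      (⇑S.σ)^[i] ((((S.row a).headD (0, 0)).2 : k) * t ((S.row a).headD (0, 0)).1) := by
  have hstep : ∀ q ∈ S.row a, ((stepQ D S.T q).2 : k) * t (stepQ D S.T q).1 = S.σ ((q.2 : k) * t q.1) := by
    intro q hq
    have hlt := ((S.row_spec ha).2.2.2 q hq).1
    obtain ⟨hlt', he, hh, -⟩ := S.tw_spec hlt
    have h1 := S.coef_τ hm hz hfix (r := ⟨q.1, hlt⟩) (hrow q hq) (ht' ⟨q.1, hlt⟩ (hrow q hq))
    have h2 := hasCoef_unique C h1 (ht' ⟨(twAt D S.T q.1).1, hlt'⟩ (hh.trans (hrow q hq)))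
    simp only [stepQ, Int.cast_mul, map_mul, map_intCast]
    rw [← h2]
    rcases he with e | e <;> simp [e]
  refine ⟨hstep, fun i => ?_⟩
  induction i with
  | zero =>
    intro h
    obtain ⟨q, L, e⟩ := List.exists_cons_of_ne_nil (S.row_spec ha).2.1
    simp [e]
  | succ i ih =>
    intro h
    have hi : i < (S.row a).length := by omega
    rw [Function.iterate_succ_apply', ← ih hi, ← hstep _ (List.getElem_mem hi)]
    have e : stepQ D S.T ((S.row a)[i]) = (S.row a)[i + 1] := by
      have h1 : ((S.row a).map (stepQ D S.T))[i]? = ((S.row a).rotate 1)[i]? := by rw [(S.row_spec ha).1]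
      rw [List.getElem?_map, List.getElem?_eq_getElem hi, List.getElem?_rotate hi,
        Nat.mod_eq_of_lt h, List.getElem?_eq_getElem h] at h1
      exact Option.some_injective _ h1
    rw [e]

/-- the positive unipotent elements of an overgroup of the fixed points are fixed -/
theorem inf_UP_le_rat {mo : ℕ} (hmo : ModeOK k mo) {ex : ℕ} {Ls : List (List (ℕ × List (ℕ × ℕ × ℤ)))}
    (hchk : chkDescT D S.Hd X mo S.T S.Q ex Ls = true) {H : Subgroup ↥(D.group k)} (hH : H ≤ S.P) (hM : S.M ≤ H)
    (hper : ∀ v : k, (⇑S.σ)^[(S.row ex).length] v = v)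
    (hexc : ∀ v : k, wordG C (twList S.σ (S.row ex) v) ∈ H → S.σ v = v) :
    H ⊓ (chevRel C k).UP ≤ rat D S.σ := by
  classical
  simp only [chkDescT, Bool.and_eq_true, List.all_eq_true, List.mem_range, decide_eq_true_eq, Bool.or_eq_true,
    nat_blt_iff, nat_beq_iff] at hchk
  obtain ⟨⟨⟨hex, hbound⟩, hhigh⟩, hlevels⟩ := hchk
  have key : ∀ (j : ℕ) (i : ℕ), j + i = Ls.length → ∀ z ∈ H, z ∈ (rawG C).RS (hS D X ((i : ℤ) + 1)) →
      z ∈ rat D S.σ := by
    intro j
    induction j with
    | zero =>
      intro i hi z _ hz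
      have : (rawG (F := k) C).RS (hS D X ((i : ℤ) + 1)) ≤ ⊥ := (rawG C).RS_le fun r (hr : _ ≤ ht D X r) t => by
        have := hbound r r.2
        omega
      rw [show z = 1 by simpa using this hz]
      exact one_mem _
    | succ j ih =>
      intro i hi z hzH hz
      obtain ⟨m, hmi⟩ : ∃ m : ℤ, m = (i : ℤ) + 1 := ⟨_, rfl⟩
      rw [← hmi] at hz
      have hm : 1 ≤ m := by omega
      have hfix : S.τ z = z := S.hP z (hH hzH)
      have hex' : ∀ r, ∃ v, ∀ s : Fin D.nroots, (s : ℕ) = r → ht D X s = m → HasCoef C z s v := fun r => by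
        by_cases h : ∃ s : Fin D.nroots, (s : ℕ) = r ∧ ht D X s = m
        · obtain ⟨s, rfl, hs⟩ := h
          obtain ⟨v, hv⟩ := exists_hasCoef C hm hz hs
          exact ⟨v, fun s' e _ => Fin.ext e ▸ hv⟩
        · exact ⟨0, fun s e hs => absurd ⟨s, e, hs⟩ h⟩
      choose t ht0 using hex'
      have ht' : ∀ s : Fin D.nroots, ht D X s = m → HasCoef C z s (t s) := fun s hs => ht0 s s rfl hs
      have hl := hlevels i (by omega)
      rw [← hmi] at hl
      simp only [chkLevel, Bool.and_eq_true, decide_eq_true_eq] at hl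
      obtain ⟨hgo, hnd⟩ := hl
      have hdel : ∀ a u, chkEq D S.Hd X S.Q m a u = true →
          ((eqL D X S.Q m a u).map fun q => (q.2 : k) • (S.σ (t q.1) - t q.1)).sum = 0 := by
        intro a u he
        simp only [chkEq, Bool.and_eq_true, nat_blt_iff] at he
        obtain ⟨ha, he⟩ := he
        by_cases hu : u < D.nroots
        · rw [nat_blt_iff.2 hu, cond_true] at he
          simp only [Bool.and_eq_true, List.all_eq_true, decide_eq_true_eq] at he
          obtain ⟨hu', hrow⟩ := he
          have hl1 : ∀ b ∈ (S.row a).map Prod.fst, b < D.nroots ∧ ht D X b = 1 := fun b hb => by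
            obtain ⟨q, hq, rfl⟩ := List.mem_map.1 hb
            exact ⟨((S.row_spec ha).2.2.2 q hq).1, (hrow q hq).1⟩
          obtain ⟨W, hW⟩ : ∃ W, W = wordG C (((S.row a).map Prod.fst).map fun b => (b, (1 : k))) := ⟨_, rfl⟩
          have eW : W = listG C (S.row a) 1 := by
            rw [hW, listG_eq_wordG, List.map_map]
            congr 1
            exact List.map_congr_left fun q hq => by simp [(hrow q hq).2]
          have hWM : W ∈ S.M := eW ▸ S.row_mem_M ha (map_one _)
          have hWH := hM hWM
          obtain ⟨hc1, hc2⟩ := coef_word_comm C hm (u := ⟨u, hu⟩) hu' hz ht' _ hl1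
          rw [← hW] at hc1 hc2
          have hrat : W * z * W⁻¹ * z⁻¹ ∈ rat D S.σ :=
            ih (i + 1) (by omega) _ (mul_mem (mul_mem (mul_mem hWH hzH) (inv_mem hWH)) (inv_mem hzH))
              (by push_cast; rw [← hmi]; exact hc1)
          have h2 := hasCoef_sg C S.σ hc2
          rw [show sg D S.σ (W * z * W⁻¹ * z⁻¹) = W * z * W⁻¹ * z⁻¹ from hrat] at h2
          have h3 := hasCoef_unique C h2 hc2
          rw [eqL, nat_blt_iff.2 hu, cond_true, List.map_flatMap]
          simp only [List.map_map, Function.comp_def, smul_eq_mul, mul_sub, List.flatMap] at h3 ⊢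
          rw [List.sum_flatten]
          simp only [List.map_map, Function.comp_def, map_list_sum, map_sum, map_mul, map_intCast] at h3 ⊢
          have conv1 : ∀ g : ℕ → k, ((levelRoots D X m).map g).sum =
              ∑ s ∈ Finset.univ.filter (fun s : Fin D.nroots => ht D X s = m), g s := fun g => by
            have hnd' : (levelRoots D X m).Nodup := List.nodup_range.filter _
            rw [← List.sum_toFinset _ hnd']
            refine Finset.sum_bij' (fun r hr => ⟨r, ?_⟩) (fun s _ => (s : ℕ)) ?_ ?_ ?_ ?_ ?_
            · simp only [levelRoots, List.mem_toFinset, List.mem_filter, List.mem_range] at hr; exact hr.1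
            · intro r hr
              simp only [levelRoots, List.mem_toFinset, List.mem_filter, List.mem_range, decide_eq_true_eq] at hr
              simp [hr.2]
            · intro s hs
              simp only [levelRoots, List.mem_toFinset, List.mem_filter, List.mem_range, decide_eq_true_eq]
              exact ⟨s.2, (Finset.mem_filter.1 hs).2⟩
            · intro r hr; rfl
            · intro s hs; rfl
            · intro r hr; rfl
          have h4 : ∀ (L : List (ℕ × ℤ)), (L.map fun x =>
              ((levelRoots D X m).map fun s => (lead D x.1 s u : k) * S.σ (t s) - (lead D x.1 s u : k) * t s).sum).sum =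
              (L.map fun x => ∑ s ∈ Finset.univ.filter (fun s : Fin D.nroots => ht D X s = m),
                (lead D x.1 s u : k) * S.σ (t s)).sum -
              (L.map fun x => ∑ s ∈ Finset.univ.filter (fun s : Fin D.nroots => ht D X s = m),
                (lead D x.1 s u : k) * t s).sum := by
            intro L
            induction L with
            | nil => simp
            | cons x L ihL =>
              simp only [List.map_cons, List.sum_cons]
              rw [ihL, conv1, Finset.sum_sub_distrib]
              ring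
          rw [show rowAt S.Q a = S.row a from rfl, h4]
          exact sub_eq_zero.2 h3
        · rw [show Nat.blt u D.nroots = false from Bool.eq_false_iff.2 fun h => hu (nat_blt_iff.1 h),
            cond_false] at he
          simp only [List.all_eq_true, decide_eq_true_eq] at he
          rw [eqL, show Nat.blt u D.nroots = false from Bool.eq_false_iff.2 fun h => hu (nat_blt_iff.1 h), cond_false]
          obtain ⟨hstep, -⟩ := S.coef_row hm hz hfix ht' ha he
          show ((S.row a).map fun q => (q.2 : k) • (S.σ (t q.1) - t q.1)).sum = 0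
          have e1 : ((S.row a).map fun q => S.σ ((q.2 : k) * t q.1)).sum =
              ((S.row a).map fun q => (q.2 : k) * t q.1).sum := by
            rw [List.map_congr_left (fun q hq => (hstep q hq).symm),
              show (fun q => ((stepQ D S.T q).2 : k) * t (stepQ D S.T q).1) =
                (fun q : ℕ × ℤ => (q.2 : k) * t q.1) ∘ stepQ D S.T from rfl,
              ← List.map_map, (S.row_spec ha).1]
            exact ((List.rotate_perm _ 1).map _).sum_eq
          have e2 : ∀ L : List (ℕ × ℤ), (L.map fun q => (q.2 : k) • (S.σ (t q.1) - t q.1)).sum =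
              (L.map fun q => S.σ ((q.2 : k) * t q.1)).sum - (L.map fun q => (q.2 : k) * t q.1).sum := by
            intro L
            induction L with
            | nil => simp
            | cons q L ihL =>
              rw [List.map_cons, List.sum_cons, ihL]
              simp only [List.map_cons, List.sum_cons, smul_eq_mul, map_mul, map_intCast]
              ring
          rw [e2, e1, sub_self]
      have hgo' : ∀ (L : List (ℕ × List (ℕ × ℕ × ℤ))) (M : ℕ), chkLevelGo D S.Hd X mo S.Q ex m L M = true →
          (∀ r, M.testBit r = true → S.σ (t r) = t r) →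
          ∀ r ∈ levelRoots D X m, S.σ (t r) = t r ∨ r ∈ (S.row ex).map Prod.fst := by
        intro L
        induction L with
        | nil =>
          intro M h hMk r hr
          simp only [chkLevelGo, List.all_eq_true, Bool.or_eq_true, List.any_eq_true, nat_beq_iff] at h
          rcases h r hr with h' | ⟨q, hq, e⟩
          · exact Or.inl (hMk r h')
          · exact Or.inr (List.mem_map.2 ⟨q, hq, e⟩)
        | cons cL L ihL =>
          obtain ⟨c, E⟩ := cL
          intro M h hMk
          simp only [chkLevelGo, Bool.and_eq_true, List.all_eq_true] at h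
          obtain ⟨⟨hE, hcomb⟩, hrest⟩ := h
          refine ihL _ hrest fun r hr => ?_
          rcases testBit_or_two_pow hr with h' | rfl
          · exact hMk r h'
          · refine sub_eq_zero.1 (chkComb_spec hmo hcomb (fun s => S.σ (t s) - t s)
              (fun s hs => sub_eq_zero.2 (hMk s hs)) ?_)
            simp only [List.flatMap, List.map_flatten, List.sum_flatten, List.map_map]
            refine list_sum_eq_zero fun e he => ?_
            simp only [Function.comp_apply, List.map_map]
            have h1 := hdel e.1 e.2.1 (hE e he)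
            simp only [Function.comp_def, Int.cast_mul, mul_smul] at h1 ⊢
            have h5 : ∀ L : List (ℕ × ℤ), (L.map fun q => (e.2.2 : k) • (q.2 : k) • (S.σ (t q.1) - t q.1)).sum =
                (e.2.2 : k) • (L.map fun q => (q.2 : k) • (S.σ (t q.1) - t q.1)).sum := by
              intro L
              induction L with
              | nil => simp
              | cons q L ihq => simp only [List.map_cons, List.sum_cons, ihq, smul_add]
            rw [h5, h1, smul_zero]
      have hfixed := hgo' _ 0 hgo (fun r hr => by simp at hr)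
      -- the fixed part
      let val : ℕ → k := fun a => (((S.row a).headD (0, 0)).2 : k) * t ((S.row a).headD (0, 0)).1
      have hlr : ∀ a ∈ levelRows D S.Hd X S.Q m, a < S.Hd.nroots ∧ ∀ q ∈ S.row a, ht D X q.1 = m := fun a ha => by
        simp only [levelRows, List.mem_filter, List.mem_range, List.all_eq_true, decide_eq_true_eq] at ha
        exact ha
      obtain ⟨Lr, hLr⟩ : ∃ Lr, Lr = (levelRows D S.Hd X S.Q m).filter fun a => !Nat.beq a ex := ⟨_, rfl⟩
      have hLr' : ∀ a ∈ Lr, a ∈ levelRows D S.Hd X S.Q m ∧ a ≠ ex := fun a ha => by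
        rw [hLr, List.mem_filter, Bool.not_eq_true', Bool.eq_false_iff, Ne, nat_beq_iff] at ha
        exact ha
      have hdisj : ∀ a ∈ levelRows D S.Hd X S.Q m, ∀ a' ∈ levelRows D S.Hd X S.Q m, a ≠ a' →
          ∀ r, r ∈ (S.row a).map Prod.fst → r ∉ (S.row a').map Prod.fst := by
        intro a ha a' ha' hne r hr hr'
        have hsym : Std.Symm (Function.onFun List.Disjoint fun a => (rowAt S.Q a).map Prod.fst) :=
          ⟨fun _ _ h => List.Disjoint.symm h⟩
        exact (List.nodup_flatMap.1 hnd).2.forall ha ha' hne hr hr'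
      have hval : ∀ a ∈ Lr, S.σ (val a) = val a ∧ ∀ q ∈ S.row a, (q.2 : k) * t q.1 = val a := by
        intro a ha
        obtain ⟨ha1, ha2⟩ := hLr' a ha
        obtain ⟨halt, hah⟩ := hlr a ha1
        have hσ : S.σ (val a) = val a := by
          have hmem : (S.row a).headD (0, 0) ∈ S.row a := by
            obtain ⟨q, L, e⟩ := List.exists_cons_of_ne_nil (S.row_spec halt).2.1
            simp [e]
          have h1 : ((S.row a).headD (0, 0)).1 ∈ levelRoots D X m := by
            simp only [levelRoots, List.mem_filter, List.mem_range, decide_eq_true_eq]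
            exact ⟨((S.row_spec halt).2.2.2 _ hmem).1, hah _ hmem⟩
          rcases hfixed _ h1 with h | h
          · simp only [val, map_mul, map_intCast, h]
          · by_cases hexm : ex ∈ levelRows D S.Hd X S.Q m
            · exact absurd h (hdisj a ha1 ex hexm ha2 _ (List.mem_map_of_mem hmem))
            · exfalso
              obtain ⟨q, hq, e⟩ := List.mem_map.1 h
              refine hexm ?_
              simp only [levelRows, List.mem_filter, List.mem_range, List.all_eq_true, decide_eq_true_eq]
              refine ⟨hex, fun x hx => ?_⟩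
              rw [((S.row_spec hex).2.2.2 x hx).2.2.2 q hq, e]
              exact hah _ hmem
        refine ⟨hσ, fun q hq => ?_⟩
        obtain ⟨j', hj, rfl⟩ := List.mem_iff_getElem.1 hq
        rw [(S.coef_row hm hz hfix ht' halt hah).2 j' hj]
        exact Function.iterate_fixed hσ j'
      obtain ⟨Fl, hFl⟩ : ∃ Fl, Fl = Lr.flatMap fun a => (S.row a).map fun q => (q.1, (q.2 : k) * val a) := ⟨_, rfl⟩
      have hfM : wordG C Fl ∈ S.M := by
        rw [hFl]
        have : ∀ L : List ℕ, (∀ a ∈ L, a ∈ Lr) →
            wordG C (L.flatMap fun a => (S.row a).map fun q => (q.1, (q.2 : k) * val a)) ∈ S.M := by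
          intro L
          induction L with
          | nil => intro _; simp [wordG, one_mem]
          | cons a L ihL =>
            intro hL
            have hfl : ∀ l l' : List (ℕ × k), wordG C (l ++ l') = wordG C l * wordG C l' := fun l l' => by
              simp [wordG]
            rw [List.flatMap_cons, hfl, ← listG_eq_wordG]
            have ha := hL a List.mem_cons_self
            exact mul_mem (S.row_mem_M (hlr a (hLr' a ha).1).1 (hval a ha).1)
              (ihL fun x hx => hL x (List.mem_cons_of_mem _ hx))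
        exact this Lr fun a ha => ha
      have hFlm : ∀ q ∈ Fl, q.1 < D.nroots ∧ m ≤ ht D X q.1 := fun q hq => by
        rw [hFl, List.mem_flatMap] at hq
        obtain ⟨a, ha, hq⟩ := hq
        obtain ⟨x, hx, rfl⟩ := List.mem_map.1 hq
        obtain ⟨halt, hah⟩ := hlr a (hLr' a ha).1
        exact ⟨((S.row_spec halt).2.2.2 x hx).1, (hah x hx).ge⟩
      obtain ⟨hfR, hfc⟩ := hasCoef_wordG C hm Fl hFlm
      have hFnd : (Fl.map Prod.fst).Nodup := by
        rw [hFl, List.map_flatMap]
        simp only [List.map_map, Function.comp_def]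
        refine List.Sublist.nodup ?_ hnd
        rw [hLr]
        simp only [List.flatMap]
        exact (List.filter_sublist.map _).flatten
      -- what is left
      obtain ⟨z', hz'⟩ : ∃ z', z' = (wordG C Fl)⁻¹ * z := ⟨_, rfl⟩
      have hz'H : z' ∈ H := hz' ▸ mul_mem (inv_mem (hM hfM)) hzH
      have hz'R : z' ∈ (rawG C).RS (hS D X m) := hz' ▸ mul_mem (inv_mem hfR) hz
      have hcoef : ∀ r : Fin D.nroots, ht D X r = m → HasCoef C z' r
          (if (r : ℕ) ∈ (S.row ex).map Prod.fst then t r else 0) := by
        intro r hr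
        obtain ⟨v, hv⟩ := exists_hasCoef C hm hz'R hr
        have h1 := hasCoef_mul C hm hfR hz'R hr (hfc r hr) hv
        rw [show wordG C Fl * z' = z by rw [hz', mul_inv_cancel_left]] at h1
        have h2 := hasCoef_unique C (ht' r hr) h1
        have : v = if (r : ℕ) ∈ (S.row ex).map Prod.fst then t r else 0 := by
          obtain ⟨-, -, -, a, ha, q, hq, hqr⟩ := S.tw_spec r.2
          have hal : a ∈ levelRows D S.Hd X S.Q m := by
            simp only [levelRows, List.mem_filter, List.mem_range, List.all_eq_true, decide_eq_true_eq]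
            refine ⟨ha, fun x hx => ?_⟩
            rw [((S.row_spec ha).2.2.2 x hx).2.2.2 q hq, hqr]
            exact hr
          by_cases hae : a = ex
          · subst hae
            rw [if_pos (List.mem_map.2 ⟨q, hq, hqr⟩)]
            rw [sum_ite_of_not_mem Fl, zero_add] at h2
            · exact h2.symm
            · intro hcon
              rw [hFl, List.map_flatMap, List.mem_flatMap] at hcon
              obtain ⟨a', ha', hmem'⟩ := hcon
              simp only [List.map_map, Function.comp_def] at hmem'
              exact hdisj a' (hLr' a' ha').1 a hal (hLr' a' ha').2 _ hmem' (List.mem_map.2 ⟨q, hq, hqr⟩)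
          · have hnot : (r : ℕ) ∉ (S.row ex).map Prod.fst := fun hcon => by
              obtain ⟨x, hx, hxr⟩ := List.mem_map.1 hcon
              have hexl : ex ∈ levelRows D S.Hd X S.Q m := by
                simp only [levelRows, List.mem_filter, List.mem_range, List.all_eq_true, decide_eq_true_eq]
                refine ⟨hex, fun y hy => ?_⟩
                rw [((S.row_spec hex).2.2.2 y hy).2.2.2 x hx, hxr]
                exact hr
              exact hdisj a hal ex hexl hae _ (List.mem_map.2 ⟨q, hq, hqr⟩) hcon
            have haL : a ∈ Lr := by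
              rw [hLr, List.mem_filter, Bool.not_eq_true', Bool.eq_false_iff, Ne, nat_beq_iff]
              exact ⟨hal, hae⟩
            rw [if_neg hnot]
            have hqF : (q.1, (q.2 : k) * val a) ∈ Fl := by
              rw [hFl, List.mem_flatMap]
              exact ⟨a, haL, List.mem_map.2 ⟨q, hq, rfl⟩⟩
            have h3 := sum_ite_of_mem Fl hFnd _ hqF
            simp only [hqr] at h3
            rw [h3, ← (hval a haL).2 q hq, hqr, ← mul_assoc] at h2
            have : ((q.2 : k) * (q.2 : k)) = 1 := by
              rcases ((S.row_spec ha).2.2.2 q hq).2.1 with e | e <;> simp [e]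
            rw [this, one_mul] at h2
            exact left_eq_add.1 h2
        rw [← this]
        exact hv
      have hz'rat : z' ∈ rat D S.σ := by
        by_cases hexm : ∀ q ∈ S.row ex, ht D X q.1 = m
        · obtain ⟨v, hvdef⟩ : ∃ v, v = (((S.row ex).headD (0, 0)).2 : k) * t ((S.row ex).headD (0, 0)).1 := ⟨_, rfl⟩
          obtain ⟨w, hw⟩ : ∃ w, w = wordG C (twList S.σ (S.row ex) v) := ⟨_, rfl⟩
          have hmemL : ∀ q ∈ twList S.σ (S.row ex) v, q.1 ∈ (S.row ex).map Prod.fst := fun q hq => by
            rw [← twList_fst S.σ (S.row ex) v]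
            exact List.mem_map_of_mem hq
          have hwl : ∀ q ∈ twList S.σ (S.row ex) v, q.1 < D.nroots ∧ m ≤ ht D X q.1 := fun q hq => by
            obtain ⟨x, hx, e⟩ := List.mem_map.1 (hmemL q hq)
            exact ⟨e ▸ ((S.row_spec hex).2.2.2 x hx).1, e ▸ (hexm x hx).ge⟩
          obtain ⟨hwR, hwc⟩ := hasCoef_wordG C hm _ hwl
          rw [← hw] at hwR hwc
          have hτw : S.τ w = w := by
            rw [hw, S.τ_wordG _ fun q hq => (hwl q hq).1]
            have e : ∀ (L : List (ℕ × ℤ)) (x : k), (twList S.σ L x).map (fun q : ℕ × k =>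
                ((twAt D S.T q.1).1, ((twAt D S.T q.1).2.1 : k) * S.σ q.2)) =
                twList S.σ (L.map (stepQ D S.T)) (S.σ x) := by
              intro L
              induction L with
              | nil => intro x; rfl
              | cons q L ihL =>
                intro x
                simp only [twList, List.map_cons, ihL, stepQ, map_mul, map_intCast, Int.cast_mul]
                congr 2
                ring
            rw [e, (S.row_spec hex).1]
            exact S.wordG_row_perm hex (twList_rotate S.σ _ v (hper v)) fun q hq => by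
              have := List.mem_map_of_mem (f := Prod.fst) hq
              rw [twList_fst] at this
              rw [List.mem_map] at this ⊢
              obtain ⟨x, hx, e⟩ := this
              exact ⟨x, List.mem_rotate.1 hx, e⟩
          have hwP : w ∈ S.P := S.hUP w (RS_le_UP C hm hwR) hτw
          obtain ⟨z2, hz2⟩ : ∃ z2, z2 = w⁻¹ * z' := ⟨_, rfl⟩
          have hz2R : z2 ∈ (rawG C).RS (hS D X (m + 1)) := by
            refine mem_succ_of_coef (C := C) hm (hz2 ▸ mul_mem (inv_mem hwR) hz'R) fun r hr => ?_
            obtain ⟨v2, hv2⟩ := exists_hasCoef C hm (hz2 ▸ mul_mem (inv_mem hwR) hz'R) hr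
            have h1 := hasCoef_mul C hm hwR (hz2 ▸ mul_mem (inv_mem hwR) hz'R) hr (hwc r hr) hv2
            rw [show w * z2 = z' by rw [hz2, mul_inv_cancel_left]] at h1
            have h2 := hasCoef_unique C (hcoef r hr) h1
            by_cases hrm : (r : ℕ) ∈ (S.row ex).map Prod.fst
            · rw [if_pos hrm] at h2
              obtain ⟨q, hq, hqr⟩ := List.mem_map.1 hrm
              obtain ⟨i', hi', rfl⟩ := List.mem_iff_getElem.1 hq
              have h3 := sum_ite_of_mem _ ((twList_fst S.σ (S.row ex) v).symm ▸ (S.row_spec hex).2.2.1) _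
                (twList_get S.σ (S.row ex) v i' hi')
              simp only [hqr] at h3
              rw [h3, hvdef, ← (S.coef_row hm hz hfix ht' hex hexm).2 i' hi', hqr, ← mul_assoc] at h2
              have : ((((S.row ex)[i']).2 : k) * (((S.row ex)[i']).2 : k)) = 1 := by
                rcases ((S.row_spec hex).2.2.2 _ hq).2.1 with e | e <;> simp [e]
              rw [this, one_mul] at h2
              rw [left_eq_add] at h2
              exact h2 ▸ hv2
            · rw [if_neg hrm, sum_ite_of_not_mem _ ((twList_fst S.σ (S.row ex) v).symm ▸ hrm), zero_add] at h2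
              exact h2 ▸ hv2
          have hτz2 : S.τ z2 = z2 := by
            rw [hz2, map_mul, map_inv, hτw, show S.τ z' = z' from S.hP z' (hH hz'H)]
          have hγid : ∀ y ∈ (rawG (F := k) C).RS (hS D X (m + 1)), S.γ y = y := by
            intro y hy
            refine (show (rawG (F := k) C).RS (hS D X (m + 1)) ≤ S.γ.eqLocus (MonoidHom.id _) from
              (rawG C).RS_le fun s (hs : _ ≤ ht D X s) u => ?_) hy
            show S.γ (xG C k s u) = xG C k s u
            have hmem : (S.row ex).headD (0, 0) ∈ S.row ex := by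
              obtain ⟨q, L, e⟩ := List.exists_cons_of_ne_nil (S.row_spec hex).2.1
              simp [e]
            obtain ⟨e1, e2⟩ := (hhigh s s.2).resolve_left fun h => by
              rw [show rowAt S.Q ex = S.row ex from rfl, hexm _ hmem] at h
              omega
            rw [S.hγ s u s.2, e1, e2, Int.cast_one, one_mul]
          have hσz2 : z2 ∈ rat D S.σ := by
            have h := hτz2
            change S.γ (sg D S.σ z2) = z2 at h
            rw [hγid _ (sg_mem_RS C S.σ hz2R)] at h
            exact h
          have hz2P : z2 ∈ S.P := hz2 ▸ mul_mem (inv_mem hwP) (hH hz'H)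
          have hwH : w ∈ H := by
            have := mul_mem hz'H (inv_mem (hM (Subgroup.mem_inf.2 ⟨hz2P, hσz2⟩)))
            rwa [hz2, mul_inv_rev, inv_inv, mul_inv_cancel_left] at this
          have hv : S.σ v = v := hexc v (hw ▸ hwH)
          have hwrat : w ∈ rat D S.σ := by
            have e : twList S.σ (S.row ex) v = (S.row ex).map fun q => (q.1, (q.2 : k) * v) := by
              generalize S.row ex = L
              induction L with
              | nil => rfl
              | cons q L ihL => simp [twList, hv, ihL]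
            rw [hw, e, ← listG_eq_wordG]
            exact S.row_mem_rat ex hv
          rw [show z' = w * z2 by rw [hz2, mul_inv_cancel_left]]
          exact mul_mem hwrat hσz2
        · have hz'S : z' ∈ (rawG C).RS (hS D X (m + 1)) := by
            refine mem_succ_of_coef (C := C) hm hz'R fun r hr => ?_
            have h := hcoef r hr
            rw [if_neg] at h
            · exact h
            · intro hcon
              obtain ⟨x, hx, hxr⟩ := List.mem_map.1 hcon
              refine hexm fun q hq => ?_
              rw [((S.row_spec hex).2.2.2 q hq).2.2.2 x hx, hxr]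
              exact hr
          exact ih (i + 1) (by omega) z' hz'H (by push_cast; rw [← hmi]; exact hz'S)
      rw [show z = wordG C Fl * z' by rw [hz', mul_inv_cancel_left]]
      exact mul_mem (Subgroup.mem_inf.1 hfM).2 hz'rat
  rintro z hz
  obtain ⟨hzH, hzU⟩ := Subgroup.mem_inf.1 hz
  exact key Ls.length 0 rfl z hzH (by
    have := RS_eq_UP (k := k) C ▸ hzU
    simpa using this)

end TwCtx

end CfsgLib.Known.Overgroup.Twisted
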