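import Cfsg.Agent.Lib.Known.Overgroup.Twisted.Main
import Cfsg.Agent.Lib.Known.Overgroup.Twisted.Span
import Cfsg.Agent.Lib.Known.Overgroup.Twisted.DataE6

/-!
# Overgroups of the subfield points in the twisted groups of type E6
-/

set_option autoImplicit false

namespace CfsgLib.Known.Overgroup.Twisted

open Cfsg.Lie
open CfsgLib.Lie.Chev
open CfsgLib.Lie.Chev.TwGroups
open CfsgLib.Known.ChevFold
open CfsgLib.Known

theorem regularE6 : chkRegular chevE6 chevF4 auxE6 qF4s = true := by decide +kernel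

theorem upperE6 : chkUpper chevE6 funcE6 = true := by decide +kernel

/-- the four orbits of nodes -/
def orbitsE6 : List (ℕ × ℕ × List ℕ) := [(33, 14, [5, 0]), (27, 20, [4, 2]), (25, 22, [3]), (24, 23, [1])]

/-- a word of orbits -/
def wordOrbE6 (l : List ℕ) : List (ℕ × ℕ × List ℕ) := l.map fun o => orbitsE6.getD o (0, 0, [])

theorem movesE6 :
    chkMove chevE6 chevF4 auxE6 qF4s (wordOrbE6 [1, 2, 3, 1]) 38 33 0 1 = true ∧
    chkMove chevE6 chevF4 auxE6 qF4s (wordOrbE6 [0, 1, 2, 3, 1]) 38 14 1 (-1) = true ∧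
    chkMove chevE6 chevF4 auxE6 qF4s (wordOrbE6 [2, 3, 0, 1]) 38 27 0 (-1) = true ∧
    chkMove chevE6 chevF4 auxE6 qF4s (wordOrbE6 [1, 2, 3, 0, 1]) 38 20 1 1 = true ∧
    chkMove chevE6 chevF4 auxE6 qF4s (wordOrbE6 [2, 1, 0]) 44 38 0 (-1) = true := by
  decide +kernel

theorem rowsAtE6 : rowAt qF4s 14 = [(15, 1), (35, 1)] ∧ rowAt qF4s 20 = [(29, 1), (34, 1)] ∧
    rowAt qF4s 22 = [(32, 1)] ∧ rowAt qF4s 23 = [(25, 1)] ∧ rowAt qF4s 24 = [(46, 1)] ∧
    rowAt qF4s 25 = [(39, 1)] ∧ rowAt qF4s 27 = [(37, 1), (42, 1)] ∧ rowAt qF4s 33 = [(36, 1), (56, 1)] ∧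
    rowAt qF4s 38 = [(52, -1), (62, 1)] ∧ rowAt qF4s 44 = [(66, 1), (68, 1)] := by
  decide +kernel

theorem nodeE6 : chevE6.simple 1 = 46 ∧ chevE6.neg 46 = 25 ∧ chevE6.cartan 1 52 = 1 ∧ chevE6.cartan 1 62 = 1 ∧
    ht chevE6 auxE6 36 = 1 ∧ ht chevE6 auxE6 56 = 1 ∧ 44 < chevF4.nroots ∧ 1 < chevE6.rank := by
  decide +kernel

variable {K : Type*} [Field K] [Fintype K] {q : ℕ} (hq : IsPrimePow q) (hK : Fintype.card K = q ^ 2)

/-- the twisted group of type E6 with its rows -/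
noncomputable def ctxE6 : TwCtx certE6 K where
  Hd := chevF4
  Q := qF4s
  T := twTE6
  σ := frE6 hq hK
  γ := twEnd certE6 (twField_one K) twOkE6 twPerE6 witE6 connE6
  P := (twE6 hq hK).P1
  hQ := rowsF4s
  hsh := shapeE6
  hγ r t hr := by
    rw [twEnd_gen]
    have hexp : ∀ r, r < chevE6.nroots → (twAt chevE6 twTE6 r).2.2 = 1 := by decide +kernel
    show xG certE6 K _ (((twAt chevE6 twTE6 r).2.1 : K) * t ^ (twAt chevE6 twTE6 r).2.2) = _
    rw [hexp r hr, pow_one]
  hP g hg := (twE6 hq hK).hfix g hg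
  hUP g hg h := (twE6 hq hK).mem_P1_of_fixed_UP hg h
  hUN g hg h := (twE6 hq hK).mem_P1_of_fixed_UN hg h

set_option maxHeartbeats 800000 in
/-- the subfield points form a maximal subgroup -/
theorem maximal_E6 (p : ℕ) [Fact p.Prime] [CharP K p] :
    (ctxE6 hq hK).M ≠ (ctxE6 hq hK).P ∧ ∀ H : Subgroup ↥(chevE6.group K), (ctxE6 hq hK).M ≤ H →
      H ≤ (ctxE6 hq hK).P → H = (ctxE6 hq hK).M ∨ H = (ctxE6 hq hK).P := by
  obtain ⟨S, hS⟩ : ∃ S : TwCtx certE6 K, S = ctxE6 hq hK := ⟨_, rfl⟩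
  obtain ⟨l14, l20, l22, l23, l24, l25, l27, l33, l38, l44⟩ := rowsAtE6
  obtain ⟨m33, m14, m27, m20, m44⟩ := movesE6
  obtain ⟨s1, g46, k52, k62, t36, t56, hG, hr1⟩ := nodeE6
  have r14 : S.row 14 = [(15, 1), (35, 1)] := hS ▸ l14
  have r20 : S.row 20 = [(29, 1), (34, 1)] := hS ▸ l20
  have r22 : S.row 22 = [(32, 1)] := hS ▸ l22
  have r23 : S.row 23 = [(25, 1)] := hS ▸ l23
  have r24 : S.row 24 = [(46, 1)] := hS ▸ l24
  have r25 : S.row 25 = [(39, 1)] := hS ▸ l25
  have r27 : S.row 27 = [(37, 1), (42, 1)] := hS ▸ l27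
  have r33 : S.row 33 = [(36, 1), (56, 1)] := hS ▸ l33
  have r38 : S.row 38 = [(52, -1), (62, 1)] := hS ▸ l38
  have r44 : S.row 44 = [(66, 1), (68, 1)] := hS ▸ l44
  have hlt : ∀ a, a ≤ 44 → a < S.Hd.nroots := fun a ha => by rw [hS]; exact lt_of_le_of_lt ha hG
  have hσq : ∀ v, S.σ v = v ^ q := fun v => by rw [hS]; exact frE6_apply hq hK v
  have hσ : ∀ v, S.σ (S.σ v) = v := fun v => by rw [hσq, hσq]; exact pow_qq hK v
  have hper' : ∀ {a : ℕ}, (S.row a).length = 2 → ∀ v : K, (⇑S.σ)^[(S.row a).length] v = v :=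
    fun e v => by rw [e]; exact hσ v
  have h33ht : ∀ x ∈ S.row 33, ht chevE6 auxE6 x.1 = 1 := by
    rw [r33]
    intro x hx
    simp only [List.mem_cons, List.not_mem_nil, or_false] at hx
    rcases hx with rfl | rfl
    exacts [t36, t56]
  have m33' : chkMove chevE6 S.Hd auxE6 S.Q (wordOrbE6 [1, 2, 3, 1]) 38 33 0 1 = true := by
    rw [hS]; exact m33
  have m14' : chkMove chevE6 S.Hd auxE6 S.Q (wordOrbE6 [0, 1, 2, 3, 1]) 38 14 1 (-1) = true := by
    rw [hS]; exact m14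
  have m27' : chkMove chevE6 S.Hd auxE6 S.Q (wordOrbE6 [2, 3, 0, 1]) 38 27 0 (-1) = true := by
    rw [hS]; exact m27
  have m20' : chkMove chevE6 S.Hd auxE6 S.Q (wordOrbE6 [1, 2, 3, 0, 1]) 38 20 1 1 = true := by
    rw [hS]; exact m20
  have m44' : chkMove chevE6 S.Hd auxE6 S.Q (wordOrbE6 [2, 1, 0]) 44 38 0 (-1) = true := by
    rw [hS]; exact m44
  rw [← hS]
  obtain ⟨v, hv⟩ : ∃ v : K, S.σ v ≠ v := by
    by_contra hcon
    push Not at hcon
    have h := card_fixed hq.one_lt two_pos hK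
    rw [Nat.card_congr (Equiv.subtypeUnivEquiv fun t => by rw [← hσq]; exact hcon t),
      Nat.card_eq_fintype_card, hK] at h
    exact absurd h (Nat.ne_of_gt (by nth_rw 1 [← pow_one q]; exact Nat.pow_lt_pow_right hq.one_lt (by norm_num)))
  have hsw : ∀ (a x y : ℕ) (t : K), a ≤ 44 → S.row a = [(x, 1), (y, 1)] →
      wordG certE6 [(y, t), (x, t ^ q)] = wordG certE6 (twList S.σ (S.row a) (t ^ q)) := fun a x y t ha hrow => by
    refine S.wordG_row_perm (hlt a ha) ?_ fun z hz => ?_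
    · simp only [hrow, twList, Int.cast_one, one_mul]
      rw [show S.σ (t ^ q) = t by rw [← hσq t, hσ t]]
      exact List.Perm.swap _ _ _
    · simp only [hrow, List.map_cons, List.map_nil, List.mem_cons, List.not_mem_nil, or_false] at hz ⊢
      rcases hz with rfl | rfl <;> simp
  have hmem : ∀ v, wordG certE6 (twList S.σ (S.row 33) v) ∈ S.P := fun v => by
    have h := hsw 33 36 56 (S.σ v) (by omega) r33
    rw [show (S.σ v) ^ q = v by rw [← hσq, hσ]] at h
    rw [← h, hS]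
    show _ ∈ (twistedE6 K q).subgroupOf (chevE6.group K)
    refine wordG_mem certE6 (Or.inr ⟨S.σ v, (56, 36), by simp [e6p1, e6p6], ?_⟩)
    rw [show (S.σ v) ^ q = v by rw [← hσq, hσ]]
    simp [hS]
  refine ⟨fun he => hv ?_, fun H hMH hHP => ?_⟩
  · refine S.param_fixed (hlt 33 (by omega)) h33ht ?_
    exact (Subgroup.mem_inf.1 (he.symm ▸ hmem v : wordG certE6 (twList S.σ (S.row 33) v) ∈ S.M)).2
  obtain ⟨A, hA⟩ : ∃ A : K → Prop, A = fun v => wordG certE6 (twList S.σ (S.row 38) v) ∈ H := ⟨_, rfl⟩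
  by_cases hall : ∀ v, A v
  · right
    refine le_antisymm hHP ?_
    rw [hA] at hall
    have a33 := S.move_all hMH (b := 38) (b' := 33) (j := 0) (ε := 1) m33' (hper' (by rw [r33]; rfl)) hall
    have a14 := S.move_all hMH (b := 38) (b' := 14) (j := 1) (ε := -1) m14' (hper' (by rw [r14]; rfl)) hall
    have a27 := S.move_all hMH (b := 38) (b' := 27) (j := 0) (ε := -1) m27' (hper' (by rw [r27]; rfl)) hall
    have a20 := S.move_all hMH (b := 38) (b' := 20) (j := 1) (ε := 1) m20' (hper' (by rw [r20]; rfl)) hall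
    have hPle : S.P ≤ H := by
      rw [hS]
      show (twistedE6 K q).subgroupOf (chevE6.group K) ≤ H
      rw [twistedE6, genSubgroup_subgroupOf certE6, Subgroup.closure_le]
      rintro _ ⟨w, hw, rfl⟩
      have hone : ∀ a r : ℕ, a ≤ 44 → S.row a = [(r, (1 : ℤ))] → ∀ t : K, t ^ q = t →
          wordG certE6 [(r, t)] ∈ H := fun a r ha hrow t ht' => by
        have h := hMH (S.row_mem_M (hlt a ha) (show S.σ t = t by rw [hσq, ht']))
        rw [hrow, listG_eq_wordG] at h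
        simpa using h
      rcases hw with ⟨t, ht', r, hr, rfl⟩ | ⟨t, rs, hrs, rfl⟩
      · simp only [List.mem_cons, List.not_mem_nil, or_false, e6p2, e6m2, e6p4, e6m4] at hr
        rcases hr with rfl | rfl | rfl | rfl
        · exact hone 24 46 (by omega) r24 t ht'
        · exact hone 23 25 (by omega) r23 t ht'
        · exact hone 25 39 (by omega) r25 t ht'
        · exact hone 22 32 (by omega) r22 t ht'
      · simp only [List.mem_cons, List.not_mem_nil, or_false, e6p1, e6p6, e6m1, e6m6, e6p3, e6p5, e6m3,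
          e6m5] at hrs
        rcases hrs with rfl | rfl | rfl | rfl
        · show wordG certE6 [(56, t), (36, t ^ q)] ∈ H
          rw [hsw 33 36 56 t (by omega) r33]; exact a33 _
        · have h := a14 t
          rw [r14] at h
          simp only [twList, Int.cast_one, one_mul, hσq] at h
          exact h
        · show wordG certE6 [(42, t), (37, t ^ q)] ∈ H
          rw [hsw 27 37 42 t (by omega) r27]; exact a27 _
        · have h := a20 t
          rw [r20] at h
          simp only [twList, Int.cast_one, one_mul, hσq] at h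
          exact h
    exact hPle
  left
  refine le_antisymm ?_ hMH
  have hAfix : ∀ a, S.σ a = a → A a := fun a ha => by
    rw [hA]; exact S.fixed_mem hMH (hlt 38 (by omega)) ha
  have hAadd : ∀ x y, A x → A y → A (x + y) := fun x y hx hy => by
    rw [hA] at hx hy ⊢
    show wordG certE6 (twList S.σ (S.row 38) (x + y)) ∈ H
    rw [← S.twList_add (hlt 38 (by omega))]
    exact mul_mem hx hy
  have hAsmul : ∀ a x, S.σ a = a → A x → A (a * x) := fun a x ha hx => by
    rw [hA] at hx ⊢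
    refine S.smul_mem hMH (i := 1) (a := 24) (an := 23) (e := 1) hr1 (hlt 24 (by omega)) (hlt 23 (by omega))
      (hlt 38 (by omega)) (by rw [r24, s1]) (by rw [r23, s1, g46]) (Or.inl rfl) (fun x hx => ?_) ha hx
    rw [r38] at hx
    simp only [List.mem_cons, List.not_mem_nil, or_false] at hx
    rcases hx with rfl | rfl
    exacts [k52, k62]
  have hexc : ∀ v : K, wordG certE6 (twList S.σ (S.row 44) v) ∈ H → S.σ v = v := fun v hv => by
    have h38 := S.move_mem hMH (b := 44) (b' := 38) (j := 0) (ε := -1) m44' (hper' (by rw [r38]; rfl)) hv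
    rw [Nat.sub_zero, hper' (by rw [r38]; rfl)] at h38
    by_contra hne
    refine hall (span_two S.σ hAfix hAadd hAsmul hσ (by rw [hA]; exact h38) ?_)
    simpa using hne
  have main : ∀ (m : ℕ) (Ls : List (List (ℕ × List (ℕ × ℕ × ℤ)))) (der : List (ℕ × ℕ × ℕ))
      (L : List (ℕ × List (List (ℕ × List (ℕ × ℕ × ℕ × ℤ))))) (gens : List ℕ) (KL : List (ℕ × ℕ × ℕ × ℕ))
      (CL : List (ℕ × ℕ × ℕ)), min p 5 = m →
      chkDescT chevE6 chevF4 auxE6 m twTE6 qF4s 44 Ls = true →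
      chkKillT chevE6 chevF4 m 60 qF4s funcE6 der L = true →
      chkCommT chevE6 chevF4 m qF4s funcE6 gens KL CL = true → H ≤ S.M := by
    intro m Ls der L gens KL CL e h1 h2 h3
    rw [← e] at h1 h2 h3
    refine S.le_M_of_data p (f := 60) (ex := 44) (Ls := Ls) (F := funcE6) (der := der) (L := L) (gens := gens)
      (KL := KL) (CL := CL) hHP hMH ?_ (hper' (by rw [r44]; rfl)) hexc ?_ upperE6 ?_ ?_
    · rw [hS]; exact h1
    · rw [hS]; exact regularE6
    · rw [hS]; exact h2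
    · rw [hS]; exact h3
  rcases mode_cases p with e | e | e
  · exact main _ _ _ _ _ _ _ e chkDescE6_2 chkKillE6_2 chkCommE6_2
  · exact main _ _ _ _ _ _ _ e chkDescE6_3 chkKillE6_3 chkCommE6_3
  · exact main _ _ _ _ _ _ _ e chkDescE6_5 chkKillE6_5 chkCommE6_5

end CfsgLib.Known.Overgroup.Twisted
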