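import Cfsg.Agent.Lib.Known.Overgroup.Twisted.Basic
import Cfsg.Agent.Lib.Known.Overgroup.Kill

/-!
# Matrices of products along rows

The matrix of a product of root elements along a row, as a polynomial in the parameter with integer
coefficients, and the linear equations for a matrix commuting with it.
-/

set_option autoImplicit false

namespace CfsgLib.Known.Overgroup.Twisted

open Cfsg.Lie (ChevalleyDatum)
open CfsgLib.Lie.Chev
open CfsgLib.Known.ChevFold
open scoped Matrix

/-- product of polynomial matrices given by `(degree, row, column, coefficient)` -/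
def pmul (L L' : List (ℕ × ℕ × ℕ × ℤ)) : List (ℕ × ℕ × ℕ × ℤ) :=
  L.flatMap fun e => (L'.filter fun f => Nat.beq f.2.1 e.2.2.1).map fun f =>
    (e.1 + f.1, e.2.1, f.2.2.1, e.2.2.2 * f.2.2.2)

/-- entries of `x_r(s t) - 1` for a signed root -/
def scaleE (D : ChevalleyDatum) (q : ℕ × ℤ) : List (ℕ × ℕ × ℕ × ℤ) :=
  (entries D q.1).map fun e => (e.1, e.2.1, e.2.2.1, e.2.2.2 * q.2 ^ e.1)

/-- entries of the product along a list of signed roots, minus one -/
def rowE (D : ChevalleyDatum) : List (ℕ × ℤ) → List (ℕ × ℕ × ℕ × ℤ)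
  | [] => []
  | q :: L => scaleE D q ++ rowE D L ++ pmul (scaleE D q) (rowE D L)

/-- the same at parameter one -/
def flat (L : List (ℕ × ℕ × ℕ × ℤ)) : List (ℕ × ℕ × ℤ) := L.map fun e => (e.2.1, e.2.2.1, e.2.2.2)

/-- all totals vanish -/
def chkZero (m : ℕ) (L : List (ℕ × ℤ)) : Bool := L.all fun q => zc m (tot L q.1)

theorem chkZero_spec {k V : Type*} [Field k] [AddCommGroup V] [Module k V] {m : ℕ} (hm : ModeOK k m)
    {L : List (ℕ × ℤ)} (h : chkZero m L = true) (g : ℕ → V) :
    (L.map fun q => (q.2 : k) • g q.1).sum = 0 := by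
  classical
  simp only [chkZero, List.all_eq_true] at h
  rw [sum_eq_sum_tot (k := k) g L (L.map Prod.fst).toFinset (fun q hq =>
    List.mem_toFinset.2 (List.mem_map_of_mem hq))]
  refine Finset.sum_eq_zero fun key hkey => ?_
  obtain ⟨q, hq, rfl⟩ := List.mem_map.1 (List.mem_toFinset.1 hkey)
  rw [hm.1 _ (h q hq), zero_smul]

variable {D : ChevalleyDatum} {k : Type*} [Field k]

theorem tm_flat (L : List (ℕ × ℕ × ℕ × ℤ)) : tm D k (flat L) = matOf D L 1 := by
  ext a b
  simp [tm, flat, matOf, List.map_map, Function.comp_def]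

theorem matOf_cons (e : ℕ × ℕ × ℕ × ℤ) (L : List (ℕ × ℕ × ℕ × ℤ)) (t : k) :
    matOf D (e :: L) t = matOf D [e] t + matOf D L t := matOf_append D [e] L t

theorem matOf_pmul {L : List (ℕ × ℕ × ℕ × ℤ)} (hL : ∀ e ∈ L, e.2.2.1 < D.rank + D.nroots)
    (L' : List (ℕ × ℕ × ℕ × ℤ)) (t : k) : matOf D (pmul L L') t = matOf D L t * matOf D L' t := by
  induction L with
  | nil => ext a b; simp [pmul, matOf, Matrix.mul_apply]
  | cons e L ih =>
    rw [show pmul (e :: L) L' = ((L'.filter fun f => Nat.beq f.2.1 e.2.2.1).map fun f =>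
        (e.1 + f.1, e.2.1, f.2.2.1, e.2.2.2 * f.2.2.2)) ++ pmul L L' from List.flatMap_cons,
      matOf_append, ih (fun x hx => hL x (List.mem_cons_of_mem _ hx)), matOf_cons e L, add_mul]
    congr 1
    obtain ⟨x0, hx0⟩ := exists_code D (hL e List.mem_cons_self)
    ext a b
    rw [Matrix.mul_apply, Finset.sum_eq_single x0]
    · by_cases ha : e.2.1 = code D a
      · simp only [matOf, Matrix.of_apply, List.map_map, List.map_cons, List.map_nil, List.sum_cons, List.sum_nil,
          add_zero, hx0, ha, and_self, if_true, Function.comp_def, true_and]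
        rw [list_sum_filter, ← List.sum_map_mul_left]
        congr 1
        refine List.map_congr_left fun f _ => ?_
        by_cases hf : f.2.1 = e.2.2.1
        · rw [nat_beq_iff.2 hf, cond_true]
          by_cases hb : f.2.2.1 = code D b
          · simp [hf, hb, Int.cast_mul, pow_add]; ring
          · simp [hf, hb]
        · rw [show Nat.beq f.2.1 e.2.2.1 = false from Bool.eq_false_iff.2 fun h => hf (nat_beq_iff.1 h), cond_false]
          simp [hf]
      · simp [matOf, List.map_map, Function.comp_def, ha]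
    · intro x _ hx
      have : ¬ e.2.2.1 = code D x := fun h => hx (code_injective D (hx0.trans h).symm)
      simp [matOf, this]
    · simp

theorem matOf_scaleE (q : ℕ × ℤ) (t : k) : matOf D (scaleE D q) t = matOf D (entries D q.1) ((q.2 : k) * t) := by
  ext a b
  simp only [matOf, scaleE, Matrix.of_apply, List.map_map]
  refine congrArg _ (List.map_congr_left fun e _ => ?_)
  simp only [Function.comp_apply]
  split_ifs
  · push_cast; ring
  · rfl

variable {X : Aux} (C : Cert D X)
include C

theorem scaleE_lt {q : ℕ × ℤ} (hq : q.1 < D.nroots) :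
    ∀ e ∈ scaleE D q, e.2.1 < D.rank + D.nroots ∧ e.2.2.1 < D.rank + D.nroots := by
  intro e he
  obtain ⟨x, hx, rfl⟩ := List.mem_map.1 he
  exact ⟨e1_row_lt C hq (x.2.1, x.2.2.1, x.2.2.2) (List.mem_map.2 ⟨x, hx, rfl⟩), C.entries_col_lt hq x hx⟩

theorem rowE_lt : ∀ L : List (ℕ × ℤ), (∀ q ∈ L, q.1 < D.nroots) →
    ∀ e ∈ rowE D L, e.2.1 < D.rank + D.nroots ∧ e.2.2.1 < D.rank + D.nroots
  | [], _, e, he => absurd he List.not_mem_nil
  | q :: L, hL, e, he => by
    have hq := hL q List.mem_cons_self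
    have ih := rowE_lt L fun x hx => hL x (List.mem_cons_of_mem _ hx)
    simp only [rowE, List.mem_append] at he
    rcases he with (he | he) | he
    · exact scaleE_lt C hq e he
    · exact ih e he
    · simp only [pmul, List.mem_flatMap, List.mem_map, List.mem_filter] at he
      obtain ⟨x, hx, f, ⟨hf, -⟩, rfl⟩ := he
      exact ⟨(scaleE_lt C hq x hx).1, (ih f hf).2⟩

/-- the matrix of the product along a row -/
theorem mat_listG : ∀ (L : List (ℕ × ℤ)) (t : k), (∀ q ∈ L, q.1 < D.nroots) →
    (chevRel C k).mat (listG C L t) = 1 + matOf D (rowE D L) t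
  | [], t, _ => by
    rw [show listG C ([] : List (ℕ × ℤ)) t = 1 from rfl, Rel.mat_one]
    ext a b; simp [rowE, matOf]
  | q :: L, t, hL => by
    have hq := hL q List.mem_cons_self
    rw [listG_cons, rowE, matOf_append, matOf_append, matOf_pmul fun e he => (scaleE_lt C hq e he).2,
      matOf_scaleE, Rel.mat_mul, mat_listG L t fun x hx => hL x (List.mem_cons_of_mem _ hx)]
    show (chevRel C k).mat ((chevRel C k).xe q.1 _) * _ = _
    rw [(chevRel C k).mat_xe, xMat_eq D hq (C.neg_ne hq) (C.key_ne hq)]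
    noncomm_ring

omit C in
/-- the equations of a commuting matrix -/
theorem eqTerms_zero {E : List (ℕ × ℕ × ℤ)}
    (hE : ∀ e ∈ E, e.1 < D.rank + D.nroots ∧ e.2.1 < D.rank + D.nroots) {Y : Matrix D.Idx D.Idx k}
    (hY : Commute (1 + tm D k E) Y) {a b : ℕ} (ha : a < dimN D) (hb : b < dimN D) :
    ((eqTerms D E a b).map fun q => (q.2 : k) • entryOf D Y q.1).sum = 0 := by
  obtain ⟨a0, rfl⟩ := exists_code D ha
  obtain ⟨b0, rfl⟩ := exists_code D hb
  have hcomm : tm D k E * Y - Y * tm D k E = 0 := by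
    have h := hY.eq
    rw [add_mul, mul_add, one_mul, mul_one] at h
    rw [add_left_cancel h, sub_self]
  have h0 := congrFun (congrFun hcomm a0) b0
  rw [Matrix.sub_apply, rowL_apply (fun e he => (hE e he).2), colL_apply _ (fun e he => (hE e he).1),
    Matrix.zero_apply] at h0
  rw [eqTerms, List.map_append, List.sum_append, ← h0, sub_eq_add_neg]
  congr 1
  rw [neg_eq_neg_one_mul, ← List.sum_map_mul_left, List.map_map, List.map_map]
  refine congrArg _ (List.map_congr_left fun q _ => ?_)
  simp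

theorem flat_rowE_lt {L : List (ℕ × ℤ)} (hL : ∀ q ∈ L, q.1 < D.nroots) :
    ∀ e ∈ flat (rowE D L), e.1 < D.rank + D.nroots ∧ e.2.1 < D.rank + D.nroots := by
  intro e he
  obtain ⟨x, hx, rfl⟩ := List.mem_map.1 he
  exact rowE_lt C L hL x hx

/-- commuting with a row element of parameter one -/
theorem row_eq_zero {L : List (ℕ × ℤ)} (hL : ∀ q ∈ L, q.1 < D.nroots) {Y : Matrix D.Idx D.Idx k}
    (hY : Commute ((chevRel C k).mat (listG C L 1)) Y) {a b : ℕ} (ha : a < dimN D) (hb : b < dimN D) :
    ((eqTerms D (flat (rowE D L)) a b).map fun q => (q.2 : k) • entryOf D Y q.1).sum = 0 := by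
  rw [mat_listG C L 1 hL, ← tm_flat] at hY
  exact eqTerms_zero (flat_rowE_lt C hL) hY ha hb

end CfsgLib.Known.Overgroup.Twisted
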