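import Cfsg.Agent.Lib.Known.Overgroup.Twisted.Rows
import Cfsg.Agent.Lib.Known.Overgroup.Twisted.Mat

/-!
# Entries of traces along row elements vanish
-/

set_option autoImplicit false

namespace CfsgLib.Known.Overgroup.Twisted

open Cfsg.Lie (ChevalleyDatum)
open CfsgLib.Lie.Chev
open CfsgLib.Known.ChevFold
open scoped Matrix

/-- exponents whose power sum vanishes -/
def goodT (m d : ℕ) : Bool := Nat.beq d 0 || goodExp m d

/-- row `A` of the polynomial matrix -/
def polyR (E : List (ℕ × ℕ × ℕ × ℤ)) (A : ℕ) : List (ℕ × ℕ × ℤ) :=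
  (0, A, 1) :: (E.filter fun e => Nat.beq e.2.1 A).map fun e => (e.1, e.2.2.1, e.2.2.2)

/-- column `B` of the polynomial matrix at the opposite parameter -/
def polyC (E : List (ℕ × ℕ × ℕ × ℤ)) (B : ℕ) : List (ℕ × ℕ × ℤ) :=
  (0, B, 1) :: (E.filter fun e => Nat.beq e.2.2.1 B).map fun e => (e.1, e.2.1, e.2.2.2 * (-1) ^ e.1)

/-- the terms `(degree, position, coefficient)` of an entry of a conjugate -/
def pairTerms (D : ChevalleyDatum) (E : List (ℕ × ℕ × ℕ × ℤ)) (A B : ℕ) : List (ℕ × ℕ × ℤ) :=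
  (polyR E A).flatMap fun r => (polyC E B).map fun c => (r.1 + c.1, r.2.1 * dimN D + c.2.1, r.2.2 * c.2.2)

/-- the terms of one degree are a combination of the known equations -/
def chkDeg (D Hd : ChevalleyDatum) (m : ℕ) (Q : List (List (ℕ × ℤ))) (M : ℕ) (T : List (ℕ × ℕ × ℤ)) (d : ℕ)
    (cert : List (ℕ × ℕ × ℕ × ℤ)) : Bool :=
  (cert.all fun e => M.testBit e.1 && Nat.blt e.1 Hd.nroots && Nat.blt e.2.1 (dimN D) &&
      Nat.blt e.2.2.1 (dimN D)) &&
    chkZero m (((T.filter fun t => Nat.beq t.1 d).map fun t => (t.2.1, t.2.2)) ++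
      cert.flatMap fun e => (eqTerms D (flat (rowE D (rowAt Q e.1))) e.2.1 e.2.2.1).map fun q =>
        (q.1, e.2.2.2 * q.2))

/-- one entry of the traces along a row vanishes -/
def chkEntry (D Hd : ChevalleyDatum) (m : ℕ) (Q : List (List (ℕ × ℤ))) (M : ℕ) (E : List (ℕ × ℕ × ℕ × ℤ))
    (A B : ℕ) (certs : List (ℕ × List (ℕ × ℕ × ℕ × ℤ))) : Bool :=
  (certs.all fun c => chkDeg D Hd m Q M (pairTerms D E A B) c.1 c.2) &&
    (pairTerms D E A B).all fun t => goodT m t.1 || certs.any fun c => Nat.beq c.1 t.1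

/-- all the entries in `F` -/
def chkKillRowT (D Hd : ChevalleyDatum) (m : ℕ) (Q : List (List (ℕ × ℤ))) (F : List (ℕ × ℕ)) (M a : ℕ)
    (cs : List (List (ℕ × List (ℕ × ℕ × ℕ × ℤ)))) : Bool :=
  Nat.blt a Hd.nroots && Nat.ble (half Hd) a &&
    (List.range F.length).all fun i =>
      Nat.blt (F.getD i (0, 0)).1 (dimN D) && Nat.blt (F.getD i (0, 0)).2 (dimN D) &&
        chkEntry D Hd m Q M (rowE D (rowAt Q a)) (F.getD i (0, 0)).1 (F.getD i (0, 0)).2 (cs.getD i [])

/-- the rows which are not derived, one after the other -/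
def chkKillGoT (D Hd : ChevalleyDatum) (m : ℕ) (Q : List (List (ℕ × ℤ))) (F : List (ℕ × ℕ)) :
    List (ℕ × List (List (ℕ × List (ℕ × ℕ × ℕ × ℤ)))) → ℕ → Bool
  | [], M => (List.range Hd.nroots).all fun r => Nat.blt r (half Hd) || M.testBit r
  | (a, cs) :: L, M => chkKillRowT D Hd m Q F M a cs && chkKillGoT D Hd m Q F L (M ||| 2 ^ a)

/-- the whole certificate -/
def chkKillT (D Hd : ChevalleyDatum) (m f : ℕ) (Q : List (List (ℕ × ℤ))) (F : List (ℕ × ℕ))
    (der : List (ℕ × ℕ × ℕ)) (L : List (ℕ × List (List (ℕ × List (ℕ × ℕ × ℕ × ℤ))))) : Bool :=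
  chkRelOn D Hd f Q der && chkDerRows Hd m der 0 && chkKillGoT D Hd m Q F L (derMask der 0)

section

variable {k : Type*} [Field k]

/-- a list summed degree by degree -/
theorem sum_fiber (g : ℕ × ℕ × ℤ → k) : ∀ (T : List (ℕ × ℕ × ℤ)) (S : Finset ℕ), (∀ t ∈ T, t.1 ∈ S) →
    (T.map g).sum = ∑ d ∈ S, ((T.filter fun t => Nat.beq t.1 d).map g).sum
  | [], S, _ => by simp
  | t :: T, S, h => by
    have e : ∀ d, (((t :: T).filter fun t => Nat.beq t.1 d).map g).sum =
        (if t.1 = d then g t else 0) + ((T.filter fun t => Nat.beq t.1 d).map g).sum := fun d => by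
      by_cases hd : t.1 = d
      · rw [List.filter_cons, if_pos (nat_beq_iff.2 hd), if_pos hd, List.map_cons, List.sum_cons]
      · rw [List.filter_cons, if_neg (by rw [nat_beq_iff]; exact hd), if_neg hd, zero_add]
    rw [Finset.sum_congr rfl fun d _ => e d, Finset.sum_add_distrib, Finset.sum_ite_eq,
      if_pos (h t List.mem_cons_self), List.map_cons, List.sum_cons,
      sum_fiber g T S fun x hx => h x (List.mem_cons_of_mem _ hx)]

variable {D : ChevalleyDatum}

/-- a row of the polynomial matrix applied -/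
theorem polyR_apply {E : List (ℕ × ℕ × ℕ × ℤ)} (hE : ∀ e ∈ E, e.2.2.1 < D.rank + D.nroots) (s : k)
    (Z : Matrix D.Idx D.Idx k) (a b : D.Idx) :
    ((1 + matOf D E s) * Z) a b = ((polyR E (code D a)).map fun r =>
      (r.2.2 : k) * s ^ r.1 * entryOf D Z (r.2.1 * dimN D + code D b)).sum := by
  rw [add_mul, Matrix.one_mul, Matrix.add_apply, polyR, List.map_cons, List.sum_cons, Int.cast_one, one_mul,
    pow_zero, one_mul, entryOf_key]
  congr 1
  induction E with
  | nil => simp [matOf, Matrix.mul_apply]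
  | cons e E ih =>
    rw [matOf_cons, add_mul, Matrix.add_apply, ih (fun x hx => hE x (List.mem_cons_of_mem _ hx))]
    obtain ⟨c, hc⟩ := exists_code D (hE e List.mem_cons_self)
    rw [Matrix.mul_apply, Finset.sum_eq_single c]
    · by_cases ha : e.2.1 = code D a
      · rw [List.filter_cons, if_pos (nat_beq_iff.2 ha), List.map_cons, List.map_cons, List.sum_cons]
        congr 1
        rw [← hc, entryOf_key]
        simp [matOf, ha, hc]
      · rw [List.filter_cons, if_neg (by rw [nat_beq_iff]; exact ha)]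
        simp [matOf, ha]
    · intro x _ hx
      have : ¬ e.2.2.1 = code D x := fun h => hx (code_injective D (hc.trans h).symm)
      simp [matOf, this]
    · simp

/-- a column of the polynomial matrix applied -/
theorem polyC_apply {E : List (ℕ × ℕ × ℕ × ℤ)} (hE : ∀ e ∈ E, e.2.1 < D.rank + D.nroots) (s : k)
    (Z : Matrix D.Idx D.Idx k) (a b : D.Idx) :
    (Z * (1 + matOf D E (-s))) a b = ((polyC E (code D b)).map fun c =>
      (c.2.2 : k) * s ^ c.1 * entryOf D Z (code D a * dimN D + c.2.1)).sum := by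
  rw [mul_add, Matrix.mul_one, Matrix.add_apply, polyC, List.map_cons, List.sum_cons, Int.cast_one, one_mul,
    pow_zero, one_mul, entryOf_key]
  congr 1
  induction E with
  | nil => simp [matOf, Matrix.mul_apply]
  | cons e E ih =>
    rw [matOf_cons, mul_add, Matrix.add_apply, ih (fun x hx => hE x (List.mem_cons_of_mem _ hx))]
    obtain ⟨c, hc⟩ := exists_code D (hE e List.mem_cons_self)
    rw [Matrix.mul_apply, Finset.sum_eq_single c]
    · by_cases hb : e.2.2.1 = code D b
      · rw [List.filter_cons, if_pos (nat_beq_iff.2 hb), List.map_cons, List.map_cons, List.sum_cons]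
        congr 1
        rw [← hc, entryOf_key]
        simp [matOf, hb, hc]
        rw [neg_pow s]; ring
      · rw [List.filter_cons, if_neg (by rw [nat_beq_iff]; exact hb)]
        simp [matOf, hb]
    · intro x _ hx
      have : ¬ e.2.1 = code D x := fun h => hx (code_injective D (hc.trans h).symm)
      simp [matOf, this]
    · simp

theorem polyC_lt {E : List (ℕ × ℕ × ℕ × ℤ)} (hE : ∀ e ∈ E, e.2.1 < D.rank + D.nroots) {B : ℕ}
    (hB : B < D.rank + D.nroots) : ∀ c ∈ polyC E B, c.2.1 < D.rank + D.nroots := by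
  intro c hc
  rcases List.mem_cons.1 hc with rfl | hc
  · exact hB
  · obtain ⟨e, he, rfl⟩ := List.mem_map.1 hc
    exact hE e (List.mem_filter.1 he).1

theorem polyR_lt {E : List (ℕ × ℕ × ℕ × ℤ)} (hE : ∀ e ∈ E, e.2.2.1 < D.rank + D.nroots) {A : ℕ}
    (hA : A < D.rank + D.nroots) : ∀ c ∈ polyR E A, c.2.1 < D.rank + D.nroots := by
  intro c hc
  rcases List.mem_cons.1 hc with rfl | hc
  · exact hA
  · obtain ⟨e, he, rfl⟩ := List.mem_map.1 hc
    exact hE e (List.mem_filter.1 he).1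

/-- the entry of a conjugate -/
theorem conj_apply {E : List (ℕ × ℕ × ℕ × ℤ)}
    (hE : ∀ e ∈ E, e.2.1 < D.rank + D.nroots ∧ e.2.2.1 < D.rank + D.nroots) (s : k)
    (Y : Matrix D.Idx D.Idx k) (a b : D.Idx) :
    ((1 + matOf D E s) * Y * (1 + matOf D E (-s))) a b =
      ((pairTerms D E (code D a) (code D b)).map fun t => (t.2.2 : k) * s ^ t.1 * entryOf D Y t.2.1).sum := by
  rw [mul_assoc, polyR_apply (fun e he => (hE e he).2), pairTerms, List.map_flatMap, List.flatMap,
    List.sum_flatten, List.map_map]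
  refine congrArg _ (List.map_congr_left fun r hr => ?_)
  obtain ⟨c, hc⟩ := exists_code D (polyR_lt (fun e he => (hE e he).2) (code_lt D a) r hr)
  rw [Function.comp_apply, ← hc, entryOf_key, polyC_apply (fun e he => (hE e he).1), ← List.sum_map_mul_left,
    List.map_map]
  refine congrArg _ (List.map_congr_left fun q _ => ?_)
  simp [pow_add]; ring

end

namespace TwCtx

variable {D : ChevalleyDatum} {X : Aux} {C : Cert D X} {k : Type*} [Field k] (S : TwCtx C k)
  {m : ℕ} (hm : ModeOK k m) {p : ℕ} [Fact p.Prime] [CharP k p] (hmp : m = min p 5)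

include hm hmp

/-- one entry of the trace along a row element -/
theorem trace_entry_eq_zero {M : ℕ} {Y : Matrix D.Idx D.Idx k}
    (hY : ∀ r, M.testBit r = true → r < S.Hd.nroots → Commute ((chevRel C k).mat (rowG C S.Q r 1)) Y)
    {a : ℕ} (ha : a < S.Hd.nroots) {A B : D.Idx} {certs : List (ℕ × List (ℕ × ℕ × ℕ × ℤ))}
    (h : chkEntry D S.Hd m S.Q M (rowE D (rowAt S.Q a)) (code D A) (code D B) certs = true) (t : k) :
    (∑ i ∈ Finset.range p, (chevRel C k).mat (rowG C S.Q a t ^ i) * Y *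
      (chevRel C k).mat ((rowG C S.Q a t ^ i)⁻¹)) A B = 0 := by
  classical
  have hlt : ∀ r, r < S.Hd.nroots → ∀ q ∈ rowAt S.Q r, q.1 < D.nroots := fun r hr => (rows_props S.hQ hr).1
  obtain ⟨E, hEdef⟩ : ∃ E, E = rowE D (rowAt S.Q a) := ⟨_, rfl⟩
  rw [← hEdef] at h
  have hE := hEdef ▸ rowE_lt C _ (hlt a ha)
  have hterm : ∀ i : ℕ, ((chevRel C k).mat (rowG C S.Q a t ^ i) * Y *
      (chevRel C k).mat ((rowG C S.Q a t ^ i)⁻¹)) A B =
      ((pairTerms D E (code D A) (code D B)).map fun x =>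
        (i : k) ^ x.1 * ((x.2.2 : k) * t ^ x.1 * entryOf D Y x.2.1)).sum := fun i => by
    rw [S.row_pow ha, S.row_inv ha]
    simp only [rowG]
    rw [mat_listG C _ _ (hlt a ha), mat_listG C _ _ (hlt a ha), ← hEdef, conj_apply hE]
    refine congrArg _ (List.map_congr_left fun x _ => ?_)
    rw [mul_pow]; ring
  simp only [chkEntry, Bool.and_eq_true, List.all_eq_true, Bool.or_eq_true, List.any_eq_true, nat_beq_iff] at h
  obtain ⟨hc1, hc2⟩ := h
  obtain ⟨T, hT⟩ : ∃ T, T = pairTerms D E (code D A) (code D B) := ⟨_, rfl⟩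
  rw [← hT] at hc1 hc2
  simp only [← hT] at hterm
  rw [Matrix.sum_apply, Finset.sum_congr rfl fun i _ => hterm i,
    Finset.sum_congr rfl fun i _ => sum_fiber _ T (T.map Prod.fst).toFinset
      (fun x hx => List.mem_toFinset.2 (List.mem_map_of_mem hx)), Finset.sum_comm]
  refine Finset.sum_eq_zero fun d hd => ?_
  obtain ⟨x, hxT, rfl⟩ := List.mem_map.1 (List.mem_toFinset.1 hd)
  have hfac : ∀ i : ℕ, ((T.filter fun y => Nat.beq y.1 x.1).map fun y =>
      (i : k) ^ y.1 * ((y.2.2 : k) * t ^ y.1 * entryOf D Y y.2.1)).sum =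
      (i : k) ^ x.1 * (t ^ x.1 * ((T.filter fun y => Nat.beq y.1 x.1).map fun y =>
        (y.2.2 : k) * entryOf D Y y.2.1).sum) := fun i => by
    rw [← List.sum_map_mul_left, ← List.sum_map_mul_left]
    refine congrArg _ (List.map_congr_left fun y hy => ?_)
    rw [nat_beq_iff.1 (List.mem_filter.1 hy).2]; ring
  rw [Finset.sum_congr rfl fun i _ => hfac i, ← Finset.sum_mul]
  rcases hc2 x hxT with hg | ⟨c, hc, hcd⟩
  · suffices ∑ i ∈ Finset.range p, (i : k) ^ x.1 = 0 by rw [this, zero_mul]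
    simp only [goodT, Bool.or_eq_true, nat_beq_iff] at hg
    rcases hg with h0 | hg
    · simp [h0]
    · exact sum_pow_eq_zero p (hmp ▸ hg)
  · suffices ((T.filter fun y => Nat.beq y.1 x.1).map fun y => (y.2.2 : k) * entryOf D Y y.2.1).sum = 0 by
      rw [this, mul_zero, mul_zero]
    have hcd' := hc1 c hc
    simp only [chkDeg, Bool.and_eq_true, List.all_eq_true, nat_blt_iff] at hcd'
    have h0 := chkZero_spec hm hcd'.2 (fun key => entryOf D Y key)
    rw [List.map_append, List.sum_append, List.map_map, hcd] at h0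
    have hrest : ((c.2.flatMap fun e => (eqTerms D (flat (rowE D (rowAt S.Q e.1))) e.2.1 e.2.2.1).map fun q =>
        (q.1, e.2.2.2 * q.2)).map fun q => (q.2 : k) • entryOf D Y q.1).sum = 0 := by
      rw [List.flatMap, List.map_flatten, List.sum_flatten, List.map_map, List.map_map]
      refine List.sum_eq_zero fun z hz => ?_
      obtain ⟨e, he, rfl⟩ := List.mem_map.1 hz
      obtain ⟨⟨⟨h1, h2⟩, h3⟩, h4⟩ := hcd'.1 e he
      have hz0 := row_eq_zero C (hlt _ h2) (hY e.1 h1 h2) h3 h4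
      simp only [Function.comp_apply, List.map_map]
      rw [← mul_zero (e.2.2.2 : k), ← hz0, ← List.sum_map_mul_left]
      refine congrArg _ (List.map_congr_left fun q _ => ?_)
      simp [mul_assoc]
    rw [hrest, add_zero] at h0
    exact h0

variable {N : Subgroup ↥(D.group k)}

/-- walking through the rows which are not derived -/
theorem kill_rows {F : List (ℕ × ℕ)} {A B : D.Idx} (hAB : (code D A, code D B) ∈ F) {Y : Matrix D.Idx D.Idx k}
    (hY : ∀ n ∈ N, Commute ((chevRel C k).mat n) Y) {mo ex : ℕ} {Ls : List (List (ℕ × List (ℕ × ℕ × ℤ)))}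
    (hdesc : chkDescT D S.Hd X mo S.T S.Q ex Ls = true) :
    ∀ (L : List (ℕ × List (List (ℕ × List (ℕ × ℕ × ℕ × ℤ))))) (M : ℕ),
      chkKillGoT D S.Hd m S.Q F L M = true →
      (∀ r, M.testBit r = true → ∀ t : k, S.σ t = t → rowG C S.Q r t ∈ N) →
      ¬ S.UM ≤ N →
      ∃ u ∈ S.UM, u ∉ N ∧
        (∑ i ∈ Finset.range p, (chevRel C k).mat (u ^ i) * Y * (chevRel C k).mat ((u ^ i)⁻¹)) A B = 0
  | [], M, h, hM, hne => by
    exfalso
    simp only [chkKillGoT, List.all_eq_true, List.mem_range, Bool.or_eq_true, nat_blt_iff] at h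
    exact hne (S.UM_le hdesc fun a ha hpos => hM a ((h a ha).resolve_left (by omega)))
  | (a, cs) :: L, M, h, hM, hne => by
    simp only [chkKillGoT, Bool.and_eq_true] at h
    by_cases hall : ∀ t : k, S.σ t = t → rowG C S.Q a t ∈ N
    · refine kill_rows hAB hY hdesc L _ h.2 (fun j hj => ?_) hne
      rcases testBit_or_two_pow hj with h' | rfl
      · exact hM j h'
      · exact hall
    · push Not at hall
      obtain ⟨t, ht', htN⟩ := hall
      have hh := h.1
      simp only [chkKillRowT, Bool.and_eq_true, List.all_eq_true, List.mem_range, nat_blt_iff, nat_ble_iff] at hh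
      obtain ⟨⟨ha, hpos⟩, hF⟩ := hh
      obtain ⟨i, hi, hiF⟩ := List.mem_iff_getElem.1 hAB
      have h2 := (hF i hi).2
      rw [List.getD_eq_getElem _ _ hi, hiF] at h2
      exact ⟨_, S.row_mem_UM ha hpos ht', htN, S.trace_entry_eq_zero hm hmp
        (fun r hr _ => hY _ (hM r hr 1 (map_one _))) ha h2 t⟩

/-- the killing statement -/
theorem exists_killT {f : ℕ} {F : List (ℕ × ℕ)} {der : List (ℕ × ℕ × ℕ)}
    {L : List (ℕ × List (List (ℕ × List (ℕ × ℕ × ℕ × ℤ))))}
    (h : chkKillT D S.Hd m f S.Q F der L = true) {mo ex : ℕ} {Ls : List (List (ℕ × List (ℕ × ℕ × ℤ)))}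
    (hdesc : chkDescT D S.Hd X mo S.T S.Q ex Ls = true)
    (hcomm : ∀ x ∈ S.UM, ∀ y ∈ S.UM, x * y * x⁻¹ * y⁻¹ ∈ N) {A B : D.Idx} (hAB : (code D A, code D B) ∈ F)
    {Y : Matrix D.Idx D.Idx k} (hY : ∀ n ∈ N, Commute ((chevRel C k).mat n) Y) (hne : ¬ S.UM ≤ N) :
    ∃ u ∈ S.UM, u ∉ N ∧
      (∑ i ∈ Finset.range p, (chevRel C k).mat (u ^ i) * Y * (chevRel C k).mat ((u ^ i)⁻¹)) A B = 0 := by
  simp only [chkKillT, Bool.and_eq_true] at h
  exact S.kill_rows hm hmp hAB hY hdesc L _ h.2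
    (S.der_rows hm hcomm der 0 h.1.2 h.1.1 fun r hr => by simp at hr) hne

end TwCtx

end CfsgLib.Known.Overgroup.Twisted
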