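import Cfsg.Agent.Lib.Known.Overgroup.Twisted.Descent
import Cfsg.Agent.Lib.Known.ChevGen

/-!
# Regular unipotent elements of the fixed points

An element with all fundamental coefficients non-zero lies in one conjugate of the Borel subgroup.
-/

set_option autoImplicit false

namespace CfsgLib.Known.Overgroup.Twisted

open Cfsg.Lie (ChevalleyDatum)
open CfsgLib.Lie.Chev
open CfsgLib.Known.ChevFold
open scoped Matrix

variable {D : ChevalleyDatum} {X : Aux} (C : Cert D X) {k : Type*} [Field k]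

include C

theorem ht_sroot (i : Fin D.rank) : ht D X (D.simple i) = 1 := by
  show ∑ j : Fin D.rank, (1 : ℤ) * X.coef j (D.simple i) = 1
  simp [C.coef_simple i.2, Fin.val_inj]

theorem mem_RS_one_of_UP {g : ↥(D.group k)} (hg : g ∈ (chevRel C k).UP) : g ∈ (rawG C).RS (hS D X 1) := by
  rw [RS_eq_UP (k := k) C]; exact hg

/-- conjugation inside `U` keeps the fundamental coefficients -/
theorem coef_conj_UP {u x : ↥(D.group k)} (hu : u ∈ (chevRel C k).UP) (hx : x ∈ (chevRel C k).UP)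
    {r : Fin D.nroots} (hr : ht D X r = 1) {t : k} (ht' : HasCoef C x r t) : HasCoef C (u * x * u⁻¹) r t := by
  have hc := comm_mem C (le_refl (1 : ℤ)) (mem_RS_one_of_UP C hx) hu
  have hle : (rawG (F := k) C).RS (hS D X (1 + 1)) ≤ (rawG C).RS (hS D X 1) :=
    (rawG C).RS_mono fun y (hy : _ ≤ ht D X y) => show _ ≤ ht D X y by omega
  have h0 : HasCoef C _ r (0 : k) := hasCoef_zero_succ C le_rfl (S := hS D X (1 + 1))
    (fun y (hy : _ ≤ ht D X y) => show _ ≤ ht D X y by omega) hc hr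
    (fun (h : (1 : ℤ) + 1 ≤ ht D X r) => by omega)
  have h := hasCoef_mul C le_rfl (hle hc) (mem_RS_one_of_UP C hx) hr h0 ht'
  rw [zero_add, inv_mul_cancel_right] at h
  exact h

/-- an element moving a regular unipotent element into `U` lies in `B` -/
theorem mem_BS_of_regular {g u₀ : ↥(D.group k)} (hu₀ : u₀ ∈ (chevRel C k).UP)
    (hc : ∀ i : Fin D.rank, ∃ t : k, t ≠ 0 ∧ HasCoef C u₀ ((chevRel C k).sroot i) t)
    (h : g * u₀ * g⁻¹ ∈ (chevRel C k).UP) : g ∈ (chevRel C k).BS := by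
  obtain ⟨R, hR⟩ : ∃ R, R = chevRel C k := ⟨_, rfl⟩
  rw [← hR] at h hu₀ hc ⊢
  obtain ⟨b, hb, n, u, hu, rfl⟩ := R.exists_bnu g
  have huU : u ∈ R.UP := R.US_mono (Rel.invSet_subset _) hu
  by_cases hw : R.qmk n = 1
  · exact mul_mem (mul_mem hb (R.HS_le_BS (R.qmk_eq_one.1 hw))) (R.UP_le_BS huU)
  exfalso
  obtain ⟨i, hi⟩ := R.exists_descent hw
  rw [R.qact_qmk] at hi
  obtain ⟨y, hy⟩ : ∃ y, y = u * u₀ * u⁻¹ := ⟨_, rfl⟩
  have hyU : y ∈ R.UP := hy ▸ mul_mem (mul_mem huU hu₀) (inv_mem huU)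
  obtain ⟨q, hq, m, hm, e⟩ := R.exists_UP_factor (R.nsPerm n) hyU
  have h1 : (n : ↥(D.group k)) * y * (n : ↥(D.group k))⁻¹ ∈ R.UP := by
    have h2 := (Subgroup.mem_normalizer_iff.1 (R.BS_le_normalizer_UP (inv_mem hb)) _).1 h
    rw [hy]
    convert h2 using 1; group
  have hm1 : m = 1 := by
    have h2 : (n : ↥(D.group k)) * m * (n : ↥(D.group k))⁻¹ ∈ R.UP := by
      have h3 := mul_mem (inv_mem (R.conj_keep hq)) h1
      rw [e] at h3
      convert h3 using 1; group
    have h4 := R.BS_inf_UN (R.UP_le_BS h2) (R.conj_inv hm)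
    rwa [mul_inv_eq_one, mul_eq_left] at h4
  rw [hm1, mul_one] at e
  subst hR
  obtain ⟨t, ht0, htc⟩ := hc i
  have hct := coef_conj_UP C huU hu₀ (r := (chevRel C k).sroot i) (ht_sroot C i) htc
  rw [← hy] at hct
  have hrest : y ∈ (rawG (F := k) C).RS ((chevRel C k).restSet i) := by
    have hmem : y ∈ (chevRel C k).US ((chevRel C k).restSet i) := e ▸ (chevRel C k).US_mono
      (S := keepSet ((chevRel C k).nsPerm n)) (T := (chevRel C k).restSet i)
      (fun r hr => ⟨hr.1, fun h' => hi (h' ▸ hr.2)⟩) hq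
    exact hmem
  have h0 : HasCoef C y ((chevRel C k).sroot i) (0 : k) :=
    hasCoef_zero_succ C le_rfl (fun r hr => show (1 : ℤ) ≤ ht D X r from ht_pos C hr.1) hrest (ht_sroot C i)
      fun hr => hr.2 rfl
  exact ht0 (hasCoef_unique C hct h0)

theorem sg_mem_HS (σ : k →+* k) {h : ↥(D.group k)} (hh : h ∈ (chevRel C k).HS) :
    sg D σ h ∈ (chevRel C k).HS := by
  refine (show (chevRel C k).HS ≤ ((chevRel C k).HS).comap (sg D σ) from (Subgroup.closure_le _).2 ?_) hh
  rintro _ ⟨i, c, hc, rfl⟩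
  show sg D σ ((chevRel C k).he (D.simple i) c) ∈ (chevRel C k).HS
  have e : sg D σ ((chevRel C k).he (D.simple i) c) = (chevRel C k).he (D.simple i) (σ c) := by
    simp only [Rel.he, heOf, neOf, map_mul, sg_xe C, map_neg, map_inv₀, map_one]
  rw [e]
  exact (chevRel C k).he_mem_HS i ((map_ne_zero σ).2 hc)

/-- a torus element acting trivially on the fundamental roots is trivial -/
theorem eq_one_of_simple {h : ↥(D.group k)} {a : Fin D.nroots → k} (hmon : (chevRel C k).IsMon h 1 a)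
    (hd : (chevRel C k).mat h = Matrix.diagonal (Sum.elim (fun _ => (1 : k)) a))
    (ha : ∀ i : Fin D.rank, a ((chevRel C k).sroot i) = 1) : h = 1 := by
  have htop : Subgroup.centralizer ({h} : Set ↥(D.group k)) = ⊤ :=
    ChevGen.eq_top_of_simple (chevRel C k) _ fun i t => by
      constructor
      · rw [Subgroup.mem_centralizer_singleton_iff]
        have h1 := (hmon ((chevRel C k).sroot i)).2.2.2 t
        rw [ha i, one_mul, Equiv.Perm.coe_one, id_eq, mul_inv_eq_iff_eq_mul] at h1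
        exact h1.symm
      · rw [Subgroup.mem_centralizer_singleton_iff]
        have h1 := (hmon ((chevRel C k).negF ((chevRel C k).sroot i))).2.2.2 t
        rw [(hmon ((chevRel C k).sroot i)).2.1, ha i, inv_one, one_mul, Equiv.Perm.coe_one, id_eq,
          mul_inv_eq_iff_eq_mul] at h1
        exact h1.symm
  have hall : ∀ r, a r = 1 := fun r => by
    have h1 := (hmon r).2.2.2 1
    have h2 : (chevRel C k).xe (r : ℕ) 1 ∈ Subgroup.centralizer ({h} : Set ↥(D.group k)) :=
      htop ▸ Subgroup.mem_top _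
    rw [Subgroup.mem_centralizer_singleton_iff] at h2
    rw [← h2, mul_inv_cancel_right, Equiv.Perm.coe_one, id_eq, mul_one] at h1
    exact ((chevRel C k).xe_inj_param (r := r) h1).symm
  refine Subtype.ext (Units.ext ?_)
  show (chevRel C k).mat h = 1
  rw [hd, ← Matrix.diagonal_one]
  congr 1
  funext x
  cases x with
  | inl _ => rfl
  | inr r => exact hall r

/-- at an element of `B` moving a regular fixed element to a fixed element, `σ(m) m⁻¹` lies in `U` -/
theorem sg_mul_inv_mem_UP (σ : k →+* k) {l : List (ℕ × k)} (hl : ∀ q ∈ l, q.1 < D.nroots ∧ ht D X q.1 = 1)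
    (hone : ∀ i : Fin D.rank, (l.map fun q => if q.1 = D.simple i then q.2 else 0).sum = 1)
    (hfix : sg D σ (wordG C l) = wordG C l) {m : ↥(D.group k)} (hm : m ∈ (chevRel C k).BS)
    (hmfix : sg D σ (m * wordG C l * m⁻¹) = m * wordG C l * m⁻¹) :
    sg D σ m * m⁻¹ ∈ (chevRel C k).UP := by
  obtain ⟨u, hu, t, ht', rfl⟩ := (chevRel C k).exists_of_mem_BS hm
  obtain ⟨x, hx⟩ : ∃ x, x = wordG C l := ⟨_, rfl⟩
  rw [← hx] at hfix hmfix
  have hxU : x ∈ (chevRel C k).UP := by
    rw [hx]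
    exact wordG_mem_US C fun q hq =>
      ⟨(hl q hq).1, pos_of_ht C (r := ⟨q.1, (hl q hq).1⟩) (hl q hq).2.ge⟩
  obtain ⟨v, hv⟩ : ∃ v, v = t⁻¹ * (u⁻¹ * sg D σ u) * t := ⟨_, rfl⟩
  have hvU : v ∈ (chevRel C k).UP := by
    have h := (Subgroup.mem_normalizer_iff.1
      ((chevRel C k).HS_le_normalizer_US (posSet D) (inv_mem ht')) (u⁻¹ * sg D σ u)).1
      (mul_mem (inv_mem hu) (sg_mem_UP C σ hu))
    rw [inv_inv] at h
    exact hv ▸ h
  obtain ⟨t', htdef⟩ : ∃ t', t' = t⁻¹ * sg D σ t := ⟨_, rfl⟩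
  have ht'H : t' ∈ (chevRel C k).HS := htdef ▸ mul_mem (inv_mem ht') (sg_mem_HS C σ ht')
  have hc : v * t' * x * (v * t')⁻¹ = x := by
    rw [map_mul, map_mul, map_inv, hfix] at hmfix
    have e : v * t' = (u * t)⁻¹ * sg D σ (u * t) := by rw [hv, htdef, map_mul]; group
    rw [e]
    calc (u * t)⁻¹ * sg D σ (u * t) * x * ((u * t)⁻¹ * sg D σ (u * t))⁻¹
        = (u * t)⁻¹ * (sg D σ (u * t) * x * (sg D σ (u * t))⁻¹) * (u * t) := by group
      _ = x := by rw [hmfix]; group
  obtain ⟨a, hmon, hd⟩ := (chevRel C k).exists_mat_HS ht'H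
  have ha : ∀ i : Fin D.rank, a ((chevRel C k).sroot i) = 1 := by
    intro i
    have hconj : ∀ L : List (ℕ × k), (∀ q ∈ L, q.1 < D.nroots) → t' * wordG C L * t'⁻¹ =
        wordG C (L.map fun q => (q.1, (if h : q.1 < D.nroots then a ⟨q.1, h⟩ else 0) * q.2)) := by
      intro L
      induction L with
      | nil => intro _; simp [wordG]
      | cons q L ih =>
        intro hL
        have hq := hL q List.mem_cons_self
        have h1 := (hmon ⟨q.1, hq⟩).2.2.2 q.2
        rw [wordG_cons, List.map_cons, wordG_cons, ← ih (fun y hy => hL y (List.mem_cons_of_mem _ hy)), dif_pos hq]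
        show t' * ((chevRel C k).xe q.1 q.2 * wordG C L) * t'⁻¹ =
          (chevRel C k).xe q.1 (a ⟨q.1, hq⟩ * q.2) * (t' * wordG C L * t'⁻¹)
        rw [Equiv.Perm.coe_one, id_eq] at h1
        rw [← h1]
        group
    have hw := hconj l fun q hq => (hl q hq).1
    rw [← hx] at hw
    have hlen : ∀ q ∈ l.map (fun q => (q.1, (if h : q.1 < D.nroots then a ⟨q.1, h⟩ else 0) * q.2)),
        q.1 < D.nroots ∧ (1 : ℤ) ≤ ht D X q.1 := fun q hq => by
      obtain ⟨y, hy, rfl⟩ := List.mem_map.1 hq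
      exact ⟨(hl y hy).1, (hl y hy).2.ge⟩
    obtain ⟨hwR, hwc⟩ := hasCoef_wordG C le_rfl _ hlen
    have h1 := hwc ((chevRel C k).sroot i) (ht_sroot C i)
    rw [← hw] at hwR h1
    have hyU : t' * x * t'⁻¹ ∈ (chevRel C k).UP := RS_le_UP C le_rfl hwR
    have h2 := coef_conj_UP C hvU hyU (r := (chevRel C k).sroot i) (ht_sroot C i) h1
    rw [show v * (t' * x * t'⁻¹) * v⁻¹ = v * t' * x * (v * t')⁻¹ by group, hc] at h2
    have h3 := (hasCoef_wordG C (le_refl (1 : ℤ)) l fun q hq => ⟨(hl q hq).1, (hl q hq).2.ge⟩).2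
      ((chevRel C k).sroot i) (ht_sroot C i)
    rw [← hx] at h3
    have h4 := hasCoef_unique C h3 h2
    rw [List.map_map] at h4
    have key : ∀ L : List (ℕ × k), (L.map ((fun q : ℕ × k => if q.1 = ((chevRel C k).sroot i : ℕ) then q.2 else 0) ∘
        fun q => (q.1, (if h : q.1 < D.nroots then a ⟨q.1, h⟩ else 0) * q.2))).sum =
        a ((chevRel C k).sroot i) * (L.map fun q => if q.1 = D.simple i then q.2 else 0).sum := by
      intro L
      induction L with
      | nil => simp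
      | cons q L ih =>
        rw [List.map_cons, List.sum_cons, List.map_cons, List.sum_cons, ih, mul_add, Function.comp_apply]
        congr 1
        show (if q.1 = D.simple i then _ else _) = _
        split_ifs with hq hlt
        · rw [show (⟨q.1, hlt⟩ : Fin D.nroots) = (chevRel C k).sroot i from Fin.ext hq]
        · exact absurd (hq ▸ C.simple_lt i.2) hlt
        · rw [mul_zero]
    rw [key, show (l.map fun q => if q.1 = ((chevRel C k).sroot i : ℕ) then q.2 else 0).sum = 1 from hone i,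
      hone i, mul_one] at h4
    exact h4.symm
  have ht1 := eq_one_of_simple C hmon hd ha
  have htfix : sg D σ t = t := by rw [htdef, inv_mul_eq_one] at ht1; exact ht1.symm
  have e : sg D σ (u * t) * (u * t)⁻¹ = sg D σ u * u⁻¹ := by rw [map_mul, htfix]; group
  rw [e]
  exact mul_mem (sg_mem_UP C σ hu) (inv_mem hu)

end CfsgLib.Known.Overgroup.Twisted
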