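import Cfsg.Agent.Lib.Known.Overgroup.Twisted.Kill
import Cfsg.Agent.Lib.Known.Overgroup.Twisted.Commutant
import Cfsg.Agent.Lib.Known.Overgroup.Twisted.Regular
import Cfsg.Agent.Lib.Known.Overgroup.Main

/-!
# Overgroups of the fixed points whose exceptional parameters are fixed consist of fixed points
-/

set_option autoImplicit false

namespace CfsgLib.Known.Overgroup

open scoped Pointwise

variable {k : Type*} [Field k] (p : ℕ) [Fact p.Prime] {M : Type*} [Ring M] [Algebra k M]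
  {H : Type*} [Group H] [Finite H] (ρ ρ' : H →* M) (H₀ : Subgroup H) (hagree : ∀ h ∈ H₀, ρ' h = ρ h)
  {S : Subgroup H} (hS : IsPGroup p S) (hS₀ : S ≤ H₀) (χ : M →ₗ[k] k) (hkill : KillsTraces p ρ χ S)

open _root_.Classical in
/-- the fixed cosets -/
noncomputable def fixedCosets [Fintype (H ⧸ H₀)] (S : Subgroup H) : Finset (H ⧸ H₀) :=
  Finset.univ.filter fun x => ∀ s ∈ S, s • x = x

include hS in
/-- their number is prime to `p` -/
theorem card_fixedCosets_ne_zero [CharP k p] [Fintype (H ⧸ H₀)] (hindex : ¬ p ∣ H₀.index) :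
    ((fixedCosets H₀ S).card : k) ≠ 0 := by
  classical
  have hcard : Nat.card (MulAction.fixedPoints S (H ⧸ H₀)) = (fixedCosets H₀ S).card := by
    rw [← Nat.card_eq_finsetCard]
    refine Nat.card_congr (Equiv.subtypeEquivRight fun x => ?_)
    rw [fixedCosets, Finset.mem_filter]
    exact ⟨fun h => ⟨Finset.mem_univ _, fun s hs => h ⟨s, hs⟩⟩, fun h s => h.2 s s.2⟩
  have hmod := hS.card_modEq_card_fixedPoints (H ⧸ H₀)
  rw [Ne, CharP.cast_eq_zero_iff k p]
  intro hdvd
  refine hindex (Nat.modEq_zero_iff_dvd.1 (hmod.trans ?_))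
  rw [hcard]
  exact Nat.modEq_zero_iff_dvd.2 hdvd

include hS hS₀ hkill in
/-- only the fixed cosets contribute to the functional of the trace -/
theorem trace_eq_card [Fintype (H ⧸ H₀)] {c : k}
    (hfix : ∀ x : H ⧸ H₀, (∀ s ∈ S, s • x = x) → χ (phi ρ ρ' H₀ hagree x) = c) :
    χ (trace ρ ρ' H₀ hagree) = (fixedCosets H₀ S).card * c := by
  classical
  obtain ⟨Fx, hFx⟩ : ∃ Fx, Fx = fixedCosets H₀ S := ⟨_, rfl⟩
  have hmemF : ∀ x, x ∈ Fx ↔ ∀ s ∈ S, s • x = x := fun x => by rw [hFx, fixedCosets, Finset.mem_filter]; simp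
  rw [← hFx, trace, ← Finset.sum_sdiff (Finset.subset_univ Fx), map_add,
    sum_moving_eq_zero p ρ ρ' H₀ hagree hS hS₀ χ hkill, zero_add, map_sum,
    Finset.sum_congr rfl (fun x hx => hfix x ((hmemF x).1 hx)), Finset.sum_const, nsmul_eq_mul]
  · intro s hs x hx
    rw [Finset.mem_sdiff, hmemF] at hx ⊢
    refine ⟨Finset.mem_univ _, fun h => hx.2 fun t ht => ?_⟩
    have := h (s * t * s⁻¹) (mul_mem (mul_mem hs ht) (inv_mem hs))
    rwa [← mul_smul, inv_mul_cancel_right, mul_smul, smul_left_cancel_iff] at this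
  · intro x hx
    by_contra hcon
    simp only [Finset.mem_sdiff, hmemF, Finset.mem_univ, true_and] at hx
    exact hx fun s hs => not_not.1 fun h => hcon ⟨s, hs, h⟩

namespace Twisted

open Cfsg.Lie (ChevalleyDatum)
open CfsgLib.Lie.Chev
open CfsgLib.Known.ChevFold
open scoped Matrix

/-- the fundamental rows are plain and cover every fundamental root once -/
def chkRegular (D Hd : ChevalleyDatum) (X : Aux) (Q : List (List (ℕ × ℤ))) : Bool :=
  ((levelRows D Hd X Q 1).all fun a => (rowAt Q a).all fun q => decide (q.2 = 1)) &&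
    decide ((levelRows D Hd X Q 1).flatMap fun a => (rowAt Q a).map Prod.fst).Nodup &&
    (List.range D.rank).all fun i =>
      ((levelRows D Hd X Q 1).flatMap fun a => (rowAt Q a).map Prod.fst).any fun r => Nat.beq r (D.simple i)

/-- the functionals are diagonal or upper entries -/
def chkUpper (D : ChevalleyDatum) (F : List (ℕ × ℕ)) : Bool :=
  F.all fun q => Nat.beq q.1 q.2 || (Nat.ble D.rank q.1 && Nat.blt q.1 q.2)

namespace TwCtx

variable {D : ChevalleyDatum} {X : Aux} {C : Cert D X} {k : Type*} [Field k] (S : TwCtx C k)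

set_option synthInstance.maxHeartbeats 400000 in
/-- the main statement, from certificates -/
theorem le_M_of_data (p : ℕ) [Fact p.Prime] [CharP k p] {H : Subgroup ↥(D.group k)} [Finite H]
    (hH : H ≤ S.P) (hMH : S.M ≤ H) {ex : ℕ} {Ls : List (List (ℕ × List (ℕ × ℕ × ℤ)))}
    (hdesc : chkDescT D S.Hd X (min p 5) S.T S.Q ex Ls = true)
    (hper : ∀ v : k, (⇑S.σ)^[(S.row ex).length] v = v)
    (hexc : ∀ v : k, wordG C (twList S.σ (S.row ex) v) ∈ H → S.σ v = v)
    (hreg : chkRegular D S.Hd X S.Q = true) {F : List (ℕ × ℕ)} (hF : chkUpper D F = true) {f : ℕ}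
    {der : List (ℕ × ℕ × ℕ)} {L : List (ℕ × List (List (ℕ × List (ℕ × ℕ × ℕ × ℤ))))}
    (hkill : chkKillT D S.Hd (min p 5) f S.Q F der L = true)
    {gens : List ℕ} {KL : List (ℕ × ℕ × ℕ × ℕ)} {CL : List (ℕ × ℕ × ℕ)}
    (hcom : chkCommT D S.Hd (min p 5) S.Q F gens KL CL = true) : H ≤ S.M := by
  classical
  have hm : ModeOK k (min p 5) := modeOK_of_char k p
  have hdes : H ⊓ (chevRel C k).UP ≤ rat D S.σ := S.inf_UP_le_rat hm hdesc hH hMH hper hexc
  obtain ⟨S₀, hS₀⟩ : ∃ S₀, S₀ = S.UM := ⟨_, rfl⟩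
  have hS₀H : S₀ ≤ H := fun g hg => by
    rw [hS₀] at hg
    exact hMH (Subgroup.mem_inf.1 hg).2
  obtain ⟨T, hT⟩ : ∃ T : Subgroup ↥H, T = S₀.subgroupOf H := ⟨_, rfl⟩
  obtain ⟨H₀, hH₀⟩ : ∃ H₀ : Subgroup ↥H, H₀ = (rat D S.σ).subgroupOf H := ⟨_, rfl⟩
  have hmemT : ∀ g : ↥H, g ∈ T ↔ (g : ↥(D.group k)) ∈ (chevRel C k).UP := fun g => by
    rw [hT, Subgroup.mem_subgroupOf, hS₀, UM, Subgroup.mem_inf]
    exact ⟨fun h => h.1, fun h => ⟨h, Subgroup.mem_inf.2 ⟨hH g.2, hdes ⟨g.2, h⟩⟩⟩⟩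
  have hmem₀ : ∀ g : ↥H, g ∈ H₀ ↔ sg D S.σ (g : ↥(D.group k)) = g := fun g => by
    rw [hH₀, Subgroup.mem_subgroupOf, mem_rat]
  have hTH : T ≤ H₀ := fun g hg => (hmem₀ g).2 (hdes ⟨g.2, (hmemT g).1 hg⟩)
  have hpT : IsPGroup p T := fun g => by
    obtain ⟨e, he⟩ := exists_pow_eq_one C p ((hmemT g).1 g.2)
    exact ⟨e, Subtype.ext (Subtype.ext (by simpa using he))⟩
  -- a regular element of `T`
  simp only [chkRegular, Bool.and_eq_true, List.all_eq_true, List.mem_range, decide_eq_true_eq,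
    List.any_eq_true, nat_beq_iff] at hreg
  obtain ⟨⟨hsgn, hnd⟩, hcov⟩ := hreg
  obtain ⟨R1, hR1⟩ : ∃ R1, R1 = levelRows D S.Hd X S.Q 1 := ⟨_, rfl⟩
  rw [← hR1] at hsgn hnd hcov
  have hR1' : ∀ a ∈ R1, a < S.Hd.nroots ∧ ∀ q ∈ S.row a, ht D X q.1 = 1 := fun a ha => by
    rw [hR1] at ha
    simp only [levelRows, List.mem_filter, List.mem_range, List.all_eq_true, decide_eq_true_eq] at ha
    exact ha
  obtain ⟨l, hl⟩ : ∃ l, l = (R1.flatMap fun a => (S.row a).map Prod.fst).map fun r => (r, (1 : k)) := ⟨_, rfl⟩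
  have hlq : ∀ q ∈ l, q.1 < D.nroots ∧ ht D X q.1 = 1 := fun q hq => by
    rw [hl] at hq
    obtain ⟨r, hr, rfl⟩ := List.mem_map.1 hq
    obtain ⟨a, ha, hr⟩ := List.mem_flatMap.1 hr
    obtain ⟨x, hx, rfl⟩ := List.mem_map.1 hr
    exact ⟨((S.row_spec (hR1' a ha).1).2.2.2 x hx).1, (hR1' a ha).2 x hx⟩
  have hone : ∀ i : Fin D.rank, (l.map fun q => if q.1 = D.simple i then q.2 else 0).sum = 1 := fun i => by
    obtain ⟨r, hr, hri⟩ := hcov i i.2
    have hndl : (l.map Prod.fst).Nodup := by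
      rw [hl, List.map_map]
      simpa [Function.comp_def, TwCtx.row] using hnd
    have hmem : (r, (1 : k)) ∈ l := by
      rw [hl]; exact List.mem_map_of_mem hr
    have h1 := sum_ite_of_mem l hndl _ hmem
    rw [← hri]
    exact h1
  have hwM : wordG C l ∈ S.M := by
    rw [hl]
    have : ∀ L : List ℕ, (∀ a ∈ L, a ∈ R1) →
        wordG C ((L.flatMap fun a => (S.row a).map Prod.fst).map fun r => (r, (1 : k))) ∈ S.M := by
      intro L
      induction L with
      | nil => intro _; simp [wordG, one_mem]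
      | cons a L ihL =>
        intro hL
        have hfl : ∀ l l' : List (ℕ × k), wordG C (l ++ l') = wordG C l * wordG C l' := fun l l' => by
          simp [wordG]
        have ha := hL a List.mem_cons_self
        rw [List.flatMap_cons, List.map_append, hfl,
          show ((S.row a).map Prod.fst).map (fun r => (r, (1 : k))) = (S.row a).map fun q => (q.1, (q.2 : k) * 1) by
            rw [List.map_map]
            exact List.map_congr_left fun q hq => by simp [hsgn a ha q hq],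
          ← listG_eq_wordG]
        exact mul_mem (S.row_mem_M (hR1' a ha).1 (map_one _)) (ihL fun x hx => hL x (List.mem_cons_of_mem _ hx))
    exact this R1 fun a ha => ha
  have hwU : wordG C l ∈ (chevRel C k).UP :=
    wordG_mem_US C fun q hq => ⟨(hlq q hq).1, pos_of_ht C (r := ⟨q.1, (hlq q hq).1⟩) (hlq q hq).2.ge⟩
  have hu₀ : (⟨wordG C l, hMH hwM⟩ : ↥H) ∈ T := (hmemT _).2 hwU
  have hcoef : ∀ i : Fin D.rank, ∃ t : k, t ≠ 0 ∧ HasCoef C (wordG C l) ((chevRel C k).sroot i) t := fun i => by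
    have h := (hasCoef_wordG C le_rfl l fun q hq => ⟨(hlq q hq).1, (hlq q hq).2.ge⟩).2 ((chevRel C k).sroot i)
      (ht_sroot C i)
    rw [show (l.map fun q => if q.1 = ((chevRel C k).sroot i : ℕ) then q.2 else 0).sum = 1 from hone i] at h
    exact ⟨1, one_ne_zero, h⟩
  have hnormB : ∀ g : ↥H, (∀ s ∈ T, g * s * g⁻¹ ∈ T) → (g : ↥(D.group k)) ∈ (chevRel C k).BS := fun g hg =>
    mem_BS_of_regular C hwU hcoef ((hmemT _).1 (hg _ hu₀))
  -- `T` is a Sylow subgroup
  obtain ⟨P, hTP⟩ := hpT.exists_le_sylow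
  have hP : (P : Subgroup ↥H) = T := by
    by_contra hne
    have : Group.IsNilpotent P := P.2.isNilpotent
    have hlt : T.subgroupOf P < ⊤ :=
      lt_top_iff_ne_top.2 fun h => hne (le_antisymm (Subgroup.subgroupOf_eq_top.1 h) hTP)
    obtain ⟨g, hg, hgn⟩ := SetLike.exists_of_lt (Group.normalizerCondition_of_isNilpotent _ hlt)
    refine hgn (Subgroup.mem_subgroupOf.2 ((hmemT _).2 ?_))
    obtain ⟨e, he⟩ := P.2 g
    refine mem_UP_of_pow C p (e := e) (hnormB g fun s hs => ?_) ?_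
    · exact (Subgroup.mem_normalizer_iff.1 hg ⟨s, hTP hs⟩).1 hs
    · simpa using congrArg (fun x : P => ((x : ↥H) : ↥(D.group k))) he
  have hindex : ¬ p ∣ H₀.index := fun h =>
    P.not_dvd_index (hP.symm ▸ h.trans (Subgroup.index_dvd_of_le hTH))
  have hagree : ∀ h ∈ H₀, rho' H S.σ h = rho H h := fun h hh => by
    rw [rho_apply C, rho'_apply C, (hmem₀ h).1 hh]
  have hkt : ∀ A B : D.Idx, (code D A, code D B) ∈ F →
      KillsTraces p (rho H) (Matrix.entryLinearMap k k A B) T := by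
    intro A B hAB N hNS hidx _ hcomm Y hY
    obtain ⟨N', hN'⟩ : ∃ N', N' = N.map H.subtype := ⟨_, rfl⟩
    have hmap : T.map H.subtype = S₀ := hT ▸ Subgroup.map_subgroupOf_eq_of_le hS₀H
    have h2 : N'.relIndex S₀ = p := by
      rw [hN', ← hmap, Subgroup.relIndex_map_map_of_injective _ _ H.subtype_injective, hidx]
    have h3 : ∀ x ∈ S₀, ∀ y ∈ S₀, x * y * x⁻¹ * y⁻¹ ∈ N' := fun x hx y hy => by
      rw [← hmap] at hx hy
      obtain ⟨x', hx', rfl⟩ := hx
      obtain ⟨y', hy', rfl⟩ := hy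
      rw [hN']
      exact ⟨_, hcomm x' hx' y' hy', by simp⟩
    have h4 : ∀ n ∈ N', Commute ((chevRel C k).mat n) Y := fun n hn => by
      rw [hN'] at hn
      obtain ⟨n', hn', rfl⟩ := hn
      exact hY n' hn'
    have h5 : ¬ S₀ ≤ N' := fun h => by
      rw [Subgroup.relIndex_eq_one.2 h] at h2
      exact (Fact.out : p.Prime).one_lt.ne h2
    rw [hS₀] at h2 h3 h5
    obtain ⟨u, hu, huN, hu0⟩ := S.exists_killT hm rfl hkill hdesc h3 hAB h4 h5
    rw [← hS₀] at hu
    exact ⟨⟨u, hS₀H hu⟩, hT ▸ Subgroup.mem_subgroupOf.2 hu, fun h => huN (hN' ▸ ⟨_, h, rfl⟩), hu0⟩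
  have : Fintype (↥H ⧸ H₀) := Fintype.ofFinite _
  -- at a fixed coset the matrix is unitriangular
  have hfix : ∀ x : ↥H ⧸ H₀, (∀ s ∈ T, s • x = x) → ∀ A B : D.Idx, (code D A, code D B) ∈ F →
      Matrix.entryLinearMap k k A B (phi (rho H) (rho' H S.σ) H₀ hagree x) = if A = B then 1 else 0 := by
    intro x
    induction x using QuotientGroup.induction_on with
    | H h =>
      intro hx A B hAB
      have hin : ∀ s ∈ T, h⁻¹ * s * h ∈ H₀ := fun s hs => by
        have e : ((s⁻¹ * h : ↥H) : ↥H ⧸ H₀) = (h : ↥H ⧸ H₀) := hx s⁻¹ (inv_mem hs)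
        rw [QuotientGroup.eq] at e
        convert e using 1; group
      obtain ⟨Q, hQ⟩ : ∃ Q : Sylow p ↥H, Q = h⁻¹ • P := ⟨_, rfl⟩
      have hQmem : ∀ y, y ∈ (Q : Subgroup ↥H) ↔ h * y * h⁻¹ ∈ T := fun y => by
        rw [hQ, Sylow.coe_subgroup_smul, Subgroup.mem_pointwise_smul_iff_inv_smul_mem, hP]
        simp [MulAut.smul_def]
      have hQle : (Q : Subgroup ↥H) ≤ H₀ := fun y hy => by
        have := hin _ ((hQmem y).1 hy)
        convert this using 1; group
      obtain ⟨g, hg⟩ := MulAction.exists_smul_eq ↥H₀ (P.subtype (hP.symm ▸ hTH)) (Q.subtype hQle)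
      have hcoset : (h : ↥H ⧸ H₀) = ((h * g : ↥H) : ↥H ⧸ H₀) := by
        rw [QuotientGroup.eq, inv_mul_cancel_left]; exact g.2
      rw [hcoset]
      have hnorm : ∀ s ∈ T, (h * (g : ↥H)) * s * (h * (g : ↥H))⁻¹ ∈ T := fun s hs => by
        have hsP : (⟨s, hTH hs⟩ : ↥H₀) ∈ (P.subtype (hP.symm ▸ hTH) : Subgroup ↥H₀) :=
          Subgroup.mem_subgroupOf.2 (show s ∈ (P : Subgroup ↥H) from hP.symm ▸ hs)
        have h1 := Subgroup.smul_mem_pointwise_smul _ (MulAut.conj g) _ hsP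
        rw [← Sylow.coe_subgroup_smul] at h1
        change _ ∈ ((g • P.subtype _ : Sylow p ↥H₀) : Subgroup ↥H₀) at h1
        rw [hg] at h1
        have h2 := (hQmem _).1 (Subgroup.mem_subgroupOf.1 h1)
        simp only [MulAut.smul_def, MulAut.conj_apply, Subgroup.coe_mul, InvMemClass.coe_inv] at h2
        convert h2 using 1; group
      obtain ⟨m, hm'⟩ : ∃ m : ↥H, m = h * (g : ↥H) := ⟨_, rfl⟩
      rw [← hm'] at hnorm ⊢
      have hφ : sg D S.σ (m : ↥(D.group k)) * (m : ↥(D.group k))⁻¹ ∈ (chevRel C k).UP :=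
        sg_mul_inv_mem_UP C S.σ hlq hone (Subgroup.mem_inf.1 hwM).2 (hnormB m hnorm)
          ((hmem₀ _).1 (hTH (hnorm _ hu₀)))
      obtain ⟨h1, h2⟩ := (chevRel C k).isUT_mat hφ
      show (rho' H S.σ m * rho H m⁻¹) A B = _
      rw [rho_apply C, rho'_apply C, InvMemClass.coe_inv, ← Rel.mat_mul]
      by_cases hAe : A = B
      · rw [if_pos hAe, hAe]; exact h1 B
      · rw [if_neg hAe]
        refine h2 A B hAe ?_
        simp only [chkUpper, List.all_eq_true, Bool.or_eq_true, Bool.and_eq_true, nat_beq_iff, nat_ble_iff,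
          nat_blt_iff] at hF
        rcases hF _ hAB with e | ⟨hr, hlt⟩
        · exact absurd (code_injective D e) hAe
        · cases A with
          | inl i => simp only [code_inl] at hr; exact absurd i.2 (not_lt.2 hr)
          | inr r =>
            cases B with
            | inl i => simp only [code_inl, code_inr] at hlt; have := i.2; omega
            | inr s =>
              simp only [code_inr] at hlt
              simp only [Rel.rk, Sum.elim_inr]
              split_ifs <;> omega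
  obtain ⟨n, hn⟩ : ∃ n : k, n = ((fixedCosets H₀ T).card : k) := ⟨_, rfl⟩
  have hn0 : n ≠ 0 := hn ▸ card_fixedCosets_ne_zero p H₀ hpT hindex
  obtain ⟨Tr, hTr⟩ : ∃ Tr, Tr = trace (rho H) (rho' H S.σ) H₀ hagree := ⟨_, rfl⟩
  have hint : ∀ g : ↥H, rho' H S.σ g * Tr = Tr * rho H g := fun g => hTr ▸ trace_intertwines _ _ _ hagree g
  have hzero : Tr - n • 1 = 0 := by
    refine eq_zero_of_commute C hm S.hQ hcom (fun a ha => ?_) fun A B hAB => ?_
    · have hr := S.row_mem_M ha (map_one S.σ)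
      have h := hint ⟨_, hMH hr⟩
      rw [rho_apply C, rho'_apply C, show sg D S.σ (listG C (S.row a) 1) = listG C (S.row a) 1 from
        (Subgroup.mem_inf.1 hr).2] at h
      exact Commute.sub_right h ((Commute.one_right _).smul_right n)
    · have h := trace_eq_card p (rho H) (rho' H S.σ) H₀ hagree hpT hTH _ (hkt A B hAB)
        (fun x hx => hfix x hx A B hAB)
      rw [← hTr, ← hn] at h
      change Tr A B = _ at h
      rw [Matrix.sub_apply, h, Matrix.smul_apply, Matrix.one_apply, smul_eq_mul, sub_self]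
  intro g hg
  refine Subgroup.mem_inf.2 ⟨hH hg, ?_⟩
  have h := hint ⟨g, hg⟩
  rw [sub_eq_zero.1 hzero, Algebra.mul_smul_comm, mul_one, Algebra.smul_mul_assoc, one_mul] at h
  exact Subtype.ext (Units.ext ((smul_right_injective _ hn0) h))

end TwCtx

end Twisted

end CfsgLib.Known.Overgroup
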