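import Cfsg.Agent.Lib.Known.Overgroup.Twisted.Descent
import Cfsg.Agent.Lib.Known.Overgroup.Twisted.Comm

/-!
# Parameters of row elements in an overgroup, and moving them by fixed Weyl elements
-/

set_option autoImplicit false

namespace CfsgLib.Known.Overgroup.Twisted

open Cfsg.Lie (ChevalleyDatum)
open CfsgLib.Lie.Chev
open CfsgLib.Known.ChevFold
open scoped Matrix

/-- the image of a signed root under a word in the fundamental reflections -/
def moveQ (X : Aux) : List ℕ → ℕ × ℤ → ℕ × ℤ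
  | [], q => q
  | i :: I, q => (X.w i (moveQ X I q).1, (moveQ X I q).2 * X.eta i (moveQ X I q).1)

/-- an orbit of fundamental roots: a plain row and the row of the negatives -/
def chkNodes (D Hd : ChevalleyDatum) (Q : List (List (ℕ × ℤ))) (o : ℕ × ℕ × List ℕ) : Bool :=
  Nat.blt o.1 Hd.nroots && Nat.blt o.2.1 Hd.nroots && (o.2.2.all fun i => Nat.blt i D.rank) &&
    decide (rowAt Q o.1 = o.2.2.map fun i => (D.simple i, (1 : ℤ))) &&
    (rowAt Q o.2.1).isPerm (o.2.2.map fun i => (D.neg (D.simple i), (1 : ℤ))) && decide o.2.2.Nodup &&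
    o.2.2.all fun i => o.2.2.all fun i' => Nat.beq i i' || twComm D 0 [D.simple i, D.neg (D.simple i')]

/-- a word of orbits carries the row `b` to a rotation of the row `b'` -/
def chkMove (D Hd : ChevalleyDatum) (X : Aux) (Q : List (List (ℕ × ℤ))) (os : List (ℕ × ℕ × List ℕ))
    (b b' j : ℕ) (ε : ℤ) : Bool :=
  (os.all fun o => chkNodes D Hd Q o) && Nat.blt b Hd.nroots && Nat.blt b' Hd.nroots &&
    Nat.ble j (rowAt Q b').length && decide (ε = 1 ∨ ε = -1) &&
    decide ((rowAt Q b).map (moveQ X (os.flatMap fun o => o.2.2)) =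
      ((rowAt Q b').rotate j).map fun q => (q.1, ε * q.2))

variable {D : ChevalleyDatum} {X : Aux} (C : Cert D X) {k : Type*} [Field k]

/-- product of `n_i(1)` -/
def prodN (I : List ℕ) : ↥(D.group k) := (I.map fun i => (chevRel C k).ne (D.simple i) 1).prod

include C

theorem w_lt' : ∀ (I : List ℕ), (∀ i ∈ I, i < D.rank) → ∀ q : ℕ × ℤ, q.1 < D.nroots →
    (moveQ X I q).1 < D.nroots
  | [], _, q, hq => hq
  | i :: I, hI, q, hq =>
    C.w_lt (hI i List.mem_cons_self) (w_lt' I (fun x hx => hI x (List.mem_cons_of_mem _ hx)) q hq)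

theorem prodN_conj_xe : ∀ (I : List ℕ), (∀ i ∈ I, i < D.rank) → ∀ (q : ℕ × ℤ) (t : k), q.1 < D.nroots →
    prodN C I * xG C k q.1 ((q.2 : k) * t) * (prodN C I)⁻¹ =
      xG C k (moveQ X I q).1 (((moveQ X I q).2 : k) * t)
  | [], _, q, t, _ => by simp [prodN, moveQ]
  | i :: I, hI, q, t, hq => by
    have hI' := fun x hx => hI x (List.mem_cons_of_mem _ hx)
    have hi := hI i List.mem_cons_self
    have ih := prodN_conj_xe I hI' q t hq
    have hr := w_lt' C I hI' q hq
    have h := (chevRel C k).nconj i (moveQ X I q).1 1 (((moveQ X I q).2 : k) * t) hi hr one_ne_zero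
    rw [one_zpow, mul_one] at h
    rw [prodN, List.map_cons, List.prod_cons, mul_inv_rev]
    calc (chevRel C k).ne (D.simple i) 1 * prodN C I * xG C k q.1 ((q.2 : k) * t) *
          ((prodN C I)⁻¹ * ((chevRel C k).ne (D.simple i) 1)⁻¹)
        = (chevRel C k).ne (D.simple i) 1 * (prodN C I * xG C k q.1 ((q.2 : k) * t) * (prodN C I)⁻¹) *
          ((chevRel C k).ne (D.simple i) 1)⁻¹ := by group
      _ = _ := by
          rw [ih]
          refine (mul_inv_eq_iff_eq_mul.2 h).trans ?_
          show xG C k _ _ = xG C k _ _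
          simp only [moveQ, Int.cast_mul]
          congr 1
          ring

/-- moving a twisted row -/
theorem prodN_conj_twList (σ : k →+* k) (I : List ℕ) (hI : ∀ i ∈ I, i < D.rank) :
    ∀ (L : List (ℕ × ℤ)) (v : k), (∀ q ∈ L, q.1 < D.nroots) →
      prodN C I * wordG C (twList σ L v) * (prodN C I)⁻¹ = wordG C (twList σ (L.map (moveQ X I)) v)
  | [], v, _ => by simp [twList, wordG]
  | q :: L, v, hL => by
    rw [List.map_cons, twList, twList, wordG_cons, wordG_cons, ← prodN_conj_xe C I hI q v (hL q List.mem_cons_self),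
      ← prodN_conj_twList σ I hI L (σ v) fun x hx => hL x (List.mem_cons_of_mem _ hx)]
    group

theorem prodN_append (I J : List ℕ) : prodN (k := k) C (I ++ J) = prodN C I * prodN C J := by
  simp [prodN]

omit C in
theorem twList_scale (σ : k →+* k) (ε : ℤ) : ∀ (L : List (ℕ × ℤ)) (v : k),
    twList σ (L.map fun q => (q.1, ε * q.2)) v = twList σ L ((ε : k) * v)
  | [], _ => rfl
  | q :: L, v => by
    simp only [List.map_cons, twList, twList_scale σ ε L, map_mul, map_intCast, Int.cast_mul]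
    congr 2
    ring

omit C in
theorem twList_plain (σ : k →+* k) : ∀ (L : List (ℕ × ℤ)) (v : k), σ v = v →
    twList σ L v = L.map fun q => (q.1, (q.2 : k) * v)
  | [], _, _ => rfl
  | q :: L, v, h => by rw [twList, List.map_cons, h, twList_plain σ L v h]

namespace TwCtx

variable {C} (S : TwCtx C k)

theorem twList_mem {a : ℕ} {v : k} {q : ℕ × k} (hq : q ∈ twList S.σ (S.row a) v) :
    q.1 ∈ (S.row a).map Prod.fst := by
  rw [← twList_fst S.σ (S.row a) v]
  exact List.mem_map_of_mem hq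

/-- twisted rows add -/
theorem twList_add {a : ℕ} (ha : a < S.Hd.nroots) (v w : k) :
    wordG C (twList S.σ (S.row a) v) * wordG C (twList S.σ (S.row a) w) =
      wordG C (twList S.σ (S.row a) (v + w)) := by
  suffices H : ∀ M : List (ℕ × ℤ), M ⊆ S.row a → ∀ v w : k,
      wordG C (twList S.σ M v) * wordG C (twList S.σ M w) = wordG C (twList S.σ M (v + w)) from
    H _ (List.Subset.refl _) v w
  intro M
  induction M with
  | nil => intro _ v w; simp [twList, wordG]
  | cons q M ih =>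
    intro hM v w
    rw [List.cons_subset] at hM
    have hc : Commute (wordG C (twList S.σ M (S.σ v))) (xG C k q.1 ((q.2 : k) * w)) := by
      refine Commute.list_prod_left _ _ fun x hx => ?_
      obtain ⟨y, hy, rfl⟩ := List.mem_map.1 hx
      have hy' : y.1 ∈ M.map Prod.fst := by
        rw [← twList_fst S.σ M (S.σ v)]
        exact List.mem_map_of_mem hy
      obtain ⟨z, hz, e⟩ := List.mem_map.1 hy'
      rw [← e]
      exact commute_of_twComm C (p := 0) Nat.cast_zero (rows_props S.hQ ha).2 (List.mem_map_of_mem (hM.2 hz))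
        (List.mem_map_of_mem hM.1) _ _
    rw [twList, twList, twList, wordG_cons, wordG_cons, wordG_cons, mul_assoc,
      ← mul_assoc (wordG C (twList S.σ M _)), hc.eq, mul_assoc, ← mul_assoc, ih hM.2, map_add]
    congr 1
    show (chevRel C k).xe q.1 _ * (chevRel C k).xe q.1 _ = (chevRel C k).xe q.1 _
    rw [(chevRel C k).xe_add', mul_add]

theorem twList_fixed (a : ℕ) {v : k} (hv : S.σ v = v) :
    wordG C (twList S.σ (S.row a) v) = listG C (S.row a) v := by
  rw [twList_plain S.σ _ v hv, listG_eq_wordG]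

/-- rotations of twisted rows -/
theorem wordG_rotate {a : ℕ} (ha : a < S.Hd.nroots) (hper : ∀ v : k, (⇑S.σ)^[(S.row a).length] v = v) :
    ∀ (j : ℕ) (v : k), wordG C (twList S.σ ((S.row a).rotate j) ((⇑S.σ)^[j] v)) =
      wordG C (twList S.σ (S.row a) v)
  | 0, v => by rw [List.rotate_zero, Function.iterate_zero, id_eq]
  | j + 1, v => by
    rw [← wordG_rotate ha hper j v, ← List.rotate_rotate, Function.iterate_succ_apply']
    have hp : (twList S.σ (((S.row a).rotate j).rotate 1) (S.σ ((⇑S.σ)^[j] v))).Perm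
        (twList S.σ ((S.row a).rotate j) ((⇑S.σ)^[j] v)) :=
      twList_rotate S.σ _ _ (by rw [List.length_rotate]; exact hper _)
    refine S.wordG_row_perm ha hp fun q hq => ?_
    have h1 := List.mem_map_of_mem (f := Prod.fst) hq
    rw [twList_fst, List.mem_map] at h1
    obtain ⟨x, hx, e⟩ := h1
    exact List.mem_map.2 ⟨x, List.mem_rotate.1 (List.mem_rotate.1 hx), e⟩

/-- the product over an orbit is a fixed point -/
theorem prodN_mem_M {o : ℕ × ℕ × List ℕ} (h : chkNodes D S.Hd S.Q o = true) : prodN C o.2.2 ∈ S.M := by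
  simp only [chkNodes, Bool.and_eq_true, List.all_eq_true, nat_blt_iff, decide_eq_true_eq, Bool.or_eq_true,
    nat_beq_iff] at h
  obtain ⟨⟨⟨⟨⟨⟨ha, hn⟩, hI⟩, hpos⟩, hperm⟩, hnd⟩, hcom⟩ := h
  rw [List.isPerm_iff] at hperm
  obtain ⟨A, hA⟩ : ∃ A : List ℕ → ↥(D.group k), A = fun I => listG C (I.map fun i => (D.simple i, (1 : ℤ))) 1 :=
    ⟨_, rfl⟩
  obtain ⟨B, hB⟩ : ∃ B : List ℕ → ↥(D.group k),
      B = fun I => listG C (I.map fun i => (D.neg (D.simple i), (1 : ℤ))) (-1) := ⟨_, rfl⟩
  have hcm : ∀ (i : ℕ) (I : List ℕ), i ∈ o.2.2 → I ⊆ o.2.2 → i ∉ I → ∀ s : k,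
      Commute (xG C k (D.simple i) s) (A I) ∧ Commute (xG C k (D.simple i) s) (B I) ∧
        Commute (xG C k (D.neg (D.simple i)) s) (A I) := by
    intro i I hi hI' hiI s
    have hcr : ∀ a ∈ o.2.2, ∀ b ∈ o.2.2, a ≠ b → ∀ t u : k,
        Commute (xG C k (D.simple a) t) (xG C k (D.neg (D.simple b)) u) := fun a ha b hb hab t u =>
      commute_of_twComm C (p := 0) Nat.cast_zero ((hcom a ha b hb).resolve_left hab) (by simp) (by simp) t u
    refine ⟨?_, ?_, ?_⟩
    · rw [hA]
      refine Commute.list_prod_right _ _ fun x hx => ?_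
      obtain ⟨q, hq, rfl⟩ := List.mem_map.1 hx
      obtain ⟨i', hi', rfl⟩ := List.mem_map.1 hq
      refine commute_of_twComm C (p := 0) Nat.cast_zero (rows_props S.hQ ha).2 ?_ ?_ _ _
      · rw [hpos, List.map_map]; exact List.mem_map.2 ⟨i, hi, rfl⟩
      · rw [hpos, List.map_map]; exact List.mem_map.2 ⟨i', hI' hi', rfl⟩
    · rw [hB]
      refine Commute.list_prod_right _ _ fun x hx => ?_
      obtain ⟨q, hq, rfl⟩ := List.mem_map.1 hx
      obtain ⟨i', hi', rfl⟩ := List.mem_map.1 hq
      exact hcr i hi i' (hI' hi') (fun e => hiI (e ▸ hi')) _ _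
    · rw [hA]
      refine Commute.list_prod_right _ _ fun x hx => ?_
      obtain ⟨q, hq, rfl⟩ := List.mem_map.1 hx
      obtain ⟨i', hi', rfl⟩ := List.mem_map.1 hq
      exact (hcr i' (hI' hi') i hi (fun e => hiI (e ▸ hi')) _ _).symm
  have key : ∀ I : List ℕ, I ⊆ o.2.2 → I.Nodup → prodN C I = A I * B I * A I := by
    intro I
    induction I with
    | nil => intro _ _; rw [hA, hB]; simp [prodN, listG]
    | cons i I ih =>
      intro hsub hnd'
      rw [List.cons_subset] at hsub
      rw [List.nodup_cons] at hnd'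
      obtain ⟨c1, c2, -⟩ := hcm i I hsub.1 hsub.2 hnd'.1 (1 : k)
      obtain ⟨-, -, d3⟩ := hcm i I hsub.1 hsub.2 hnd'.1 (-1 : k)
      have eA : A (i :: I) = xG C k (D.simple i) 1 * A I := by
        rw [hA]; simp [listG]
      have eB : B (i :: I) = xG C k (D.neg (D.simple i)) (-1) * B I := by
        rw [hB]; simp [listG]
      rw [prodN, List.map_cons, List.prod_cons, eA, eB, ← prodN, ih hsub.2 hnd'.2]
      show xG C k (D.simple i) 1 * xG C k (D.neg (D.simple i)) (-(1 : k)⁻¹) * xG C k (D.simple i) 1 *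
        (A I * B I * A I) = _
      rw [inv_one]
      obtain ⟨u, hu⟩ : ∃ u, u = xG C k (D.simple i) (1 : k) := ⟨_, rfl⟩
      obtain ⟨w, hw⟩ : ∃ w, w = xG C k (D.neg (D.simple i)) (-1 : k) := ⟨_, rfl⟩
      rw [← hu] at c1 c2 ⊢
      rw [← hw] at d3 ⊢
      calc u * w * u * (A I * B I * A I) = u * w * (u * (A I * B I)) * A I := by group
        _ = u * w * (A I * B I * u) * A I := by rw [(c1.mul_right c2).eq]
        _ = u * (w * A I) * B I * u * A I := by group
        _ = u * (A I * w) * B I * u * A I := by rw [d3.eq]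
        _ = u * A I * (w * B I) * (u * A I) := by group
  have hAM : A o.2.2 ∈ S.M := by
    rw [hA]
    show listG C _ 1 ∈ S.M
    rw [← hpos]
    exact S.row_mem_M ha (map_one _)
  have hBM : B o.2.2 ∈ S.M := by
    have e : B o.2.2 = listG C (S.row o.2.1) (-1) := by
      rw [hB]
      show listG C _ _ = _
      rw [listG_eq_wordG, listG_eq_wordG]
      refine (S.wordG_row_perm hn (hperm.map _) fun q hq => ?_).symm
      obtain ⟨x, hx, rfl⟩ := List.mem_map.1 hq
      exact List.mem_map_of_mem hx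
    rw [e]
    exact S.row_mem_M hn (by rw [map_neg, map_one])
  rw [key _ (List.Subset.refl _) hnd]
  exact mul_mem (mul_mem hAM hBM) hAM

variable {H : Subgroup ↥(D.group k)} (hMH : S.M ≤ H)
include hMH

/-- parameters move along -/
theorem move_mem {os : List (ℕ × ℕ × List ℕ)} {b b' j : ℕ} {ε : ℤ}
    (h : chkMove D S.Hd X S.Q os b b' j ε = true) (hper : ∀ v : k, (⇑S.σ)^[(S.row b').length] v = v) {v : k}
    (hv : wordG C (twList S.σ (S.row b) v) ∈ H) :
    wordG C (twList S.σ (S.row b') ((⇑S.σ)^[(S.row b').length - j] ((ε : k) * v))) ∈ H := by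
  simp only [chkMove, Bool.and_eq_true, List.all_eq_true, nat_blt_iff, nat_ble_iff, decide_eq_true_eq] at h
  obtain ⟨⟨⟨⟨⟨hos, hb⟩, hb'⟩, hj⟩, -⟩, himg⟩ := h
  have hI : ∀ i ∈ os.flatMap (fun o => o.2.2), i < D.rank := fun i hi => by
    obtain ⟨o, ho, hio⟩ := List.mem_flatMap.1 hi
    have h' := hos o ho
    simp only [chkNodes, Bool.and_eq_true, List.all_eq_true, nat_blt_iff] at h'
    exact h'.1.1.1.1.2 i hio
  have hnM : ∀ L : List (ℕ × ℕ × List ℕ), (∀ o ∈ L, o ∈ os) →
      prodN C (L.flatMap fun o => o.2.2) ∈ S.M := by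
    intro L
    induction L with
    | nil => intro _; simp [prodN, one_mem]
    | cons o L ihL =>
      intro hL
      rw [List.flatMap_cons, prodN_append]
      exact mul_mem (S.prodN_mem_M (hos o (hL o List.mem_cons_self)))
        (ihL fun x hx => hL x (List.mem_cons_of_mem _ hx))
  have hn := hMH (hnM os fun o ho => ho)
  have h1 := mul_mem (mul_mem hn hv) (inv_mem hn)
  rw [prodN_conj_twList C S.σ _ hI _ v fun q hq => ((S.row_spec hb).2.2.2 q hq).1] at h1
  change wordG C (twList S.σ ((rowAt S.Q b).map _) v) ∈ H at h1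
  rw [himg, twList_scale] at h1
  have h2 := S.wordG_rotate hb' hper j ((⇑S.σ)^[(S.row b').length - j] ((ε : k) * v))
  rw [← Function.iterate_add_apply, show j + ((S.row b').length - j) = (S.row b').length from
    Nat.add_sub_cancel' hj, hper] at h2
  rw [← h2]
  exact h1

/-- all parameters move along -/
theorem move_all {os : List (ℕ × ℕ × List ℕ)} {b b' j : ℕ} {ε : ℤ}
    (h : chkMove D S.Hd X S.Q os b b' j ε = true) (hper : ∀ v : k, (⇑S.σ)^[(S.row b').length] v = v)
    (hall : ∀ v : k, wordG C (twList S.σ (S.row b) v) ∈ H) (w : k) :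
    wordG C (twList S.σ (S.row b') w) ∈ H := by
  have h' := h
  simp only [chkMove, Bool.and_eq_true, List.all_eq_true, nat_blt_iff, nat_ble_iff, decide_eq_true_eq] at h'
  obtain ⟨⟨⟨-, hj⟩, hε⟩, -⟩ := h'
  have hv := S.move_mem hMH h hper (hall ((ε : k) * (⇑S.σ)^[j] w))
  have e : (ε : k) * ((ε : k) * (⇑S.σ)^[j] w) = (⇑S.σ)^[j] w := by
    rcases hε with e | e <;> simp [e]
  rw [e, ← Function.iterate_add_apply, show (S.row b').length - j + j = (S.row b').length from Nat.sub_add_cancel hj, hper] at hv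
  exact hv

/-- the parameters fixed by `σ` are always there -/
theorem fixed_mem {a : ℕ} (ha : a < S.Hd.nroots) {v : k} (hv : S.σ v = v) :
    wordG C (twList S.σ (S.row a) v) ∈ H := by
  rw [S.twList_fixed a hv]
  exact hMH (S.row_mem_M ha hv)

/-- scaling by the fixed field, through a torus element -/
theorem smul_mem {i a an b : ℕ} (hi : i < D.rank) (ha : a < S.Hd.nroots) (han : an < S.Hd.nroots)
    (hb : b < S.Hd.nroots) (hrow : S.row a = [(D.simple i, 1)])
    (hrown : S.row an = [(D.neg (D.simple i), 1)]) {e : ℤ} (he : e = 1 ∨ e = -1)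
    (hcart : ∀ q ∈ S.row b, D.cartan i q.1 = e) {c v : k} (hc : S.σ c = c)
    (hv : wordG C (twList S.σ (S.row b) v) ∈ H) : wordG C (twList S.σ (S.row b) (c * v)) ∈ H := by
  by_cases hc0 : c = 0
  · rw [hc0, zero_mul]
    exact S.fixed_mem hMH hb (map_zero _)
  obtain ⟨d, hd0, hdf, hde⟩ : ∃ d : k, d ≠ 0 ∧ S.σ d = d ∧ d ^ e = c := by
    rcases he with rfl | rfl
    · exact ⟨c, hc0, hc, zpow_one c⟩
    · exact ⟨c⁻¹, inv_ne_zero hc0, by rw [map_inv₀, hc], by rw [zpow_neg, zpow_one, inv_inv]⟩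
  have hx : ∀ t : k, S.σ t = t → xG C k (D.simple i) t ∈ H ∧ xG C k (D.neg (D.simple i)) t ∈ H := fun t ht' => by
    have h1 := hMH (S.row_mem_M ha ht')
    have h2 := hMH (S.row_mem_M han ht')
    rw [hrow] at h1
    rw [hrown] at h2
    simp only [listG, List.map_cons, List.map_nil, List.prod_cons, List.prod_nil, mul_one, Int.cast_one,
      one_mul] at h1 h2
    exact ⟨h1, h2⟩
  have hne : ∀ t : k, S.σ t = t → (chevRel C k).ne (D.simple i) t ∈ H := fun t ht' =>
    mul_mem (mul_mem (hx t ht').1 (hx _ (by rw [map_neg, map_inv₀, ht'])).2) (hx t ht').1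
  have hh : (chevRel C k).he (D.simple i) d ∈ H :=
    mul_mem (hne d hdf) (hne (-1) (by rw [map_neg, map_one]))
  obtain ⟨g, hg, hmon⟩ : ∃ g, g = (chevRel C k).he (D.simple i) d ∧
      (chevRel C k).IsMon g 1 fun r => d ^ D.cartan i r :=
    ⟨_, rfl, (chevRel C k).isMon_he_simple ⟨i, hi⟩ hd0⟩
  have key : ∀ (L : List (ℕ × ℤ)) (u : k), (∀ q ∈ L, q ∈ S.row b) →
      g * wordG C (twList S.σ L u) * g⁻¹ = wordG C (twList S.σ L (c * u)) := by
    intro L
    induction L with
    | nil => intro u _; simp [twList, wordG]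
    | cons q L ih =>
      intro u hL
      have hqb := hL q List.mem_cons_self
      have h1 := (hmon ⟨q.1, ((S.row_spec hb).2.2.2 q hqb).1⟩).2.2.2 ((q.2 : k) * u)
      simp only [Equiv.Perm.coe_one, id_eq, hcart q hqb, hde] at h1
      rw [twList, twList, wordG_cons, wordG_cons, map_mul, hc, ← ih (S.σ u) fun x hx => hL x (List.mem_cons_of_mem _ hx)]
      show g * ((chevRel C k).xe q.1 _ * _) * g⁻¹ = (chevRel C k).xe q.1 _ * _
      rw [mul_left_comm (q.2 : k) c u, ← h1]
      group
  rw [← key (S.row b) v fun q hq => hq, hg]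
  exact mul_mem (mul_mem hh hv) (inv_mem hh)

end TwCtx

end CfsgLib.Known.Overgroup.Twisted
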