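import Cfsg.Agent.Lib.Known.Overgroup.Twisted.Descent
import Cfsg.Agent.Lib.Known.Overgroup.Twisted.Comm

/-!
# The positive unipotent points over the fixed field are generated by rows
-/

set_option autoImplicit false

namespace CfsgLib.Known.Overgroup.Twisted

open Cfsg.Lie (ChevalleyDatum)
open CfsgLib.Lie.Chev
open CfsgLib.Known.ChevFold
open scoped Matrix

namespace TwCtx

variable {D : ChevalleyDatum} {X : Aux} {C : Cert D X} {k : Type*} [Field k] (S : TwCtx C k)

/-- a subgroup containing all positive rows contains the positive unipotent points -/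
theorem UM_le {mo ex : ℕ} {Ls : List (List (ℕ × List (ℕ × ℕ × ℤ)))}
    (hchk : chkDescT D S.Hd X mo S.T S.Q ex Ls = true) {N : Subgroup ↥(D.group k)}
    (hN : ∀ a, a < S.Hd.nroots → half S.Hd ≤ a → ∀ t : k, S.σ t = t → rowG C S.Q a t ∈ N) :
    S.UM ≤ N := by
  classical
  simp only [chkDescT, Bool.and_eq_true, List.all_eq_true, List.mem_range, decide_eq_true_eq, Bool.or_eq_true,
    nat_blt_iff, nat_beq_iff] at hchk
  obtain ⟨⟨⟨-, hbound⟩, -⟩, hlevels⟩ := hchk
  have key : ∀ (j : ℕ) (i : ℕ), j + i = Ls.length → ∀ z ∈ S.M, z ∈ (rawG C).RS (hS D X ((i : ℤ) + 1)) →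
      z ∈ N := by
    intro j
    induction j with
    | zero =>
      intro i hi z _ hz
      have : (rawG (F := k) C).RS (hS D X ((i : ℤ) + 1)) ≤ ⊥ := (rawG C).RS_le fun r (hr : _ ≤ ht D X r) t => by
        have := hbound r r.2
        omega
      rw [show z = 1 by simpa using this hz]
      exact one_mem _
    | succ j ih =>
      intro i hi z hzM hz
      obtain ⟨m, hmi⟩ : ∃ m : ℤ, m = (i : ℤ) + 1 := ⟨_, rfl⟩
      rw [← hmi] at hz
      have hm : 1 ≤ m := by omega
      obtain ⟨hzP, hzr⟩ := Subgroup.mem_inf.1 hzM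
      have hfix : S.τ z = z := S.hP z hzP
      have hex' : ∀ r, ∃ v, ∀ s : Fin D.nroots, (s : ℕ) = r → ht D X s = m → HasCoef C z s v := fun r => by
        by_cases h : ∃ s : Fin D.nroots, (s : ℕ) = r ∧ ht D X s = m
        · obtain ⟨s, rfl, hs⟩ := h
          obtain ⟨v, hv⟩ := exists_hasCoef C hm hz hs
          exact ⟨v, fun s' e _ => Fin.ext e ▸ hv⟩
        · exact ⟨0, fun s e hs => absurd ⟨s, e, hs⟩ h⟩
      choose t ht0 using hex'
      have ht' : ∀ s : Fin D.nroots, ht D X s = m → HasCoef C z s (t s) := fun s hs => ht0 s s rfl hs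
      have hσt : ∀ s : Fin D.nroots, ht D X s = m → S.σ (t s) = t s := fun s hs => by
        have h := hasCoef_sg C S.σ (ht' s hs)
        rw [show sg D S.σ z = z from hzr] at h
        exact hasCoef_unique C h (ht' s hs)
      have hl := hlevels i (by omega)
      rw [← hmi] at hl
      simp only [chkLevel, Bool.and_eq_true, decide_eq_true_eq] at hl
      obtain ⟨-, hnd⟩ := hl
      have hlr : ∀ a ∈ levelRows D S.Hd X S.Q m, a < S.Hd.nroots ∧ ∀ q ∈ S.row a, ht D X q.1 = m := fun a ha => by
        simp only [levelRows, List.mem_filter, List.mem_range, List.all_eq_true, decide_eq_true_eq] at ha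
        exact ha
      let val : ℕ → k := fun a => (((S.row a).headD (0, 0)).2 : k) * t ((S.row a).headD (0, 0)).1
      have hval : ∀ a ∈ levelRows D S.Hd X S.Q m, half S.Hd ≤ a ∧ S.σ (val a) = val a ∧
          ∀ q ∈ S.row a, (q.2 : k) * t q.1 = val a := by
        intro a ha
        obtain ⟨halt, hah⟩ := hlr a ha
        have hmem : (S.row a).headD (0, 0) ∈ S.row a := by
          obtain ⟨q, L, e⟩ := List.exists_cons_of_ne_nil (S.row_spec halt).2.1
          simp [e]
        obtain ⟨hq1, -, hq3, -⟩ := (S.row_spec halt).2.2.2 _ hmem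
        have hσ : S.σ (val a) = val a := by
          simp only [val, map_mul, map_intCast, hσt ⟨_, hq1⟩ (hah _ hmem)]
        refine ⟨hq3.1 (pos_of_ht C (r := ⟨_, hq1⟩) (show 1 ≤ _ by rw [hah _ hmem]; exact hm)), hσ,
          fun q hq => ?_⟩
        obtain ⟨j', hj, rfl⟩ := List.mem_iff_getElem.1 hq
        rw [(S.coef_row hm hz hfix ht' halt hah).2 j' hj]
        exact Function.iterate_fixed hσ j'
      obtain ⟨Fl, hFl⟩ : ∃ Fl, Fl = (levelRows D S.Hd X S.Q m).flatMap fun a =>
        (S.row a).map fun q => (q.1, (q.2 : k) * val a) := ⟨_, rfl⟩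
      have hfMN : wordG C Fl ∈ S.M ⊓ N := by
        rw [hFl]
        have : ∀ L : List ℕ, (∀ a ∈ L, a ∈ levelRows D S.Hd X S.Q m) →
            wordG C (L.flatMap fun a => (S.row a).map fun q => (q.1, (q.2 : k) * val a)) ∈ S.M ⊓ N := by
          intro L
          induction L with
          | nil => intro _; simp [wordG, one_mem]
          | cons a L ihL =>
            intro hL
            have hfl : ∀ l l' : List (ℕ × k), wordG C (l ++ l') = wordG C l * wordG C l' := fun l l' => by
              simp [wordG]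
            rw [List.flatMap_cons, hfl, ← listG_eq_wordG]
            have ha := hL a List.mem_cons_self
            obtain ⟨hpos, hσ, -⟩ := hval a ha
            exact mul_mem (Subgroup.mem_inf.2 ⟨S.row_mem_M (hlr a ha).1 hσ, hN a (hlr a ha).1 hpos _ hσ⟩)
              (ihL fun x hx => hL x (List.mem_cons_of_mem _ hx))
        exact this _ fun a ha => ha
      have hFlm : ∀ q ∈ Fl, q.1 < D.nroots ∧ m ≤ ht D X q.1 := fun q hq => by
        rw [hFl, List.mem_flatMap] at hq
        obtain ⟨a, ha, hq⟩ := hq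
        obtain ⟨x, hx, rfl⟩ := List.mem_map.1 hq
        obtain ⟨halt, hah⟩ := hlr a ha
        exact ⟨((S.row_spec halt).2.2.2 x hx).1, (hah x hx).ge⟩
      obtain ⟨hfR, hfc⟩ := hasCoef_wordG C hm Fl hFlm
      have hFnd : (Fl.map Prod.fst).Nodup := by
        rw [hFl, List.map_flatMap]
        simp only [List.map_map, Function.comp_def]
        exact hnd
      obtain ⟨z', hz'⟩ : ∃ z', z' = (wordG C Fl)⁻¹ * z := ⟨_, rfl⟩
      have hz'R : z' ∈ (rawG C).RS (hS D X m) := hz' ▸ mul_mem (inv_mem hfR) hz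
      have hz'S : z' ∈ (rawG C).RS (hS D X (m + 1)) := by
        refine mem_succ_of_coef (C := C) hm hz'R fun r hr => ?_
        obtain ⟨v, hv⟩ := exists_hasCoef C hm hz'R hr
        have h1 := hasCoef_mul C hm hfR hz'R hr (hfc r hr) hv
        rw [show wordG C Fl * z' = z by rw [hz', mul_inv_cancel_left]] at h1
        have h2 := hasCoef_unique C (ht' r hr) h1
        obtain ⟨-, -, -, a, ha, q, hq, hqr⟩ := S.tw_spec r.2
        have hal : a ∈ levelRows D S.Hd X S.Q m := by
          simp only [levelRows, List.mem_filter, List.mem_range, List.all_eq_true, decide_eq_true_eq]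
          refine ⟨ha, fun x hx => ?_⟩
          rw [((S.row_spec ha).2.2.2 x hx).2.2.2 q hq, hqr]
          exact hr
        have hqF : (q.1, (q.2 : k) * val a) ∈ Fl := by
          rw [hFl, List.mem_flatMap]
          exact ⟨a, hal, List.mem_map.2 ⟨q, hq, rfl⟩⟩
        have h3 := sum_ite_of_mem Fl hFnd _ hqF
        simp only [hqr] at h3
        rw [h3, ← (hval a hal).2.2 q hq, hqr, ← mul_assoc] at h2
        have h4 : ((q.2 : k) * (q.2 : k)) = 1 := by
          rcases ((S.row_spec ha).2.2.2 q hq).2.1 with e | e <;> simp [e]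
        rw [h4, one_mul] at h2
        rw [left_eq_add] at h2
        exact h2 ▸ hv
      obtain ⟨hfM, hfN⟩ := Subgroup.mem_inf.1 hfMN
      rw [show z = wordG C Fl * z' by rw [hz', mul_inv_cancel_left]]
      exact mul_mem hfN (ih (i + 1) (by omega) z' (hz' ▸ mul_mem (inv_mem hfM) hzM)
        (by push_cast; rw [← hmi]; exact hz'S))
  intro z hz
  obtain ⟨hzU, hzM⟩ := Subgroup.mem_inf.1 hz
  exact key Ls.length 0 rfl z hzM (by
    have := RS_eq_UP (k := k) C ▸ hzU
    simpa using this)

end TwCtx

end CfsgLib.Known.Overgroup.Twisted
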