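import Cfsg.Agent.Lib.Known.Overgroup.Twisted.Basic

/-!
# From the subgroup of the Chevalley group to matrix groups
-/

set_option autoImplicit false

namespace CfsgLib.Known.Overgroup.Twisted

open Cfsg.Lie (ChevalleyDatum)
open CfsgLib.Lie.Chev

variable {D : ChevalleyDatum} {X : Aux} {C : Cert D X} {k : Type*} [Field k]

/-- maximality of the subfield points as matrix groups -/
theorem maximal_of_ctx (S : TwCtx C k) {q : ℕ} (hσ : ∀ x, S.σ x = x ^ q) {G M : Subgroup (GL D.Idx k)}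
    (hG : G ≤ D.group k) (hP : S.P = G.subgroupOf (D.group k))
    (hM : ∀ g : GL D.Idx k, g ∈ M ↔ g ∈ G ∧ ∀ i j : D.Idx,
      ((g : Matrix D.Idx D.Idx k) i j) ^ q = (g : Matrix D.Idx D.Idx k) i j)
    (h : S.M ≠ S.P ∧ ∀ H : Subgroup ↥(D.group k), S.M ≤ H → H ≤ S.P → H = S.M ∨ H = S.P) :
    M ≠ G ∧ ∀ H : Subgroup (GL D.Idx k), M ≤ H → H ≤ G → H = M ∨ H = G := by
  have hMG : M ≤ G := fun g hg => ((hM g).1 hg).1
  have e : M.subgroupOf (D.group k) = S.M := by
    ext g
    rw [TwCtx.M, Subgroup.mem_inf, Subgroup.mem_subgroupOf, hM, hP, Subgroup.mem_subgroupOf]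
    refine and_congr_right fun _ => ⟨fun hg => mem_rat.2 ?_, fun hg i j => ?_⟩
    · refine Subtype.ext (Units.ext ?_)
      rw [sg_val]
      ext i j
      rw [Matrix.map_apply, hσ]
      exact hg i j
    · have h' := congrArg (fun x : ↥(D.group k) => ((x : GL D.Idx k) : Matrix D.Idx D.Idx k) i j) (mem_rat.1 hg)
      simp only [sg_val, Matrix.map_apply, hσ] at h'
      exact h'
  have inj : ∀ {A B : Subgroup (GL D.Idx k)}, A ≤ D.group k → B ≤ D.group k →
      A.subgroupOf (D.group k) = B.subgroupOf (D.group k) → A = B := fun {A B} hA hB hAB => by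
    rw [← Subgroup.map_subgroupOf_eq_of_le hA, hAB, Subgroup.map_subgroupOf_eq_of_le hB]
  refine ⟨fun he => h.1 (by rw [← e, he, hP]), fun H hMH hHG => ?_⟩
  have hH := hHG.trans hG
  rcases h.2 (H.subgroupOf (D.group k)) (e ▸ Subgroup.comap_mono hMH) (hP ▸ Subgroup.comap_mono hHG) with h' | h'
  · exact Or.inl (inj hH (hMG.trans hG) (h'.trans e.symm))
  · exact Or.inr (inj hH hG (h'.trans hP))

end CfsgLib.Known.Overgroup.Twisted
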